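import Groth.Agent.SymAlg.FTSub
import Groth.Agent.SymAlg.CanonGen
import Groth.Agent.SymAlg.ProjHProj
import Groth.Agent.S12478

/-!
# Quasi-projective morphisms as opens of projective morphisms
-/

set_option autoImplicit false
set_option linter.style.haveILetI false
set_option backward.isDefEq.respectTransparency false

universe u

open CategoryTheory CategoryTheory.Limits AlgebraicGeometry TopologicalSpace Opposite

noncomputable section

namespace Groth.Agent.Nagata

variable {X Y : Scheme.{u}}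

/-- A quasi-projective morphism is an immersion followed by a projective morphism. -/
theorem exists_immersion_projective [CompactSpace Y] [QuasiSeparatedSpace Y] {q : X ⟶ Y} (hq : RelProj.IsQuasiProjective q) :
    ∃ (P : Scheme.{u}) (p : P ⟶ Y) (i : X ⟶ P), RelProj.IsProjective p ∧ IsImmersion i ∧ QuasiCompact i ∧ i ≫ p = q := by
  obtain ⟨_, _, L₀, hL₀⟩ := hq
  have hL₀i := TMul.isInvertible_of_isRelAmple hL₀
  obtain ⟨n, -, h⟩ := Groth.Agent.S12478.result q L₀ hL₀i hL₀
  have hL := TMul.isInvertible_tensorPow hL₀i n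
  have hLq := TMul.isQCoh_of_isInvertible hL
  obtain ⟨𝒮L, jL, hjL⟩ := Groth.Agent.SymAlg.exists_isGrSymAlg hLq
  obtain ⟨PL, pL, chartL, hPL⟩ := Groth.Agent.RelProjLib.exists_isRelProj 𝒮L
  obtain ⟨E, hEq, hEft, ι, hι, 𝒯, jE, hjE, u, hu, hs, hd⟩ :=
    Groth.Agent.SymAlg.exists_ft_veryAmple q hL hLq hjL (h n le_rfl)
  obtain ⟨P, p, chart, hP⟩ := Groth.Agent.RelProjLib.exists_isRelProj 𝒯
  obtain ⟨r, hr, -⟩ := Groth.Agent.RelProjLib.existsUnique_qmap u hP hPL
  obtain ⟨htop, hri⟩ := Groth.Agent.SymAlg.Rel.isImmersion_of_immData hL hLq hjL u hPL hr hP hd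
  haveI := hri
  haveI := Groth.Agent.SymAlg.isIso_pL hL hLq hjL hPL
  haveI : IsIso (RelProj.domQ u pL chartL).ι := by
    rw [htop]; exact (Scheme.topIso PL).isIso_hom
  let i := inv pL ≫ inv (RelProj.domQ u pL chartL).ι ≫ r
  have hproj : RelProj.IsProjective p :=
    Groth.Agent.SymAlg.isProjective_of_closedImm_bundle hEq hEft hjE hP (𝟙 P) (Category.id_comp _)
  haveI : IsProper p := (Groth.Agent.SymAlg.isProper_and_ftData_of_isProjective hproj).1
  have hip : i ≫ p = q := by
    simp only [i]
    rw [Category.assoc, Category.assoc, Groth.Agent.RelProjLib.qmap_over u hP hPL hr, IsIso.inv_hom_id_assoc,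
      IsIso.inv_hom_id_assoc]
  haveI : QuasiCompact (i ≫ p) := hip ▸ inferInstance
  exact ⟨P, p, i, hproj, inferInstance, QuasiCompact.of_comp i p, hip⟩

/-- A quasi-projective morphism is a dense open of a projective one. -/
theorem exists_open_projective [CompactSpace Y] [QuasiSeparatedSpace Y] {q : X ⟶ Y} (hq : RelProj.IsQuasiProjective q) :
    ∃ (P : Scheme.{u}) (p : P ⟶ Y) (j : X ⟶ P), RelProj.IsProjective p ∧ IsOpenImmersion j ∧ QuasiCompact j ∧
      DenseRange j.base ∧ j ≫ p = q := by
  obtain ⟨P, p, i, hp, _, _, hip⟩ := exists_immersion_projective hq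
  haveI : QuasiCompact (i.toImage ≫ i.imageι) := by rw [Scheme.Hom.toImage_imageι]; infer_instance
  exact ⟨i.image, i.imageι ≫ p, i.toImage, Groth.Agent.SymAlg.isProjective_closedImm_comp i.imageι hp, inferInstance,
    QuasiCompact.of_comp i.toImage i.imageι, Scheme.Hom.denseRange _, by rw [Scheme.Hom.toImage_imageι_assoc, hip]⟩

/-- A quasi-compact immersion into a projective scheme is quasi-projective. -/
theorem isQuasiProjective_of_immersion_projective [CompactSpace Y] {P : Scheme.{u}} {p : P ⟶ Y} (hp : RelProj.IsProjective p)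
    (i : X ⟶ P) [IsImmersion i] [QuasiCompact i] : RelProj.IsQuasiProjective (i ≫ p) := by
  obtain ⟨_, L, hL⟩ := Groth.Agent.SymAlg.isProper_and_ftData_of_isProjective hp
  exact ⟨inferInstance, inferInstance, _, Groth.Agent.SymAlg.isRelAmple_of_isRelVeryAmple (i ≫ p)
    (PicLoc.isInvertible_pullback i hL.1) (Groth.Agent.SymAlg.isRelVeryAmple_comp_immersion i hL.isRelVeryAmple)⟩

end Groth.Agent.Nagata
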