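import Groth.Agent.S1280
import Groth.Agent.RZUnion.Two
import Groth.Agent.Chow.Pieces
import Groth.Agent.Chow.Core

/-!
# Compactifications over a Noetherian base
-/

set_option autoImplicit false
set_option linter.style.haveILetI false
set_option backward.isDefEq.respectTransparency false
set_option backward.isDefEq.respectTransparency.types false

universe u

open CategoryTheory CategoryTheory.Limits AlgebraicGeometry TopologicalSpace Topology

noncomputable section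

namespace Groth.Agent.Nagata

variable {U S : Scheme.{u}}

/-- The morphism has a compactification. -/
def Comp (g : U ⟶ S) : Prop :=
  ∃ (Y : Scheme.{u}) (j : U ⟶ Y) (p : Y ⟶ S), IsOpenImmersion j ∧ QuasiCompact j ∧ IsProper p ∧ j ≫ p = g

theorem comp_of_immersion {P : Scheme.{u}} (g : U ⟶ S) (k : U ⟶ P) [IsImmersion k] [QuasiCompact k] (t : P ⟶ S)
    [IsProper t] (h : k ≫ t = g) : Comp g := by
  refine ⟨k.image, k.toImage, k.imageι ≫ t, inferInstance, ?_, inferInstance,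
    by rw [Scheme.Hom.toImage_imageι_assoc, h]⟩
  haveI : QuasiCompact (k.toImage ≫ k.imageι) := by rw [Scheme.Hom.toImage_imageι]; infer_instance
  exact QuasiCompact.of_comp k.toImage k.imageι

theorem comp_of_range {A B : Scheme.{u}} (g : U ⟶ S) (a : A ⟶ U) (b : B ⟶ U) [IsOpenImmersion a] [IsOpenImmersion b]
    [QuasiCompact b] (hr : Set.range b ⊆ Set.range a) (h : Comp (a ≫ g)) : Comp (b ≫ g) := by
  obtain ⟨Y, j, p, _, _, _, hj⟩ := h
  let l := IsOpenImmersion.lift a b hr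
  have hl : l ≫ a = b := IsOpenImmersion.lift_fac _ _ _
  haveI : IsOpenImmersion (l ≫ a) := by rw [hl]; infer_instance
  haveI : IsOpenImmersion l := IsOpenImmersion.of_comp l a
  haveI : QuasiCompact (l ≫ a) := by rw [hl]; infer_instance
  haveI : QuasiCompact l := QuasiCompact.of_comp l a
  exact ⟨Y, l ≫ j, p, inferInstance, inferInstance, inferInstance, by rw [Category.assoc, hj, reassoc_of% hl]⟩

theorem quasiCompact_ι [IsNoetherian U] (V : U.Opens) : QuasiCompact V.ι :=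
  haveI : CompactSpace V.toScheme := isCompact_iff_compactSpace.1 (NoetherianSpace.isCompact _)
  quasiCompact_of_compactSpace _

theorem comp_disjoint [IsNoetherian U] [QuasiSeparatedSpace S] (g : U ⟶ S) (V₁ V₂ : U.Opens)
    (hV : ∀ x, x ∈ V₁ ∨ x ∈ V₂) (hd : Disjoint (V₁ : Set U) V₂) (h₁ : Comp (V₁.ι ≫ g)) (h₂ : Comp (V₂.ι ≫ g)) :
    Comp g := by
  obtain ⟨Y₁, j₁, p₁, _, _, _, hj₁⟩ := h₁
  obtain ⟨Y₂, j₂, p₂, _, _, _, hj₂⟩ := h₂
  obtain ⟨F, hF₁, hF₂⟩ := RZUnion.exists_glue_two V₁ V₂ hV (j₁ ≫ coprod.inl) (j₂ ≫ coprod.inr) fun {Z} z₁ z₂ hz => by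
    haveI : IsEmpty Z := ⟨fun z => Set.disjoint_left.1 hd (z₁ z).2 (by
      have h := congrArg (fun k : Z ⟶ U => k z) hz
      simp only [Scheme.Hom.comp_apply] at h
      show V₁.ι (z₁ z) ∈ V₂
      rw [h]
      exact (z₂ z).2)⟩
    exact isInitialOfIsEmpty.hom_ext _ _
  haveI : IsOpenImmersion (V₁.ι ≫ F) := by rw [hF₁]; infer_instance
  haveI : IsOpenImmersion (V₂.ι ≫ F) := by rw [hF₂]; infer_instance
  haveI : IsOpenImmersion F := RZUnion.isOpenImmersion_two V₁ V₂ hV F fun x y hx hy h => by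
    exfalso
    refine inl_ne_inr Y₁ Y₂ (j₁ ⟨x, hx⟩) (j₂ ⟨y, hy⟩) ?_
    rw [← Scheme.Hom.comp_apply, ← hF₁, ← Scheme.Hom.comp_apply, ← hF₂]
    exact h
  haveI : IsProper (coprod.desc p₁ p₂) := by
    haveI : IsProper (coprod.map p₁ p₂) := IsZariskiLocalAtTarget.coprodMap _ _ ‹_› ‹_›
    rw [show coprod.desc p₁ p₂ = coprod.map p₁ p₂ ≫ coprod.desc (𝟙 S) (𝟙 S) by
      rw [coprod.map_desc, Category.comp_id, Category.comp_id]]
    infer_instance
  haveI : QuasiSeparatedSpace (Y₁ ⨿ Y₂ : Scheme.{u}) := quasiSeparatedSpace_of_quasiSeparated (coprod.desc p₁ p₂)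
  refine ⟨_, F, coprod.desc p₁ p₂, inferInstance, quasiCompact_of_compactSpace F, inferInstance,
    RZUnion.hom_ext_two V₁ V₂ hV _ _ ?_ ?_⟩
  · rw [reassoc_of% hF₁, coprod.inl_desc, hj₁]
  · rw [reassoc_of% hF₂, coprod.inr_desc, hj₂]

theorem comp_sup_disjoint [IsNoetherian U] [QuasiSeparatedSpace S] (g : U ⟶ S) (V₁ V₂ : U.Opens)
    (hd : Disjoint (V₁ : Set U) V₂) (h₁ : Comp (V₁.ι ≫ g)) (h₂ : Comp (V₂.ι ≫ g)) : Comp ((V₁ ⊔ V₂).ι ≫ g) := by
  let W := V₁ ⊔ V₂
  haveI := quasiCompact_ι W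
  haveI : CompactSpace W.toScheme := isCompact_iff_compactSpace.1 (NoetherianSpace.isCompact _)
  haveI : IsNoetherian W.toScheme := {}
  have tr : ∀ (V : U.Opens), Comp (V.ι ≫ g) → Comp ((W.ι ⁻¹ᵁ V).ι ≫ W.ι ≫ g) := fun V h => by
    haveI := quasiCompact_ι (W.ι ⁻¹ᵁ V)
    rw [← Category.assoc]
    refine comp_of_range g V.ι _ ?_ h
    rintro _ ⟨x, rfl⟩
    rw [Scheme.Opens.range_ι]
    exact x.2
  exact comp_disjoint (W.ι ≫ g) (W.ι ⁻¹ᵁ V₁) (W.ι ⁻¹ᵁ V₂) (fun x => Opens.mem_sup.1 x.2)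
    (Set.disjoint_left.2 fun x hx hx' => Set.disjoint_left.1 hd hx hx') (tr _ h₁) (tr _ h₂)

/-- A scheme which is the union of two opens with compactifications has one. -/
theorem comp_union [IsNoetherian S] (g : U ⟶ S) [IsSeparated g] [LocallyOfFiniteType g] [QuasiCompact g]
    (V₁ V₂ : U.Opens) (hV : V₁ ⊔ V₂ = ⊤) (h₁ : Comp (V₁.ι ≫ g)) (h₂ : Comp (V₂.ι ≫ g)) : Comp g := by
  haveI : CompactSpace U := QuasiCompact.compactSpace_of_compactSpace g
  haveI := LocallyOfFiniteType.isLocallyNoetherian g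
  haveI : IsNoetherian U := {}
  have dense_open : ∀ (A B : U.Opens), A ⊔ B = ⊤ → Comp (A.ι ≫ g) → Comp (B.ι ≫ g) →
      ∃ A' : U.Opens, A ≤ A' ∧ Dense (A' : Set U) ∧ Comp (A'.ι ≫ g) := fun A B hAB hA hB => by
    let O : U.Opens := ⟨(closure (A : Set U))ᶜ, isClosed_closure.isOpen_compl⟩
    refine ⟨A ⊔ O, le_sup_left, ?_, comp_sup_disjoint g A O
      (Set.disjoint_left.2 fun x hx hx' => hx' (subset_closure hx)) hA ?_⟩
    · intro x
      by_cases hx : x ∈ closure (A : Set U)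
      · exact closure_mono (fun y hy => Or.inl hy) hx
      · exact subset_closure (Or.inr hx)
    · haveI := quasiCompact_ι O
      refine comp_of_range g B.ι O.ι ?_ hB
      rw [Scheme.Opens.range_ι, Scheme.Opens.range_ι]
      intro x hx
      exact (Opens.mem_sup.1 (hAB.ge (Set.mem_univ x) : x ∈ A ⊔ B)).resolve_left fun h => hx (subset_closure h)
  obtain ⟨A₁, le₁, hd₁, hA₁⟩ := dense_open V₁ V₂ hV h₁ h₂
  obtain ⟨A₂, le₂, hd₂, hA₂⟩ := dense_open V₂ V₁ ((sup_comm _ _).trans hV) h₂ h₁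
  exact S1280.result g A₁ A₂ (top_le_iff.1 (hV.ge.trans (sup_le_sup le₁ le₂)))
    (hd₁.inter_of_isOpen_left hd₂ A₁.2) hA₁ hA₂

theorem comp_sup [IsNoetherian S] (g : U ⟶ S) [IsSeparated g] [LocallyOfFiniteType g] [QuasiCompact g]
    (V₁ V₂ : U.Opens) (h₁ : Comp (V₁.ι ≫ g)) (h₂ : Comp (V₂.ι ≫ g)) : Comp ((V₁ ⊔ V₂).ι ≫ g) := by
  haveI : CompactSpace U := QuasiCompact.compactSpace_of_compactSpace g
  haveI := LocallyOfFiniteType.isLocallyNoetherian g
  haveI : IsNoetherian U := {}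
  let W := V₁ ⊔ V₂
  haveI := quasiCompact_ι W
  haveI : CompactSpace W.toScheme := isCompact_iff_compactSpace.1 (NoetherianSpace.isCompact _)
  haveI : IsNoetherian W.toScheme := {}
  have tr : ∀ (V : U.Opens), Comp (V.ι ≫ g) → Comp ((W.ι ⁻¹ᵁ V).ι ≫ W.ι ≫ g) := fun V h => by
    haveI := quasiCompact_ι (W.ι ⁻¹ᵁ V)
    rw [← Category.assoc]
    refine comp_of_range g V.ι _ ?_ h
    rintro _ ⟨x, rfl⟩
    rw [Scheme.Opens.range_ι]
    exact x.2
  exact comp_union (W.ι ≫ g) (W.ι ⁻¹ᵁ V₁) (W.ι ⁻¹ᵁ V₂) (top_le_iff.1 fun x _ => Opens.mem_sup.2 (Opens.mem_sup.1 x.2))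
    (tr _ h₁) (tr _ h₂)

/-- An affine scheme lying over an affine open has a compactification. -/
theorem comp_affine [CompactSpace S] [QuasiSeparatedSpace S] (g : U ⟶ S) [LocallyOfFiniteType g] [IsAffine U] (W : S.Opens) (hW : IsAffineOpen W)
    (hle : ∀ x, g x ∈ W) : Comp g := by
  obtain ⟨n, k, hk, hkg⟩ := Chow.exists_immersion_of_pieces g (fun _ : PUnit.{u+1} => (⊤ : U.Opens)) (fun _ => W)
    (iSup_const) (fun i j h => (h (Subsingleton.elim i j)).elim) (fun _ => isAffineOpen_top U) (fun _ => hW)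
    (fun _ x _ => hle x)
  haveI := Chow.isProper_toBase n S
  haveI : QuasiSeparatedSpace (CohB1.ProjSpaceOver n S) := quasiSeparatedSpace_of_quasiSeparated (CohB1.ProjSpaceOver.toBase n S)
  haveI : QuasiCompact k := quasiCompact_of_compactSpace k
  exact comp_of_immersion g k _ hkg

theorem comp_empty [QuasiSeparatedSpace S] (g : U ⟶ S) [IsEmpty U] : Comp g := by
  haveI : IsProper (Scheme.emptyTo S) := inferInstance
  haveI : IsIso (isInitialOfIsEmpty.to (∅ : Scheme.{u}) : U ⟶ ∅) :=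
    ⟨isInitialOfIsEmpty.to U, isInitialOfIsEmpty.hom_ext _ _, isInitialOfIsEmpty.hom_ext _ _⟩
  exact ⟨∅, isInitialOfIsEmpty.to _, Scheme.emptyTo S, inferInstance, inferInstance, inferInstance,
    isInitialOfIsEmpty.hom_ext _ _⟩

/-- Compactification over a Noetherian base. -/
theorem exists_compactification [IsNoetherian S] (g : U ⟶ S) [IsSeparated g] [LocallyOfFiniteType g] [QuasiCompact g] :
    Comp g := by
  classical
  haveI : CompactSpace U := QuasiCompact.compactSpace_of_compactSpace g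
  haveI := LocallyOfFiniteType.isLocallyNoetherian g
  haveI : IsNoetherian U := {}
  let T := {V : U.Opens // IsAffineOpen V ∧ ∃ W : S.Opens, IsAffineOpen W ∧ V ≤ g ⁻¹ᵁ W}
  have hcov : ∀ x : U, ∃ V : T, x ∈ V.1 := fun x => by
    obtain ⟨_, ⟨W, hW, rfl⟩, hgW, -⟩ := S.isBasis_affineOpens.exists_subset_of_mem_open (Set.mem_univ (g x)) isOpen_univ
    obtain ⟨V, hV, hxV, hVW⟩ := exists_isAffineOpen_mem_and_subset (U := g ⁻¹ᵁ W) (x := x) hgW
    exact ⟨⟨V, hV, W, hW, hVW⟩, hxV⟩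
  obtain ⟨t, ht⟩ := isCompact_univ.elim_finite_subcover (fun V : T => (V.1 : Set U)) (fun V => V.1.2)
    (fun x _ => Set.mem_iUnion.2 (hcov x))
  have key : ∀ s : Finset T, Comp ((s.sup fun V => V.1).ι ≫ g) := fun s => by
    induction s using Finset.induction with
    | empty =>
      haveI : IsEmpty ((∅ : Finset T).sup fun V => V.1).toScheme := by
        rw [Finset.sup_empty]
        exact ⟨fun x => x.2⟩
      exact comp_empty _
    | insert a s ha ih =>
      rw [Finset.sup_insert]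
      obtain ⟨haff, W, hW, hle⟩ := a.2
      haveI : IsAffine a.1.toScheme := haff
      exact comp_sup g a.1 _ (comp_affine (a.1.ι ≫ g) W hW fun x => hle x.2) ih
  have htop : (t.sup fun V => V.1) = ⊤ := top_le_iff.1 fun x _ => by
    obtain ⟨V, hV, hxV⟩ := Set.mem_iUnion₂.1 (ht (Set.mem_univ x))
    exact Finset.le_sup (f := fun V : T => V.1) hV hxV
  have h := key t
  rw [htop] at h
  have := comp_of_range g (⊤ : U.Opens).ι (𝟙 U) (by simp) h
  rwa [Category.id_comp] at this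

end Groth.Agent.Nagata
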