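import Groth.Agent.AbsApprox.Immersion
import Groth.Agent.LimMore.SepScheme

/-!
# A separated morphism of finite type as a closed part of a base change from a Noetherian base
-/

set_option autoImplicit false
set_option linter.style.haveILetI false
set_option backward.isDefEq.respectTransparency false
set_option backward.isDefEq.respectTransparency.types false

universe u

open CategoryTheory CategoryTheory.Limits AlgebraicGeometry TopologicalSpace Opposite

noncomputable section

namespace Groth.Agent.Nagata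

open Groth.Agent.AbsApprox

variable {X S : Scheme.{u}}

theorem isNoetherian_spec_int : IsNoetherian (Spec (CommRingCat.of (ULift.{u} ℤ))) := by
  have : IsNoetherianRing (ULift.{u} ℤ) := isNoetherianRing_of_ringEquiv ℤ ULift.ringEquiv.symm
  infer_instance

/-- A stage through which the morphism factors by an affine projection and a separated morphism. -/
theorem exists_stage {I : Type u} [SmallCategory I] [IsCofiltered I] (D : I ⥤ Scheme.{u})
    [∀ {i j} (f : i ⟶ j), IsAffineHom (D.map f)] [∀ i, CompactSpace (D.obj i)]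
    [∀ i, QuasiSeparatedSpace (D.obj i)] (c : Cone D) (hc : IsLimit c) {S₀ : Scheme.{u}} [IsNoetherian S₀]
    [LocallyOfFiniteType (Limits.IsTerminal.from specULiftZIsTerminal S₀)] (h : c.pt ⟶ S₀) [IsSeparated h] :
    ∃ (i : I) (g : D.obj i ⟶ S₀), c.π.app i ≫ g = h ∧ IsSeparated g := by
  haveI := isNoetherian_spec_int.{u}
  haveI : LocallyOfFinitePresentation (Limits.IsTerminal.from specULiftZIsTerminal S₀) := lfp_of_lft_noetherian _
  obtain ⟨i, g, hg, -⟩ := Scheme.exists_π_app_comp_eq_of_locallyOfFinitePresentation D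
    { app := fun i => Limits.IsTerminal.from specULiftZIsTerminal (D.obj i)
      naturality := fun _ _ _ => specULiftZIsTerminal.hom_ext _ _ }
    (Limits.IsTerminal.from specULiftZIsTerminal S₀) c hc h
    (by ext j; exact specULiftZIsTerminal.hom_ext _ _)
  let D' := Over.forget i ⋙ D
  have hc' : IsLimit (c.whisker (Over.forget i)) := (Functor.Initial.isLimitWhiskerEquiv (Over.forget i) c).symm hc
  haveI : ∀ {a b : Over i} (f : a ⟶ b), IsAffineHom (D'.map f) := fun f => inferInstanceAs (IsAffineHom (D.map f.left))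
  haveI : ∀ a : Over i, CompactSpace (D'.obj a) := fun a => inferInstanceAs (CompactSpace (D.obj a.left))
  haveI : ∀ a : Over i, QuasiSeparatedSpace (D'.obj a) := fun a => inferInstanceAs (QuasiSeparatedSpace (D.obj a.left))
  haveI : IsSeparated ((c.whisker (Over.forget i)).π.app (Over.mk (𝟙 i)) ≫ D.map (Over.mk (𝟙 i)).hom ≫ g) := by
    show IsSeparated (c.π.app i ≫ D.map (𝟙 i) ≫ g)
    rw [D.map_id, Category.id_comp, hg]
    infer_instance
  obtain ⟨a, ha⟩ := LimMore.exists_isSeparated_over D' (fun a => D.map a.hom ≫ g)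
    (fun {a b} f => by show D.map f.left ≫ D.map b.hom ≫ g = _; rw [← Category.assoc, ← D.map_comp, Over.w])
    (c.whisker (Over.forget i)) hc' (Over.mk (𝟙 i))
  refine ⟨a.left, D.map a.hom ≫ g, ?_, ha a (𝟙 a)⟩
  rw [← Category.assoc, c.w, hg]

set_option maxHeartbeats 800000 in
/-- A separated morphism of finite type is a closed part of the base change of one over a Noetherian base. -/
theorem exists_reduction_affine [CompactSpace S] [QuasiSeparatedSpace S] (f : X ⟶ S) [IsSeparated f] [QuasiCompact f]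
    [LocallyOfFiniteType f] :
    ∃ (X₀ S₀ : Scheme.{u}) (f₀ : X₀ ⟶ S₀) (a : S ⟶ S₀) (i : X ⟶ pullback f₀ a), IsNoetherian S₀ ∧
      IsAffineHom a ∧ LocallyOfFiniteType (Limits.IsTerminal.from specULiftZIsTerminal S₀) ∧
      IsSeparated f₀ ∧ QuasiCompact f₀ ∧ LocallyOfFiniteType f₀ ∧ IsClosedImmersion i ∧ i ≫ pullback.snd f₀ a = f := by
  classical
  haveI : CompactSpace X := QuasiCompact.compactSpace_of_compactSpace f
  haveI : QuasiSeparatedSpace X := quasiSeparatedSpace_of_quasiSeparated f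
  haveI := isNoetherian_spec_int.{u}
  obtain ⟨J, _, _, _, E, ρ, hρ, hE1, hE2, -⟩ := hasApprox S
  obtain ⟨I, _, _, _, D, π, hl, h1, h2, -⟩ := hasApprox X
  haveI : IsCofiltered Jᵒᵖ := isCofiltered_op_of_isFiltered _
  haveI : IsCofiltered Iᵒᵖ := isCofiltered_op_of_isFiltered _
  haveI : ∀ {i j : Jᵒᵖ} (f : i ⟶ j), IsAffineHom (E.map f) := fun f => hE1 _ _ f
  haveI : ∀ {i j : Iᵒᵖ} (f : i ⟶ j), IsAffineHom (D.map f) := fun f => h1 _ _ f
  haveI : ∀ i, CompactSpace (D.obj i) := fun i => (h2 i).1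
  haveI : ∀ i, QuasiSeparatedSpace (D.obj i) := fun i => quasiSeparatedSpace_of_lft (h2 i).2
  have hπaff : ∀ i, IsAffineHom (π.app i) := fun i => isAffineHom_π_app D (Cone.mk X π) hl i
  have hπw : ∀ {i j : Iᵒᵖ} (φ : i ⟶ j), π.app i ≫ D.map φ = π.app j := fun φ => (Cone.mk X π).w φ
  obtain ⟨l₀⟩ := (inferInstance : Nonempty Jᵒᵖ)
  let S₀ := E.obj l₀
  let a : S ⟶ S₀ := ρ.app l₀
  haveI : IsAffineHom a := isAffineHom_π_app E (Cone.mk S ρ) hρ l₀
  haveI : LocallyOfFiniteType (Limits.IsTerminal.from specULiftZIsTerminal S₀) := (hE2 l₀).2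
  haveI : CompactSpace S₀ := (hE2 l₀).1
  haveI : IsLocallyNoetherian S₀ := isLocallyNoetherian_of_lft (hE2 l₀).2
  haveI : IsNoetherian S₀ := {}
  obtain ⟨i₀, g₀, hg₀, hsep₀⟩ := exists_stage D (Cone.mk X π) hl (f ≫ a)
  haveI := hsep₀
  let P₀ := pullback g₀ a
  haveI : IsAffineHom (pullback.fst g₀ a) := MorphismProperty.pullback_fst _ _ ‹IsAffineHom a›
  let j₀ : X ⟶ P₀ := pullback.lift (π.app i₀) f hg₀
  haveI : LocallyOfFiniteType j₀ := by
    haveI : LocallyOfFiniteType (j₀ ≫ pullback.snd g₀ a) := by rw [pullback.lift_snd]; infer_instance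
    exact locallyOfFiniteType_of_comp j₀ (pullback.snd g₀ a)
  let 𝒰 := (D.obj i₀).affineCover.finiteSubcover
  let U : 𝒰.I₀ → (D.obj i₀).Opens := fun k => (𝒰.f k).opensRange
  have hU : ∀ k, IsAffineOpen (U k) := fun k => by
    have : IsAffine (𝒰.X k) := by dsimp [𝒰]; infer_instance
    exact isAffineOpen_opensRange _
  let O : 𝒰.I₀ → X.Opens := fun k => π.app i₀ ⁻¹ᵁ U k
  let V₀ : 𝒰.I₀ → P₀.Opens := fun k => pullback.fst g₀ a ⁻¹ᵁ U k
  have hle₀ : ∀ k, O k ≤ j₀ ⁻¹ᵁ V₀ k := fun k => by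
    rw [← Scheme.Hom.comp_preimage, pullback.lift_fst]
  have hgen : ∀ k, ∃ F : Finset Γ((O k).toScheme, ⊤),
      letI := (j₀.resLE (V₀ k) (O k) (hle₀ k)).appTop.hom.toAlgebra
      Algebra.adjoin Γ((V₀ k).toScheme, ⊤) (F : Set Γ((O k).toScheme, ⊤)) = ⊤ := fun k => by
    haveI : IsAffine (O k).toScheme := (hU k).preimage (π.app i₀)
    haveI : IsAffine (V₀ k).toScheme := (hU k).preimage (pullback.fst g₀ a)
    exact exists_gen_of_lft _
  choose F hF using hgen
  have hsec : ∀ k (e : Γ((O k).toScheme, ⊤)), ∃ l : Over i₀, ∃ v : Γ((opensDiagram D i₀ (U k)).obj l, ⊤),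
      ((opensCone D (Cone.mk X π) i₀ (U k)).π.app l).appTop v = e := fun k e => by
    haveI : ∀ l : Over i₀, IsAffine ((opensDiagram D i₀ (U k)).obj l) := fun l => (hU k).preimage (D.map l.hom)
    exact exists_appTop_π_eq_of_isAffine_of_isLimit _ _ (isLimitOpensCone D (Cone.mk X π) hl i₀ (U k)) e
  choose le ve hve using hsec
  cases nonempty_fintype 𝒰.I₀
  obtain ⟨M, hM⟩ := IsCofiltered.inf_objs_exists
    (insert (Over.mk (𝟙 i₀)) (Finset.univ.biUnion fun k => (F k).image (le k)))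
  let φ := D.map M.hom
  let g : D.obj M.left ⟶ S₀ := φ ≫ g₀
  haveI : LocallyOfFiniteType g := by
    haveI : LocallyOfFiniteType (g ≫ Limits.IsTerminal.from specULiftZIsTerminal S₀) := by
      rw [specULiftZIsTerminal.hom_ext (g ≫ _) (Limits.IsTerminal.from specULiftZIsTerminal (D.obj M.left))]
      exact (h2 _).2
    exact locallyOfFiniteType_of_comp g (Limits.IsTerminal.from specULiftZIsTerminal S₀)
  haveI : IsAffineHom (pullback.fst g a) := MorphismProperty.pullback_fst _ _ ‹IsAffineHom a›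
  let q : pullback g a ⟶ P₀ := pullback.map g a g₀ a φ (𝟙 S) (𝟙 S₀) (by simp [g]) (by simp)
  let j : X ⟶ pullback g a := pullback.lift (π.app M.left) f (by
    show π.app M.left ≫ φ ≫ g₀ = _; rw [reassoc_of% hπw M.hom]; exact hg₀)
  refine ⟨_, S₀, g, a, j, inferInstance, inferInstance, inferInstance, inferInstance, quasiCompact_of_compactSpace g, inferInstance, ?_,
    pullback.lift_snd _ _ _⟩
  let V : 𝒰.I₀ → (pullback g a).Opens := fun k => pullback.fst g a ⁻¹ᵁ (φ ⁻¹ᵁ U k)
  rw [IsZariskiLocalAtTarget.iff_of_iSup_eq_top (P := @IsClosedImmersion) V (by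
    rw [← Scheme.Hom.preimage_iSup, ← Scheme.Hom.preimage_iSup, show ⨆ k, U k = ⊤ from 𝒰.iSup_opensRange]
    rfl)]
  intro k
  have hpre : j ⁻¹ᵁ V k = O k := by
    rw [← Scheme.Hom.comp_preimage, pullback.lift_fst, ← Scheme.Hom.comp_preimage, hπw]
  haveI : IsAffine (O k).toScheme := (hU k).preimage (π.app i₀)
  haveI : IsAffine (V₀ k).toScheme := (hU k).preimage (pullback.fst g₀ a)
  haveI : IsAffine (φ ⁻¹ᵁ U k).toScheme := (hU k).preimage φ
  haveI : IsAffine (V k).toScheme := ((hU k).preimage φ).preimage (pullback.fst g a)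
  let p₁ : (V k).toScheme ⟶ (φ ⁻¹ᵁ U k).toScheme := (pullback.fst g a).resLE _ _ le_rfl
  let p₂ : (V k).toScheme ⟶ (V₀ k).toScheme := q.resLE _ _ (by
    rw [← Scheme.Hom.comp_preimage, pullback.lift_fst]; exact le_rfl)
  let h : (O k).toScheme ⟶ (V k).toScheme := j.resLE _ _ hpre.ge
  have hjq : j ≫ q = j₀ := by
    apply pullback.hom_ext <;> simp [j, q, j₀, φ, hπw]
  have e₂ : h ≫ p₂ = j₀.resLE (V₀ k) (O k) (hle₀ k) := by
    simp only [h, p₂, Scheme.Hom.resLE_comp_resLE, hjq]
  haveI : LocallyOfFiniteType (h ≫ p₂) := by rw [e₂]; infer_instance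
  haveI : IsClosedImmersion h := by
    refine isClosedImmersion_of_generators h p₁ p₂ (F k) (by rw [e₂]; exact hF k) fun e he => ?_
    let η : M ⟶ le k e := (hM (Finset.mem_insert_of_mem (Finset.mem_biUnion.2
      ⟨k, Finset.mem_univ _, Finset.mem_image_of_mem (le k) he⟩))).some
    refine ⟨((opensDiagram D i₀ (U k)).map η).appTop (ve k e), ?_⟩
    have e₁ : h ≫ p₁ = (opensCone D (Cone.mk X π) i₀ (U k)).π.app M := by
      rw [← cancel_mono (φ ⁻¹ᵁ U k).ι]
      simp only [h, p₁, Category.assoc, Scheme.Hom.resLE_comp_ι, Scheme.Hom.resLE_comp_ι_assoc]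
      simp [j, opensCone, φ]
      rfl
    rw [e₁]
    refine Eq.trans ?_ (hve k e)
    rw [← (opensCone D (Cone.mk X π) i₀ (U k)).w η, Scheme.Hom.comp_appTop]
    rfl
  have e : j ∣_ V k = (X.isoOfEq hpre).hom ≫ h := by
    rw [← cancel_mono (V k).ι]; simp [h]
  rw [e]
  infer_instance

/-- A separated morphism of finite type is a closed part of the base change of one over a Noetherian base. -/
theorem exists_reduction [CompactSpace S] [QuasiSeparatedSpace S] (f : X ⟶ S) [IsSeparated f] [QuasiCompact f]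
    [LocallyOfFiniteType f] :
    ∃ (X₀ S₀ : Scheme.{u}) (f₀ : X₀ ⟶ S₀) (a : S ⟶ S₀) (i : X ⟶ pullback f₀ a), IsNoetherian S₀ ∧
      IsSeparated f₀ ∧ QuasiCompact f₀ ∧ LocallyOfFiniteType f₀ ∧ IsClosedImmersion i ∧ i ≫ pullback.snd f₀ a = f := by
  obtain ⟨X₀, S₀, f₀, a, i, h1, -, -, h⟩ := exists_reduction_affine f
  exact ⟨X₀, S₀, f₀, a, i, h1, h⟩

end Groth.Agent.Nagata
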