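import Groth.Agent.Nagata.FiniteType
import Groth.Agent.S4562
import Mathlib.FieldTheory.IsAlgClosed.AlgebraicClosure
import Mathlib.FieldTheory.Finiteness
import Mathlib.RingTheory.Polynomial.IsIntegral
import Mathlib.RingTheory.Algebraic.Integral
import Mathlib.FieldTheory.IntermediateField.Adjoin.Basic

/-!
# Nagata rings are universally Japanese
-/

set_option autoImplicit false
set_option linter.style.haveILetI false
set_option synthInstance.maxHeartbeats 400000
universe u

open scoped TensorProduct

namespace Groth.Agent.Nagata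

attribute [local instance] FractionRing.liftAlgebra

/-- A polynomial ring over a Noetherian N-2 domain is N-2. -/
theorem isN2_polynomial {A : Type u} [CommRing A] [IsDomain A] [IsNoetherianRing A] (hA : CAlg.IsN2 A) :
    CAlg.IsN2 (Polynomial A) := by
  classical
  refine S4562.result (Polynomial A) fun K' _ _ _ _ hfd hpi => ?_
  let P := Polynomial A
  let F := FractionRing P
  haveI : FiniteDimensional F K' := hfd
  haveI : IsPurelyInseparable F K' := hpi
  obtain ⟨p, hp⟩ := ExpChar.exists F
  let e := IsPurelyInseparable.exponent F K'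
  let q := p ^ e
  let Ω := AlgebraicClosure K'
  haveI : ExpChar Ω p := expChar_of_injective_algebraMap (algebraMap F Ω).injective p
  have hq : 0 < q := pow_pos (expChar_pos F p) e
  haveI : FaithfulSMul P Ω := (faithfulSMul_iff_algebraMap_injective _ _).mpr (by
    rw [IsScalarTower.algebraMap_eq P F Ω]
    exact (algebraMap F Ω).injective.comp (IsFractionRing.injective P F))
  letI : Algebra A Ω := ((algebraMap P Ω).comp Polynomial.C).toAlgebra
  haveI : IsScalarTower A P Ω := IsScalarTower.of_algebraMap_eq fun a => rfl
  have hPΩ : Function.Injective (algebraMap P Ω) := FaithfulSMul.algebraMap_injective P Ω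
  haveI : FaithfulSMul A Ω := (faithfulSMul_iff_algebraMap_injective _ _).mpr (hPΩ.comp Polynomial.C_injective)
  let K := FractionRing A
  let Xo : Ω := algebraMap P Ω Polynomial.X
  obtain ⟨y, hy⟩ := IsAlgClosed.exists_pow_nat_eq Xo hq
  have haeval : ∀ f : P, algebraMap P Ω f = Polynomial.aeval Xo f := fun f =>
    AlgHom.congr_fun (Polynomial.algHom_ext (f := IsScalarTower.toAlgHom A P Ω) (g := Polynomial.aeval Xo)
      (by rw [IsScalarTower.toAlgHom_apply, Polynomial.aeval_X])) f
  have hFK : (algebraMap K' Ω).comp (algebraMap F K') = algebraMap F Ω :=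
    IsLocalization.ringHom_ext (nonZeroDivisors P) (RingHom.ext fun f => by
      simp only [RingHom.comp_apply, ← IsScalarTower.algebraMap_apply])
  have hXtr : ¬ IsAlgebraic K Xo := fun h => by
    obtain ⟨f, hf0, hf⟩ := (IsFractionRing.isAlgebraic_iff A K Ω).mpr h
    exact hf0 (hPΩ (by rw [haeval, hf, map_zero]))
  obtain ⟨G, hG⟩ := (Module.Finite.fg_top : (⊤ : Submodule F K').FG)
  choose w hw using fun g : K' => IsPurelyInseparable.exponent_def' F p g
  choose num den hden hnd using fun g : K' => IsFractionRing.div_surjective P (w g)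
  let coeffs : Finset A := G.biUnion fun g => (num g).coeffs ∪ (den g).coeffs
  choose root hroot using fun c : A => IsAlgClosed.exists_pow_nat_eq (algebraMap A Ω c) hq
  let F' : IntermediateField K Ω := IntermediateField.adjoin K ((coeffs.image root : Finset Ω) : Set Ω)
  have hrootint : ∀ c, IsIntegral A (root c) := fun c => IsIntegral.of_pow hq (hroot c ▸ isIntegral_algebraMap)
  haveI : FiniteDimensional K F' := IntermediateField.finiteDimensional_adjoin fun z hz => by
    obtain ⟨c, -, rfl⟩ := Finset.mem_image.mp hz
    exact (hrootint c).tower_top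
  haveI : IsScalarTower A F' Ω := IsScalarTower.of_algebraMap_eq fun a => rfl
  let A' := integralClosure A F'
  haveI : Module.Finite A A' := finite_closure_of_frac hA K F'
  haveI : IsIntegrallyClosed A' := integralClosure.isIntegrallyClosedOfFiniteExtension K
  haveI : IsNoetherianRing A' := IsNoetherianRing.of_finite A A'
  let φ : Polynomial A' →+* Ω := (Polynomial.aeval y : Polynomial F' →ₐ[F'] Ω).toRingHom.comp
    (Polynomial.mapRingHom (algebraMap A' F'))
  have hφinj : Function.Injective φ := by
    refine Function.Injective.comp (g := (Polynomial.aeval y : Polynomial F' →ₐ[F'] Ω)) ?_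
      (Polynomial.map_injective _ Subtype.val_injective)
    rw [injective_iff_map_eq_zero]
    intro f hf
    by_contra hf0
    haveI : Algebra.IsAlgebraic K F' := Algebra.IsAlgebraic.of_finite K F'
    have h1 : IsAlgebraic K y := IsAlgebraic.restrictScalars K (⟨f, hf0, hf⟩ : IsAlgebraic F' y)
    exact hXtr (hy ▸ h1.pow q)
  let Q := FractionRing (Polynomial A')
  let Φ : Q →+* Ω := IsFractionRing.lift hφinj
  have hΦ : ∀ f, Φ (algebraMap (Polynomial A') Q f) = φ f := fun f => IsFractionRing.lift_algebraMap _ f
  have hφC : ∀ a : A', φ (Polynomial.C a) = ((a : F') : Ω) := fun a => by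
    show Polynomial.aeval y (Polynomial.map (algebraMap A' F') (Polynomial.C a)) = _
    rw [Polynomial.map_C, Polynomial.aeval_C]
    rfl
  have hφX : φ Polynomial.X = y := by
    show Polynomial.aeval y (Polynomial.map (algebraMap A' F') Polynomial.X) = _
    rw [Polynomial.map_X, Polynomial.aeval_X]
  let σ : P →+* Polynomial A' := Polynomial.eval₂RingHom (Polynomial.C.comp (algebraMap A A')) (Polynomial.X ^ q)
  have hσ : φ.comp σ = algebraMap P Ω := Polynomial.ringHom_ext (fun a => by
    simp only [σ, RingHom.comp_apply, Polynomial.coe_eval₂RingHom, Polynomial.eval₂_C]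
    rw [hφC]
    show algebraMap A Ω a = _
    rfl) (by
    simp only [σ, RingHom.comp_apply, Polynomial.coe_eval₂RingHom, Polynomial.eval₂_X, map_pow, hφX, hy]
    rfl)
  letI : Algebra P (Polynomial A') := σ.toAlgebra
  haveI : Module.Finite P (Polynomial A') := by
    obtain ⟨S, hS⟩ := (Module.Finite.fg_top : (⊤ : Submodule A A').FG)
    refine ⟨⟨(S ×ˢ Finset.range q).image fun t => Polynomial.C t.1 * Polynomial.X ^ t.2, eq_top_iff.mpr fun f hftop => ?_⟩⟩
    clear hftop
    induction f using Polynomial.induction_on' with
    | add f g hf hg => exact add_mem hf hg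
    | monomial n a =>
      have ha : a ∈ Submodule.span A (S : Set A') := hS ▸ trivial
      rw [← Polynomial.C_mul_X_pow_eq_monomial]
      induction ha using Submodule.span_induction with
      | mem s hs =>
        have h1 : Polynomial.C s * Polynomial.X ^ n =
            (Polynomial.X ^ (n / q) : P) • (Polynomial.C s * Polynomial.X ^ (n % q)) := by
          rw [Algebra.smul_def]
          show _ = σ _ * _
          rw [map_pow, show σ Polynomial.X = Polynomial.X ^ q from Polynomial.eval₂_X _ _, ← pow_mul, mul_left_comm,
            ← pow_add, Nat.div_add_mod]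
        rw [h1]
        refine Submodule.smul_mem _ _ (Submodule.subset_span ?_)
        rw [Finset.coe_image]
        exact ⟨(s, n % q), Finset.mem_product.mpr ⟨hs, Finset.mem_range.mpr (Nat.mod_lt _ hq)⟩, rfl⟩
      | zero => rw [map_zero, zero_mul]; exact zero_mem _
      | add a b _ _ ha hb => rw [map_add, add_mul]; exact add_mem ha hb
      | smul c a _ ha =>
        have h1 : Polynomial.C (c • a) * Polynomial.X ^ n = (Polynomial.C c : P) • (Polynomial.C a * Polynomial.X ^ n) := by
          rw [Algebra.smul_def c a, Algebra.smul_def]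
          show _ = σ _ * _
          rw [show σ (Polynomial.C c) = Polynomial.C (algebraMap A A' c) from Polynomial.eval₂_C _ _, map_mul, mul_assoc]
        rw [h1]
        exact Submodule.smul_mem _ _ ha
  -- `K'` lands in the fraction field of `A'[X]`
  let R₀ : IntermediateField F Ω :=
    { Φ.fieldRange with
      algebraMap_mem' := fun z => by
        obtain ⟨a, b, -, rfl⟩ := IsFractionRing.div_surjective P z
        refine ⟨algebraMap _ Q (σ a) / algebraMap _ Q (σ b), ?_⟩
        rw [map_div₀, hΦ, hΦ, map_div₀, ← IsScalarTower.algebraMap_apply P F Ω, ← IsScalarTower.algebraMap_apply P F Ω, ← hσ]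
        rfl }
  have hK' : ∀ z : K', algebraMap K' Ω z ∈ R₀ := fun z => by
    have hz : z ∈ Submodule.span F (G : Set K') := hG ▸ trivial
    induction hz using Submodule.span_induction with
    | mem g hg =>
      let rt : P → Polynomial A' := fun f => ∑ i ∈ f.support,
        Polynomial.C (if h : root (f.coeff i) ∈ F' then (⟨⟨root (f.coeff i), h⟩,
          (isIntegral_algHom_iff (IsScalarTower.toAlgHom A F' Ω) Subtype.val_injective).mp (hrootint _)⟩ : A') else 0) *
            Polynomial.X ^ i
      have hrt : ∀ f : P, f.coeffs ⊆ coeffs → φ (rt f) ^ q = algebraMap P Ω f := fun f hf => by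
        rw [← iterateFrobenius_def p e, map_sum, map_sum, haeval, Polynomial.aeval_def, Polynomial.eval₂_eq_sum,
          Polynomial.sum_def]
        refine Finset.sum_congr rfl fun i hi => ?_
        have hmem : root (f.coeff i) ∈ F' := IntermediateField.subset_adjoin K _
          (Finset.mem_image_of_mem root (hf (Polynomial.coeff_mem_coeffs (Polynomial.mem_support_iff.mp hi))))
        rw [dif_pos hmem, map_mul, hφC, map_pow, hφX, iterateFrobenius_def, mul_pow, ← hroot, ← hy, ← pow_mul, mul_comm i, pow_mul]
      refine ⟨algebraMap _ Q (rt (num g)) / algebraMap _ Q (rt (den g)), ?_⟩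
      apply iterateFrobenius_inj Ω p e
      rw [iterateFrobenius_def, iterateFrobenius_def, map_div₀, hΦ, hΦ, div_pow,
        hrt _ (Finset.subset_union_left.trans (Finset.subset_biUnion_of_mem (fun g => (num g).coeffs ∪ (den g).coeffs) hg)),
        hrt _ (Finset.subset_union_right.trans (Finset.subset_biUnion_of_mem (fun g => (num g).coeffs ∪ (den g).coeffs) hg)), ← map_pow, ← hw g, ← hnd g,
        map_div₀, ← IsScalarTower.algebraMap_apply P F K', ← IsScalarTower.algebraMap_apply P F K', map_div₀,
        ← IsScalarTower.algebraMap_apply P K' Ω, ← IsScalarTower.algebraMap_apply P K' Ω]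
    | zero => rw [map_zero]; exact zero_mem R₀
    | add a b _ _ ha hb => rw [map_add]; exact add_mem ha hb
    | smul c a _ ha =>
      rw [Algebra.smul_def, map_mul, show algebraMap K' Ω (algebraMap F K' c) = algebraMap F Ω c from RingHom.congr_fun hFK c]
      exact mul_mem (R₀.algebraMap_mem c) ha
  choose ψ hψ using hK'
  let j : K' →ₐ[P] Q :=
    { toFun := ψ
      map_one' := Φ.injective ((hψ 1).trans (by simp))
      map_mul' := fun a b => Φ.injective (by rw [map_mul]; exact (hψ _).trans (by rw [map_mul, ← hψ a, ← hψ b]))
      map_zero' := Φ.injective ((hψ 0).trans (by simp))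
      map_add' := fun a b => Φ.injective (by rw [map_add]; exact (hψ _).trans (by rw [map_add, ← hψ a, ← hψ b]))
      commutes' := fun f => Φ.injective ((hψ _).trans (by
        show _ = Φ (algebraMap (Polynomial A') Q (σ f))
        rw [hΦ, ← IsScalarTower.algebraMap_apply P K' Ω, ← hσ]
        rfl)) }
  refine finite_closure_of_algHom j j.injective ?_
  let g : Polynomial A' →ₗ[P] integralClosure P Q :=
    ((IsScalarTower.toAlgHom P (Polynomial A') Q).toLinearMap).codRestrict (integralClosure P Q).toSubmodule fun f => by
      haveI : Algebra.IsIntegral P (Polynomial A') := Algebra.IsIntegral.of_finite _ _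
      exact (Algebra.IsIntegral.isIntegral f).algebraMap
  refine Module.Finite.of_surjective g fun z => ?_
  obtain ⟨f, hf⟩ := IsIntegrallyClosed.isIntegral_iff.mp ((z.2 : IsIntegral P (z : Q)).tower_top (A := Polynomial A'))
  exact ⟨f, Subtype.ext hf⟩

theorem finite_closure_of_tower {B B1 L : Type u} [CommRing B] [IsNoetherianRing B] [CommRing B1] [CommRing L]
    [Algebra B B1] [Algebra B L] [Algebra B1 L] [IsScalarTower B B1 L] [Module.Finite B B1]
    (h : Module.Finite B1 (integralClosure B1 L)) : Module.Finite B (integralClosure B L) := by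
  haveI : Module.Finite B (integralClosure B1 L) := Module.Finite.trans B1 _
  haveI : IsNoetherian B (integralClosure B1 L) := isNoetherian_of_isNoetherianRing_of_finite B _
  let f : integralClosure B L →ₗ[B] integralClosure B1 L :=
    { toFun := fun z => ⟨z, IsIntegral.tower_top (z.2 : IsIntegral B (z : L))⟩
      map_add' := fun _ _ => rfl
      map_smul' := fun _ _ => rfl }
  exact Module.Finite.of_injective f fun z w h => Subtype.ext (congrArg Subtype.val h :)

/-- Monogenic domains over Nagata rings are N-2. -/
theorem isN2_of_monogenic {A B : Type u} [CommRing A] [CommRing B] [IsDomain B] [Algebra A B] (hA : CAlg.IsNagata A)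
    (x : B) (hgen : ∀ b : B, ∃ g : Polynomial A, Polynomial.aeval x g = b) : CAlg.IsN2 B := by
  classical
  haveI := hA.1
  haveI : (RingHom.ker (algebraMap A B)).IsPrime := RingHom.ker_isPrime _
  let Ab := A ⧸ RingHom.ker (algebraMap A B)
  letI : Algebra Ab B := (RingHom.kerLift (algebraMap A B)).toAlgebra
  haveI : IsScalarTower A Ab B := IsScalarTower.of_algebraMap_eq fun _ => rfl
  have hAb : CAlg.IsNagata Ab := isNagata_of_surjective (Ideal.Quotient.mk _) Ideal.Quotient.mk_surjective hA
  have hgen' : ∀ b : B, ∃ g : Polynomial Ab, Polynomial.aeval x g = b := fun b => by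
    obtain ⟨g, hg⟩ := hgen b
    exact ⟨g.map (algebraMap A Ab), by rw [Polynomial.aeval_map_algebraMap, hg]⟩
  by_cases hinj : Function.Injective (Polynomial.aeval (R := Ab) x)
  · exact isN2_of_ringEquiv (RingEquiv.ofBijective (Polynomial.aeval (R := Ab) x) ⟨hinj, hgen'⟩)
      (isN2_polynomial (hA.2 _))
  intro L _ _ _ _ hfd
  haveI : FiniteDimensional (FractionRing B) L := hfd
  haveI : FaithfulSMul Ab B := (faithfulSMul_iff_algebraMap_injective _ _).mpr (RingHom.kerLift_injective _)
  letI : Algebra Ab L := ((algebraMap B L).comp (algebraMap Ab B)).toAlgebra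
  haveI : IsScalarTower Ab B L := IsScalarTower.of_algebraMap_eq fun _ => rfl
  haveI : IsScalarTower Ab (FractionRing B) L := IsScalarTower.of_algebraMap_eq fun a => by
    show algebraMap B L (algebraMap Ab B a) = _
    rw [IsScalarTower.algebraMap_apply B (FractionRing B) L, ← IsScalarTower.algebraMap_apply Ab B (FractionRing B)]
  haveI : FaithfulSMul Ab L := (faithfulSMul_iff_algebraMap_injective _ _).mpr (by
    rw [IsScalarTower.algebraMap_eq Ab (FractionRing B) L, IsScalarTower.algebraMap_eq Ab B (FractionRing B)]
    exact (algebraMap _ L).injective.comp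
      ((IsFractionRing.injective B (FractionRing B)).comp (FaithfulSMul.algebraMap_injective Ab B)))
  let K := FractionRing Ab
  letI : Algebra K L := ((algebraMap (FractionRing B) L).comp (algebraMap K (FractionRing B))).toAlgebra
  haveI : IsScalarTower K (FractionRing B) L := IsScalarTower.of_algebraMap_eq fun _ => rfl
  haveI : IsScalarTower Ab K L := IsScalarTower.of_algebraMap_eq fun a => by
    show algebraMap Ab L a = algebraMap (FractionRing B) L (algebraMap K (FractionRing B) (algebraMap Ab K a))
    rw [← IsScalarTower.algebraMap_apply Ab K (FractionRing B), ← IsScalarTower.algebraMap_apply]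
  let xF : FractionRing B := algebraMap B (FractionRing B) x
  have hxalg : IsIntegral K xF := by
    rw [injective_iff_map_eq_zero] at hinj
    push Not at hinj
    obtain ⟨g, hg, hg0⟩ := hinj
    refine (IsAlgebraic.isIntegral ⟨g.map (algebraMap Ab K),
      (Polynomial.map_ne_zero_iff (IsFractionRing.injective Ab K)).mpr hg0, ?_⟩)
    rw [Polynomial.aeval_map_algebraMap, Polynomial.aeval_algebraMap_apply, hg, map_zero]
  have htop : IntermediateField.adjoin K ({xF} : Set (FractionRing B)) = ⊤ := eq_top_iff.mpr fun z _ => by
    have hmem : ∀ b : B, algebraMap B (FractionRing B) b ∈ IntermediateField.adjoin K ({xF} : Set (FractionRing B)) := fun b => by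
      obtain ⟨g, rfl⟩ := hgen' b
      rw [← Polynomial.aeval_algebraMap_apply, ← Polynomial.aeval_map_algebraMap K]
      exact IntermediateField.algebra_adjoin_le_adjoin K _ (Polynomial.aeval_mem_adjoin_singleton K xF)
    obtain ⟨a, b, -, rfl⟩ := IsFractionRing.div_surjective B z
    exact div_mem (hmem a) (hmem b)
  haveI : FiniteDimensional K (FractionRing B) := by
    haveI := IntermediateField.adjoin.finiteDimensional hxalg
    rw [htop] at this
    exact Module.Finite.equiv (IntermediateField.topEquiv (F := K) (E := FractionRing B)).toLinearEquiv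
  haveI : FiniteDimensional K L := Module.Finite.trans (FractionRing B) L
  let A' := integralClosure Ab L
  haveI : Module.Finite Ab A' := finite_closure_of_frac (isN2_of_isNagata hAb) K L
  haveI : IsFractionRing A' L := integralClosure.isFractionRing_of_finite_extension K L
  haveI : IsIntegrallyClosed A' := integralClosure.isIntegrallyClosedOfFiniteExtension K
  let xL : L := algebraMap B L x
  let B1 := Algebra.adjoin A' ({xL} : Set L)
  haveI := finite_closure_adjoin (A := A') (K := L) (isNagata_of_finite hAb) xL
  have hmem : ∀ b : B, algebraMap B L b ∈ B1 := fun b => by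
    obtain ⟨g, rfl⟩ := hgen' b
    rw [← Polynomial.aeval_algebraMap_apply, ← Polynomial.aeval_map_algebraMap A']
    exact Polynomial.aeval_mem_adjoin_singleton A' xL
  let ι : B →+* B1 := (algebraMap B L).codRestrict B1.toSubring hmem
  letI : Algebra B B1 := ι.toAlgebra
  haveI : IsScalarTower B B1 L := IsScalarTower.of_algebraMap_eq fun _ => rfl
  haveI : IsScalarTower Ab B B1 := IsScalarTower.of_algebraMap_eq fun a => Subtype.ext rfl
  haveI : Module.Finite B B1 := by
    let θ : B ⊗[Ab] A' →ₐ[B] B1 := Algebra.TensorProduct.lift (Algebra.ofId B B1)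
      (IsScalarTower.toAlgHom Ab A' B1) fun _ _ => Commute.all _ _
    refine Module.Finite.of_surjective θ.toLinearMap fun z => ?_
    suffices hz : z ∈ θ.range.toSubring from hz
    obtain ⟨z, hz⟩ := z
    induction hz using Algebra.adjoin_induction with
    | mem w hw =>
      obtain rfl : w = xL := hw
      exact ⟨x ⊗ₜ[Ab] 1, by simp [θ]; exact Subtype.ext rfl⟩
    | algebraMap a => exact ⟨1 ⊗ₜ[Ab] a, by simp [θ]; exact Subtype.ext rfl⟩
    | add y w hy hw ihy ihw =>
      exact (show (⟨y, hy⟩ + ⟨w, hw⟩ : B1) ∈ θ.range.toSubring from add_mem ihy ihw)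
    | mul y w hy hw ihy ihw =>
      exact (show (⟨y, hy⟩ * ⟨w, hw⟩ : B1) ∈ θ.range.toSubring from mul_mem ihy ihw)
  haveI : IsNoetherianRing B := isNoetherianRing_of_surjective (Polynomial Ab) B
    (Polynomial.aeval (R := Ab) x).toRingHom hgen'
  exact finite_closure_of_tower (B1 := B1) inferInstance

theorem isNagata_polynomial {A : Type u} [CommRing A] (hA : CAlg.IsNagata A) : CAlg.IsNagata (Polynomial A) := by
  haveI := hA.1
  refine ⟨inferInstance, fun q _ => isN2_of_monogenic hA (Ideal.Quotient.mk q Polynomial.X) fun b => ?_⟩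
  obtain ⟨g, rfl⟩ := Ideal.Quotient.mk_surjective b
  exact ⟨g, by rw [← Ideal.Quotient.mkₐ_eq_mk A, Polynomial.aeval_algHom_apply, Polynomial.aeval_X_left_apply]⟩

theorem isNagata_mvPolynomial {A : Type u} [CommRing A] (hA : CAlg.IsNagata A) :
    ∀ n : ℕ, CAlg.IsNagata (MvPolynomial (Fin n) A) := by
  intro n
  induction n with
  | zero =>
    exact isNagata_of_surjective (MvPolynomial.C : A →+* MvPolynomial (Fin 0) A) (MvPolynomial.C_surjective _) hA
  | succ n ih =>
    exact isNagata_of_surjective (MvPolynomial.finSuccEquiv A n).symm.toRingEquiv.toRingHom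
      (MvPolynomial.finSuccEquiv A n).symm.toRingEquiv.surjective (isNagata_polynomial ih)

/-- **Nagata's theorem**: finite type algebras over Nagata rings are Nagata. -/
theorem isNagata_of_finiteType {R S : Type u} [CommRing R] [CommRing S] [Algebra R S] [Algebra.FiniteType R S]
    (hR : CAlg.IsNagata R) : CAlg.IsNagata S := by
  obtain ⟨n, f, hf⟩ := Algebra.FiniteType.iff_quotient_mvPolynomial''.mp ‹Algebra.FiniteType R S›
  exact isNagata_of_surjective f.toRingHom hf (isNagata_mvPolynomial hR n)

theorem isUniversallyJapanese_of_isNagata {R : Type u} [CommRing R] (hR : CAlg.IsNagata R) :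
    CAlg.IsUniversallyJapanese R := fun _ _ _ _ _ => isN2_of_isNagata (isNagata_of_finiteType hR)

end Groth.Agent.Nagata
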