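import Groth.Agent.Nagata.Cover
import Mathlib.AlgebraicGeometry.AffineScheme
import Mathlib.AlgebraicGeometry.Properties

/-!
# Affine locality of N-2, Nagata and universally Japanese on schemes
-/

set_option autoImplicit false
set_option linter.style.haveILetI false
universe u

open AlgebraicGeometry CategoryTheory TopologicalSpace

namespace Groth.Agent.Nagata

theorem isUniversallyJapanese_of_finiteType {R T : Type u} [CommRing R] [CommRing T] [Algebra R T]
    [Algebra.FiniteType R T] (hR : CAlg.IsUniversallyJapanese R) : CAlg.IsUniversallyJapanese T := by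
  intro S _ _ _ hS
  letI : Algebra R S := ((algebraMap T S).comp (algebraMap R T)).toAlgebra
  haveI : IsScalarTower R T S := IsScalarTower.of_algebraMap_eq fun _ => rfl
  exact hR S (Algebra.FiniteType.trans (S := T) inferInstance hS)

theorem isUniversallyJapanese_of_ringEquiv {R T : Type u} [CommRing R] [CommRing T] (e : R ≃+* T)
    (hR : CAlg.IsUniversallyJapanese R) : CAlg.IsUniversallyJapanese T := by
  letI : Algebra R T := e.toRingHom.toAlgebra
  haveI : Algebra.FiniteType R T := Algebra.FiniteType.of_surjective (Algebra.ofId R T) e.surjective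
  exact isUniversallyJapanese_of_finiteType hR

theorem isNagata_affine {X : Scheme.{u}} {ι : Type u} (U : ι → X.Opens) (hU : iSup U = ⊤)
    (haff : ∀ i, IsAffineOpen (U i)) (hN : ∀ i, CAlg.IsNagata Γ(X, U i)) (V : X.Opens) (hV : IsAffineOpen V) :
    CAlg.IsNagata Γ(X, V) :=
  of_affine_open_cover (P := fun W : X.affineOpens => CAlg.IsNagata Γ(X, W)) (fun i => (⟨U i, haff i⟩ : X.affineOpens))
    hU ⟨V, hV⟩
    (fun W f hW => by
      haveI := W.2.isLocalization_basicOpen f
      exact isNagata_of_isLocalization hW (Submonoid.powers f) Γ(X, X.basicOpen f))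
    (fun W s hs h => isNagata_of_cover (fun f : s => (f : Γ(X, W))) (by rw [Subtype.range_coe_subtype]; exact hs) fun f => by
      haveI := W.2.isLocalization_basicOpen (f : Γ(X, W))
      let e := IsLocalization.algEquiv (Submonoid.powers (f : Γ(X, W))) Γ(X, X.basicOpen (f : Γ(X, W)))
        (Localization.Away (f : Γ(X, W)))
      exact isNagata_of_surjective e.toRingEquiv.toRingHom e.surjective (h f))
    hN

theorem isUniversallyJapanese_affine {X : Scheme.{u}} {ι : Type u} (U : ι → X.Opens) (hU : iSup U = ⊤)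
    (haff : ∀ i, IsAffineOpen (U i)) (hN : ∀ i, CAlg.IsUniversallyJapanese Γ(X, U i)) (V : X.Opens)
    (hV : IsAffineOpen V) : CAlg.IsUniversallyJapanese Γ(X, V) :=
  of_affine_open_cover (P := fun W : X.affineOpens => CAlg.IsUniversallyJapanese Γ(X, W))
    (fun i => (⟨U i, haff i⟩ : X.affineOpens)) hU ⟨V, hV⟩
    (fun W f hW => by
      haveI := W.2.isLocalization_basicOpen f
      haveI : Algebra.FinitePresentation Γ(X, W) Γ(X, X.basicOpen f) := IsLocalization.Away.finitePresentation f
      exact isUniversallyJapanese_of_finiteType (R := Γ(X, W)) (T := Γ(X, X.basicOpen f)) hW)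
    (fun W s hs h => isUniversallyJapanese_of_cover (fun f : s => (f : Γ(X, W)))
      (by rw [Subtype.range_coe_subtype]; exact hs) fun f => by
      haveI := W.2.isLocalization_basicOpen (f : Γ(X, W))
      exact isUniversallyJapanese_of_ringEquiv (IsLocalization.algEquiv (Submonoid.powers (f : Γ(X, W)))
        Γ(X, X.basicOpen (f : Γ(X, W))) (Localization.Away (f : Γ(X, W)))).toRingEquiv (h f))
    hN

theorem isN2_affine {X : Scheme.{u}} [IsIntegral X] {ι : Type u} (U : ι → X.Opens) [∀ i, Nonempty (U i)]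
    (hU : iSup U = ⊤) (haff : ∀ i, IsAffineOpen (U i)) (hN : ∀ i, CAlg.IsN2 Γ(X, U i)) (V : X.Opens) [Nonempty V]
    (hV : IsAffineOpen V) : CAlg.IsN2 Γ(X, V) :=
  of_affine_open_cover (P := fun W : X.affineOpens => ∀ [Nonempty (W : X.Opens)], CAlg.IsN2 Γ(X, W))
    (fun i => (⟨U i, haff i⟩ : X.affineOpens)) hU ⟨V, hV⟩
    (fun W f hW => by
      intro hne
      haveI : Nonempty (X.basicOpen f : X.Opens) := hne
      haveI : Nonempty (W : X.Opens) := Nonempty.map (fun x : (X.basicOpen f : X.Opens) => (⟨x.1, X.basicOpen_le f x.2⟩ : (W : X.Opens))) ‹_›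
      haveI := W.2.isLocalization_basicOpen f
      exact isN2_of_isLocalization (Submonoid.powers f) Γ(X, X.basicOpen f) hW)
    (fun W s hs h => by
      intro hne
      let ι' := {f : s // (f : Γ(X, (W : X.Opens))) ≠ 0}
      haveI hne' : ∀ f : ι', Nonempty (X.basicOpen (f.1 : Γ(X, (W : X.Opens))) : X.Opens) := fun f => by
        obtain ⟨x, hx⟩ := Opens.ne_bot_iff_nonempty _ |>.mp fun hb => f.2 ((basicOpen_eq_bot_iff _).mp hb)
        exact ⟨⟨x, hx⟩⟩
      haveI : ∀ f : ι', IsLocalization.Away (f.1 : Γ(X, (W : X.Opens))) Γ(X, X.basicOpen (f.1 : Γ(X, (W : X.Opens)))) :=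
        fun f => W.2.isLocalization_basicOpen _
      refine isN2_of_cover (fun f : ι' => (f.1 : Γ(X, (W : X.Opens))))
        (span_ne_zero (fun f : s => (f : Γ(X, (W : X.Opens)))) (by rw [Subtype.range_coe_subtype]; exact hs))
        (fun f : ι' => Γ(X, X.basicOpen (f.1 : Γ(X, (W : X.Opens))))) fun f => ?_
      haveI : Nonempty ((X.affineBasicOpen (f.1 : Γ(X, (W : X.Opens))) : X.affineOpens) : X.Opens) := hne' f
      exact @h f.1 this)
    (fun i => hN i)

end Groth.Agent.Nagata
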