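import Groth.Agent.FittLib.StrictTransform2
import Groth.Agent.QC.SubSheaf
import Groth.Agent.QC.Localisation
import Groth.Agent.QC.IdealMod

/-!
# Existence of strict transforms of modules
-/

set_option autoImplicit false
set_option linter.style.haveILetI false
set_option backward.isDefEq.respectTransparency false

universe u

open CategoryTheory CategoryTheory.Limits AlgebraicGeometry TopologicalSpace Opposite Groth.Agent.QC

noncomputable section

namespace Groth.Agent.Nagata

variable {X : Scheme.{u}}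

/-- Sections vanishing on an open. -/
def vanishSub (P : X.Modules) (C : X.Opens) : Sub P where
  obj O :=
    { carrier := {s | res P (inf_le_left : O ⊓ C ≤ O) s = 0}
      add_mem' := fun {a b} ha hb => by
        show res P _ (a + b) = 0
        rw [map_add, (show res P _ a = 0 from ha), (show res P _ b = 0 from hb), add_zero]
      zero_mem' := map_zero _
      smul_mem' := fun r a ha => by
        show res P _ (r • a) = 0
        rw [res_smul, (show res P _ a = 0 from ha), smul_zero] }
  res_mem {O' O} h {s} hs := by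
    show res P _ (res P h s) = 0
    rw [res_res P, ← res_res P (inf_le_inf_right C h) (inf_le_left : O ⊓ C ≤ O),
      (show res P _ s = 0 from hs), map_zero]
  local' {O} s hs := by
    refine section_eq_of_locally fun x hx => ?_
    obtain ⟨W, hW, hxW, hsW⟩ := hs x hx.1
    refine ⟨W ⊓ C, inf_le_inf_right C hW, ⟨hxW, hx.2⟩, ?_⟩
    rw [map_zero, res_res, ← res_res P (inf_le_left : W ⊓ C ≤ W) hW]
    exact hsW

theorem mem_vanishSub_iff (P : X.Modules) (C O : X.Opens) (s : Γ(P, O)) :
    s ∈ (vanishSub P C).obj O ↔ res P (inf_le_left : O ⊓ C ≤ O) s = 0 := Iff.rfl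

/-- The kernel of the cokernel projection of a subsheaf. -/
theorem cokernel_π_app_eq_zero {P : X.Modules} (T : Sub P) (W : X.Opens) (t : Γ(P, W)) :
    (cokernel.π T.ι).app W t = 0 ↔ t ∈ T.obj W := by
  rw [← mem_range_kernel_app, ← T.range_ι_app]
  let e : T.toModules ≅ kernel (cokernel.π T.ι) :=
    (Abelian.monoIsKernelOfCokernel _ (cokernelIsCokernel T.ι)).conePointUniqueUpToIso (limit.isLimit _)
  have he : e.hom ≫ kernel.ι (cokernel.π T.ι) = T.ι :=
    IsLimit.conePointUniqueUpToIso_hom_comp _ _ WalkingParallelPair.zero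
  constructor
  · rintro ⟨a, rfl⟩
    refine ⟨e.inv.app W a, ?_⟩
    change (e.inv ≫ T.ι).app W a = _
    rw [(Iso.inv_comp_eq e).2 he.symm]
  · rintro ⟨a, rfl⟩
    refine ⟨e.hom.app W a, ?_⟩
    change (e.hom ≫ kernel.ι _).app W a = _
    rw [he]

theorem notMem_support_of_basicOpen {E : X.IdealSheafData} {W : X.affineOpens} {a : Γ(X, W.1)}
    (h : E.ideal W = Ideal.span {a}) :
    W.1 ⊓ E.support.compl = X.basicOpen a := by
  ext x
  have hz := E.coe_support_inter W
  rw [h, Scheme.zeroLocus_span] at hz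
  constructor
  · rintro ⟨hxW, hxC⟩
    by_contra hxa
    have hmem : x ∈ X.zeroLocus {a} ∩ (W.1 : Set X) := ⟨by simpa [Scheme.mem_zeroLocus_iff] using hxa, hxW⟩
    rw [← hz] at hmem
    exact hxC hmem.1
  · intro hxa
    refine ⟨X.basicOpen_le a hxa, fun hxs => ?_⟩
    have hmem : x ∈ (E.support : Set X) ∩ (W.1 : Set X) := ⟨hxs, X.basicOpen_le a hxa⟩
    rw [hz] at hmem
    exact (Scheme.mem_zeroLocus_iff _ _ _).1 hmem.1 a rfl hxa

/-- Killed by a power of a Cartier ideal is the same as vanishing outside it. -/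
theorem killed_iff_vanish {E : X.IdealSheafData} (hE : BlowUp.IsEffCartierIdeal E) {P : X.Modules}
    (hP : Coh.IsQCoh P) (V : X.affineOpens) (m : Γ(P, V.1)) :
    BlowUp.KilledByPowerNear E P V m ↔ m ∈ (vanishSub P E.support.compl).obj V.1 := by
  classical
  rw [mem_vanishSub_iff]
  constructor
  · rintro ⟨n, hn⟩
    refine section_eq_of_locally fun x hx => ?_
    obtain ⟨W, a, hxW, hWV, hWa⟩ := FittLib.exists_equation hE V.1 hx.1
    have hb := notMem_support_of_basicOpen hWa.2
    let B : X.affineOpens := X.affineBasicOpen a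
    have hxB : x ∈ X.basicOpen a := hb.le ⟨hxW, hx.2⟩
    have hBV : X.basicOpen a ≤ V.1 ⊓ E.support.compl := fun y hy => ⟨hWV (X.basicOpen_le a hy), (hb.ge hy).2⟩
    refine ⟨X.basicOpen a, hBV, hxB, ?_⟩
    rw [map_zero, res_res]
    have htop : (E ^ n).ideal B = ⊤ := by
      have h1 : E.ideal B = ⊤ := by
        rw [← E.map_ideal_basicOpen W a, hWa.2, Ideal.map_span, Set.image_singleton]
        haveI := W.2.isLocalization_basicOpen a
        exact Ideal.span_singleton_eq_top.2 (IsLocalization.Away.algebraMap_isUnit (S := Γ(X, X.basicOpen a)) a)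
      rw [Scheme.IdealSheafData.ideal_pow, Pi.pow_apply, h1]
      simp [← Ideal.one_eq_top]
    have hmap : ((E ^ n).ideal V).map (X.presheaf.map (homOfLE (hBV.trans inf_le_left) : B.1 ⟶ V.1).op).hom = (E ^ n).ideal B :=
      (E ^ n).map_ideal (U := B) (V := V) _
    have h1 : (1 : Γ(X, B.1)) ∈ ((E ^ n).ideal V).map (X.presheaf.map (homOfLE (hBV.trans inf_le_left) : B.1 ⟶ V.1).op).hom := by
      rw [hmap, htop]; trivial
    have key : ∀ c ∈ ((E ^ n).ideal V).map (X.presheaf.map (homOfLE (hBV.trans inf_le_left) : B.1 ⟶ V.1).op).hom,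
        c • res P (show B.1 ≤ V.1 from hBV.trans inf_le_left) m = 0 := fun c hc => by
      induction hc using Submodule.span_induction with
      | mem z hz =>
        obtain ⟨d, hd, rfl⟩ := hz
        exact (res_smul P _ d m).symm.trans ((congrArg _ (hn d hd)).trans (map_zero _))
      | zero => exact zero_smul _ _
      | add y z _ _ hy hz => rw [add_smul, hy, hz, add_zero]
      | smul r y _ hy => rw [smul_eq_mul, mul_smul, hy, smul_zero]
    have h2 := key 1 h1
    rw [one_smul] at h2
    exact h2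
  · intro hm
    have hloc : ∀ x : V.1, ∃ (W : X.affineOpens) (n : ℕ), x.1 ∈ W.1 ∧ ∃ h : W.1 ≤ V.1,
        ∀ c ∈ (E ^ n).ideal W, c • res P h m = 0 := fun x => by
      obtain ⟨W, a, hxW, hWV, hWa⟩ := FittLib.exists_equation hE V.1 x.2
      have hb := notMem_support_of_basicOpen hWa.2
      have h0 : res P (X.basicOpen_le a) (res P hWV m) = 0 := by
        rw [res_res P, ← res_res P (le_inf ((X.basicOpen_le a).trans hWV) (hb.ge.trans inf_le_right)) inf_le_left, hm, map_zero]
      obtain ⟨n, hn⟩ := (isLoc_of_isQCoh (M := P) W.2 (hM := hP)).exists_pow_smul_eq_zero a _ h0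
      refine ⟨W, n, hxW, hWV, fun c hc => ?_⟩
      rw [Scheme.IdealSheafData.ideal_pow, Pi.pow_apply, hWa.2, Ideal.span_singleton_pow,
        Ideal.mem_span_singleton'] at hc
      obtain ⟨d, rfl⟩ := hc
      rw [mul_smul, hn, smul_zero]
    choose W n hxW hWV hn using hloc
    obtain ⟨s, hs⟩ := V.2.isCompact.elim_finite_subcover (fun x => ((W x).1 : Set X)) (fun x => (W x).1.2)
      (fun x hx => Set.mem_iUnion.2 ⟨⟨x, hx⟩, hxW _⟩)
    refine ⟨s.sup n, fun c hc => section_eq_of_locally fun x hx => ?_⟩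
    obtain ⟨i, hi, hxi⟩ := Set.mem_iUnion₂.1 (hs hx)
    refine ⟨(W i).1, hWV i, hxi, ?_⟩
    rw [map_zero, res_smul]
    refine hn i _ ?_
    have h1 : resO X (hWV i) c ∈ (E ^ s.sup n).ideal (W i) :=
      ((E ^ s.sup n).map_ideal (U := W i) (V := V) (hWV i)).le (Ideal.mem_map_of_mem _ hc)
    rw [Scheme.IdealSheafData.ideal_pow, Pi.pow_apply] at h1 ⊢
    exact Ideal.pow_le_pow_right (Finset.le_sup hi) h1

/-- The strict transform exists. -/
theorem exists_strictTransform {S : Scheme.{u}} (b : X ⟶ S) (I : S.IdealSheafData) (F : S.Modules) (hF : Coh.IsQCoh F)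
    (hE : BlowUp.IsEffCartierIdeal (I.comap b)) :
    ∃ (G : X.Modules) (π : (Scheme.Modules.pullback b).obj F ⟶ G), BlowUp.IsStrictTransform b I F G π := by
  haveI : F.IsQuasicoherent := hF
  let T := vanishSub ((Scheme.Modules.pullback b).obj F) (I.comap b).support.compl
  refine ⟨cokernel T.ι, cokernel.π T.ι, inferInstance, fun V m => ?_⟩
  rw [cokernel_π_app_eq_zero]
  exact (killed_iff_vanish hE (isQCoh_pullback b hF) V m).symm

end Groth.Agent.Nagata
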