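import Groth.Agent.Nagata.Disjoint
import Groth.Agent.Nagata.Strict
import Groth.Agent.S8913
import Groth.Agent.S2252
import Groth.Agent.SectExtU.Dense
import Groth.Agent.QC.FiniteType

/-!
# Compactifications extending locally free modules
-/

set_option autoImplicit false
set_option linter.style.haveILetI false
set_option backward.isDefEq.respectTransparency false
set_option backward.isDefEq.respectTransparency.types false

universe u v

open CategoryTheory CategoryTheory.Limits AlgebraicGeometry TopologicalSpace Opposite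

noncomputable section

namespace Groth.Agent.Nagata

variable {X S : Scheme.{u}}

theorem isFinLocFreeOfRank_pullback {Y : Scheme.{u}} (f : X ⟶ Y) {M : Y.Modules} {r : ℕ}
    (h : FlatMod.IsFinLocFreeOfRank r M) : FlatMod.IsFinLocFreeOfRank r ((Scheme.Modules.pullback f).obj M) := fun x => by
  obtain ⟨U, hU, ⟨e⟩⟩ := h (f.base x)
  exact ⟨f ⁻¹ᵁ U, hU, ⟨(DerPerf.pullRestrictIso f U).app M ≪≫ (Scheme.Modules.pullback (f ∣_ U)).mapIso e ≪≫
    DerPerf.pullFreeIso (f ∣_ U) r⟩⟩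

theorem isFinLocFreeOfRank_of_iso {M N : X.Modules} {r : ℕ} (e : M ≅ N) (h : FlatMod.IsFinLocFreeOfRank r M) :
    FlatMod.IsFinLocFreeOfRank r N := fun x => by
  obtain ⟨U, hU, ⟨a⟩⟩ := h x
  exact ⟨U, hU, ⟨((Scheme.Modules.restrictFunctor U.ι).mapIso e).symm ≪≫ a⟩⟩

theorem isFinLocFree_of_rank' {M : X.Modules} {r : ℕ} (h : FlatMod.IsFinLocFreeOfRank r M) : FlatMod.IsFinLocFree M :=
  fun x => by
    obtain ⟨U, hU, e⟩ := h x
    exact ⟨U, r, hU, e⟩

/-- One module of constant rank extended. -/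
theorem exists_extend_rank [IsNoetherian S] {Y : Scheme.{u}} (j : X ⟶ Y) [IsOpenImmersion j] [QuasiCompact j]
    [IsSchemeTheoreticallyDominant j] (p : Y ⟶ S) [IsProper p] (E : X.Modules) {r : ℕ}
    (hE : FlatMod.IsFinLocFreeOfRank r E) :
    ∃ (Y' : Scheme.{u}) (π : Y' ⟶ Y) (j' : X ⟶ Y'), IsOpenImmersion j' ∧ QuasiCompact j' ∧
      IsSchemeTheoreticallyDominant j' ∧ IsProper π ∧ j' ≫ π = j ∧
      ∃ G : Y'.Modules, FlatMod.IsFinLocFree G ∧ Nonempty ((Scheme.Modules.pullback j').obj G ≅ E) := by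
  haveI : CompactSpace Y := QuasiCompact.compactSpace_of_compactSpace p
  haveI := LocallyOfFiniteType.isLocallyNoetherian p
  haveI : IsNoetherian Y := {}
  let U : Y.Opens := j.opensRange
  let c := j.isoOpensRange
  haveI : IsSchemeTheoreticallyDominant U.ι := by
    rw [show U.ι = c.inv ≫ j from j.isoOpensRange_inv_comp.symm]; infer_instance
  haveI : QuasiCompact U.ι := by
    rw [show U.ι = c.inv ≫ j from j.isoOpensRange_inv_comp.symm]; infer_instance
  let EU := (Scheme.Modules.pullback c.inv).obj E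
  have hEU : FlatMod.IsFinLocFreeOfRank r EU := isFinLocFreeOfRank_pullback c.inv hE
  haveI : Coh.IsQCoh EU := LocFree.isQCoh_of_isFinLocFree (isFinLocFree_of_rank' hEU)
  obtain ⟨F, hFq, hFt, ⟨eF⟩⟩ := S2252.result (fun x => ⟨⊤, trivial, inferInstance⟩) U EU
    (LocFree.isFT_of_isFinLocFree (isFinLocFree_of_rank' hEU))
  haveI : F.IsQuasicoherent := hFq
  have hFP : CohB1.IsFP F := QC.isFP_of_isQCoh_of_isFT hFt
  have hfree : FlatMod.IsFinLocFreeOfRank r (F.restrict U.ι) := isFinLocFreeOfRank_of_iso eF.symm hEU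
  obtain ⟨hadm, hblow⟩ := S8913.result Y F hFP U (SectExtU.isSchematicallyDense_of_ι (U := U)) r hfree
  obtain ⟨Y₁, b, v, _, hb, _, hv⟩ := exists_blowUp_step j p (Fitt.sheafIdeal F r) hadm.2
  obtain ⟨G, π, hπ⟩ := exists_strictTransform b (Fitt.sheafIdeal F r) F hFq hb.1
  obtain ⟨hGfree, -, hK⟩ := hblow Y₁ b hb G π hπ
  haveI : Epi π := hπ.1
  let R := Scheme.Modules.restrictFunctor (b ⁻¹ᵁ U).ι
  haveI : IsIso (R.map π) := by
    haveI : Mono (R.map π) := by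
      rw [QC.mono_iff_app_injective]
      intro W
      refine (injective_iff_map_eq_zero _).2 fun s hs => ?_
      obtain ⟨t, ht⟩ := (QC.mem_range_kernel_app π ((b ⁻¹ᵁ U).ι ''ᵁ W) s).2 hs
      have h0 := congrArg (fun φ => φ.app W t) ((IsZero.iff_id_eq_zero _).1 hK)
      rw [← ht]
      exact (congrArg _ h0).trans (map_zero _)
    exact isIso_of_mono_of_epi _
  have hr : Set.range v ⊆ Set.range (b ⁻¹ᵁ U).ι := by
    rintro _ ⟨x, rfl⟩
    rw [Scheme.Opens.range_ι]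
    exact ⟨x, by rw [← Scheme.Hom.comp_apply, hv]⟩
  let l := IsOpenImmersion.lift (b ⁻¹ᵁ U).ι v hr
  have hl : l ≫ (b ⁻¹ᵁ U).ι = v := IsOpenImmersion.lift_fac _ _ _
  haveI : IsIso ((Scheme.Modules.pullback v).map π) := by
    have nat : R ⋙ Scheme.Modules.pullback l ≅ Scheme.Modules.pullback v :=
      Functor.isoWhiskerRight (Scheme.Modules.restrictFunctorIsoPullback _) _ ≪≫
        Scheme.Modules.pullbackComp _ _ ≪≫ Scheme.Modules.pullbackCongr hl
    refine (NatIso.isIso_map_iff nat π).1 ?_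
    exact inferInstanceAs (IsIso ((Scheme.Modules.pullback l).map (R.map π)))
  have eG : (Scheme.Modules.pullback v).obj G ≅ E :=
    (asIso ((Scheme.Modules.pullback v).map π)).symm ≪≫ (Scheme.Modules.pullbackComp v b).app F ≪≫
      (Scheme.Modules.pullbackCongr (hv.trans j.isoOpensRange_hom_ι.symm)).app F ≪≫
      (Scheme.Modules.pullbackComp c.hom U.ι).symm.app F ≪≫
      (Scheme.Modules.pullback c.hom).mapIso (((Scheme.Modules.restrictFunctorIsoPullback U.ι).app F).symm ≪≫ eF) ≪≫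
      (Scheme.Modules.pullbackComp c.hom c.inv).app E ≪≫ (Scheme.Modules.pullbackCongr c.hom_inv_id).app E ≪≫
      (Scheme.Modules.pullbackId _).app E
  haveI : QuasiCompact (v ≫ b) := hv ▸ inferInstance
  haveI : QuasiCompact v := QuasiCompact.of_comp v b
  obtain ⟨h₁, h₂, h₃, -, h₄, -⟩ := exists_dense_image (v ≫ b) v b rfl
  refine ⟨v.image, v.imageι ≫ b, v.toImage, h₁, h₂, h₃, inferInstance, by rw [Scheme.Hom.toImage_imageι_assoc, hv],
    _, DerPerf.isFinLocFree_pullback v.imageι (isFinLocFree_of_rank' hGfree), ⟨?_⟩⟩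
  exact (Scheme.Modules.pullbackComp v.toImage v.imageι).app G ≪≫
    (Scheme.Modules.pullbackCongr v.toImage_imageι).app G ≪≫ eG

/-- Having a compactification to which the modules extend. -/
def Good (g : X ⟶ S) {ι : Type v} (E : ι → X.Modules) : Prop :=
  ∃ (Y : Scheme.{u}) (j : X ⟶ Y) (p : Y ⟶ S), IsOpenImmersion j ∧ QuasiCompact j ∧
    IsSchemeTheoreticallyDominant j ∧ IsProper p ∧ j ≫ p = g ∧
    ∀ i, ∃ E' : Y.Modules, FlatMod.IsFinLocFree E' ∧ Nonempty ((Scheme.Modules.pullback j).obj E' ≅ E i)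

theorem good_of_constant [IsNoetherian S] (g : X ⟶ S) [IsSeparated g] [QuasiCompact g] [LocallyOfFiniteType g]
    {ι : Type v} [Finite ι] (E : ι → X.Modules) (r : ι → ℕ) (hE : ∀ i, FlatMod.IsFinLocFreeOfRank (r i) (E i)) :
    Good g E := by
  classical
  haveI := Fintype.ofFinite ι
  suffices h : ∀ s : Finset ι, ∃ (Y : Scheme.{u}) (j : X ⟶ Y) (p : Y ⟶ S), IsOpenImmersion j ∧ QuasiCompact j ∧
      IsSchemeTheoreticallyDominant j ∧ IsProper p ∧ j ≫ p = g ∧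
      ∀ i ∈ s, ∃ E' : Y.Modules, FlatMod.IsFinLocFree E' ∧ Nonempty ((Scheme.Modules.pullback j).obj E' ≅ E i) by
    obtain ⟨Y, j, p, h₁, h₂, h₃, h₄, h₅, h₆⟩ := h Finset.univ
    exact ⟨Y, j, p, h₁, h₂, h₃, h₄, h₅, fun i => h₆ i (Finset.mem_univ i)⟩
  intro s
  induction s using Finset.induction with
  | empty =>
    obtain ⟨Y, j, p, _, _, _, h⟩ := S0384.result g
    obtain ⟨h₁, h₂, h₃, -, h₄, h₅⟩ := exists_dense_image g j p h
    exact ⟨_, _, _, h₁, h₂, h₃, h₄, h₅, by simp⟩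
  | insert a s ha ih =>
    obtain ⟨Y, j, p, _, _, _, _, hjp, hs⟩ := ih
    obtain ⟨Y', π, j', h₁, h₂, h₃, _, hj', G, hG, eG⟩ := exists_extend_rank j p (E a) (hE a)
    refine ⟨Y', j', π ≫ p, h₁, h₂, h₃, inferInstance, by rw [reassoc_of% hj', hjp], fun i hi => ?_⟩
    rcases Finset.mem_insert.1 hi with rfl | hi
    · exact ⟨G, hG, eG⟩
    · obtain ⟨E', hE', ⟨e⟩⟩ := hs i hi
      exact ⟨(Scheme.Modules.pullback π).obj E', DerPerf.isFinLocFree_pullback π hE',
        ⟨(Scheme.Modules.pullbackComp j' π).app E' ≪≫ (Scheme.Modules.pullbackCongr hj').app E' ≪≫ e⟩⟩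

theorem good_disjoint [IsNoetherian S] [IsNoetherian X] (g : X ⟶ S) {ι : Type v} (E : ι → X.Modules)
    (V₁ V₂ : X.Opens) (hV : ∀ x, x ∈ V₁ ∨ x ∈ V₂) (hd : Disjoint (V₁ : Set X) V₂)
    (h₁ : Good (V₁.ι ≫ g) fun i => (Scheme.Modules.pullback V₁.ι).obj (E i))
    (h₂ : Good (V₂.ι ≫ g) fun i => (Scheme.Modules.pullback V₂.ι).obj (E i)) : Good g E := by
  obtain ⟨Y₁, j₁, p₁, _, _, _, _, hj₁, hE₁⟩ := h₁
  obtain ⟨Y₂, j₂, p₂, _, _, _, _, hj₂, hE₂⟩ := h₂
  obtain ⟨F, hF₁, hF₂⟩ := RZUnion.exists_glue_two V₁ V₂ hV (j₁ ≫ coprod.inl) (j₂ ≫ coprod.inr) fun {Z} z₁ z₂ hz => by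
    haveI : IsEmpty Z := ⟨fun z => Set.disjoint_left.1 hd (z₁ z).2 (by
      have h := congrArg (fun k : Z ⟶ X => k z) hz
      simp only [Scheme.Hom.comp_apply] at h
      show V₁.ι (z₁ z) ∈ V₂
      rw [h]
      exact (z₂ z).2)⟩
    exact isInitialOfIsEmpty.hom_ext _ _
  haveI : IsOpenImmersion (V₁.ι ≫ F) := by rw [hF₁]; infer_instance
  haveI : IsOpenImmersion (V₂.ι ≫ F) := by rw [hF₂]; infer_instance
  haveI : IsOpenImmersion F := RZUnion.isOpenImmersion_two V₁ V₂ hV F fun x y hx hy h => by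
    exfalso
    refine inl_ne_inr Y₁ Y₂ (j₁ ⟨x, hx⟩) (j₂ ⟨y, hy⟩) ?_
    rw [← Scheme.Hom.comp_apply, ← hF₁, ← Scheme.Hom.comp_apply, ← hF₂]
    exact h
  let P := coprod.desc p₁ p₂
  haveI : IsProper P := by
    haveI : IsProper (coprod.map p₁ p₂) := IsZariskiLocalAtTarget.coprodMap _ _ ‹_› ‹_›
    rw [show P = coprod.map p₁ p₂ ≫ coprod.desc (𝟙 S) (𝟙 S) by
      rw [coprod.map_desc, Category.comp_id, Category.comp_id]]
    infer_instance
  haveI : QuasiSeparatedSpace (Y₁ ⨿ Y₂ : Scheme.{u}) := quasiSeparatedSpace_of_quasiSeparated P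
  haveI : QuasiCompact F := quasiCompact_of_compactSpace F
  have hFP : F ≫ P = g := RZUnion.hom_ext_two V₁ V₂ hV _ _
    (by rw [reassoc_of% hF₁, coprod.inl_desc, hj₁]) (by rw [reassoc_of% hF₂, coprod.inr_desc, hj₂])
  obtain ⟨q₁, q₂, q₃, -, q₄, q₅⟩ := exists_dense_image g F P hFP
  refine ⟨_, F.toImage, F.imageι ≫ P, q₁, q₂, q₃, q₄, q₅, fun i => ?_⟩
  obtain ⟨M₁, hM₁, ⟨a₁⟩⟩ := hE₁ i
  obtain ⟨M₂, hM₂, ⟨a₂⟩⟩ := hE₂ i
  obtain ⟨M, hM, ⟨c₁⟩, ⟨c₂⟩⟩ := exists_glue_modules (coprod.inl : Y₁ ⟶ Y₁ ⨿ Y₂) coprod.inr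
    (fun z => (isCompl_range_inl_inr Y₁ Y₂).sup_eq_top.ge (Set.mem_univ z)) (fun a b => inl_ne_inr Y₁ Y₂ a b) M₁ M₂ hM₁ hM₂
  refine ⟨(Scheme.Modules.pullback F.imageι).obj M, DerPerf.isFinLocFree_pullback F.imageι hM, ?_⟩
  obtain ⟨e⟩ := nonempty_iso_of_pieces V₁.ι V₂.ι (fun x => by rw [Scheme.Opens.range_ι, Scheme.Opens.range_ι]; exact hV x)
    (fun a b h => Set.disjoint_left.1 hd a.2 (show V₁.ι a ∈ V₂ from h ▸ b.2)) ((Scheme.Modules.pullback F).obj M) (E i)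
    ((Scheme.Modules.pullbackComp V₁.ι F).app M ≪≫ (Scheme.Modules.pullbackCongr hF₁).app M ≪≫
      (Scheme.Modules.pullbackComp j₁ coprod.inl).symm.app M ≪≫ (Scheme.Modules.pullback j₁).mapIso c₁ ≪≫ a₁)
    ((Scheme.Modules.pullbackComp V₂.ι F).app M ≪≫ (Scheme.Modules.pullbackCongr hF₂).app M ≪≫
      (Scheme.Modules.pullbackComp j₂ coprod.inr).symm.app M ≪≫ (Scheme.Modules.pullback j₂).mapIso c₂ ≪≫ a₂)
  exact ⟨(Scheme.Modules.pullbackComp F.toImage F.imageι).app M ≪≫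
    (Scheme.Modules.pullbackCongr F.toImage_imageι).app M ≪≫ e⟩

theorem good_empty [IsNoetherian S] (g : X ⟶ S) [IsEmpty X] [IsSeparated g] [QuasiCompact g] [LocallyOfFiniteType g]
    {ι : Type v} [Finite ι] (E : ι → X.Modules) : Good g E :=
  good_of_constant g E (fun _ => 0) fun _ x => isEmptyElim x

/-- The locus of rank `n`. -/
def rankLocus (E : X.Modules) (n : ℕ) : X.Opens :=
  ⨆ (W : {W : X.Opens // Nonempty (E.restrict W.ι ≅ FlatMod.freeMod (↑W) n)}), W.1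

theorem isFinLocFreeOfRank_of_le {E : X.Modules} {n : ℕ} {W : X.Opens} (hW : W ≤ rankLocus E n) :
    FlatMod.IsFinLocFreeOfRank n ((Scheme.Modules.pullback W.ι).obj E) := fun x => by
  obtain ⟨⟨U, ⟨e⟩⟩, hxU⟩ := Opens.mem_iSup.1 (hW x.2)
  exact ⟨W.ι ⁻¹ᵁ U, hxU, ⟨(DerPerf.pullRestrictIso W.ι U).app E ≪≫ (Scheme.Modules.pullback (W.ι ∣_ U)).mapIso e ≪≫
    DerPerf.pullFreeIso (W.ι ∣_ U) n⟩⟩

theorem disjoint_rankLocus {E : X.Modules} (hq : Coh.IsQCoh E) (ht : CohB1.IsFT E) {n m : ℕ} (hnm : n < m) :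
    Disjoint (rankLocus E n : Set X) (rankLocus E m) := by
  refine Set.disjoint_left.2 fun x hx hx' => ?_
  obtain ⟨⟨W, ⟨e⟩⟩, hxW⟩ := Opens.mem_iSup.1 hx
  obtain ⟨⟨W', ⟨e'⟩⟩, hxW'⟩ := Opens.mem_iSup.1 hx'
  have key : ∀ (W : X.Opens) (r : ℕ), W ≤ rankLocus E r →
      (∀ k, k < r → (Fitt.sheafIdeal E k).comap W.ι = ⊥) ∧ (∀ k, r ≤ k → (Fitt.sheafIdeal E k).comap W.ι = ⊤) := fun W r hW => by
    have h := (S8875.result _ (E.restrict W.ι) (QC.isQCoh_restrict W.ι hq) (QC.isFT_restrict W.ι ht) r).1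
      (isFinLocFreeOfRank_of_iso ((Scheme.Modules.restrictFunctorIsoPullback W.ι).app E).symm (isFinLocFreeOfRank_of_le hW))
    exact ⟨fun k hk => (FittLib.sheafIdeal_restrict E hq ht W k).symm.trans (h.1 k hk),
      fun k hk => (FittLib.sheafIdeal_restrict E hq ht W k).symm.trans (h.2 k hk)⟩
  have h1 := (key W n (le_iSup (fun W : {W : X.Opens // Nonempty (E.restrict W.ι ≅ FlatMod.freeMod (↑W) n)} => W.1) ⟨W, ⟨e⟩⟩)).2 n le_rfl
  have h2 := (key W' m (le_iSup (fun W : {W : X.Opens // Nonempty (E.restrict W.ι ≅ FlatMod.freeMod (↑W) m)} => W.1) ⟨W', ⟨e'⟩⟩)).1 n hnm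
  have e1 : x ∉ (Fitt.sheafIdeal E n).support := fun h => by
    have h' : (⟨x, hxW⟩ : W.toScheme) ∈ ((Fitt.sheafIdeal E n).comap W.ι).support := by
      rw [Scheme.IdealSheafData.support_comap]; exact h
    rw [h1, Scheme.IdealSheafData.support_top] at h'
    exact h'
  refine e1 ?_
  have h' : (⟨x, hxW'⟩ : W'.toScheme) ∈ ((Fitt.sheafIdeal E n).comap W'.ι).support := by
    rw [h2, Scheme.IdealSheafData.support_bot]; trivial
  rw [Scheme.IdealSheafData.support_comap] at h'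
  exact h'

/-- Compactifications extending finitely many locally free modules. -/
theorem exists_good [IsNoetherian S] (g : X ⟶ S) [IsSeparated g] [QuasiCompact g] [LocallyOfFiniteType g]
    {ι : Type v} [Finite ι] (E : ι → X.Modules) (hE : ∀ i, FlatMod.IsFinLocFree (E i)) : Good g E := by
  classical
  haveI := Fintype.ofFinite ι
  haveI : CompactSpace X := QuasiCompact.compactSpace_of_compactSpace g
  haveI := LocallyOfFiniteType.isLocallyNoetherian g
  haveI : IsNoetherian X := {}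
  let P : (ι → ℕ) → X.Opens := fun c => ⟨⋂ i, (rankLocus (E i) (c i) : Set X), isOpen_iInter_of_finite fun i => (rankLocus (E i) (c i)).2⟩
  have hPle : ∀ c i, P c ≤ rankLocus (E i) (c i) := fun c i x hx => Set.mem_iInter.1 hx i
  have hPd : ∀ c c', c ≠ c' → Disjoint (P c : Set X) (P c') := fun c c' h => by
    obtain ⟨i, hi⟩ := Function.ne_iff.1 h
    have hq := LocFree.isQCoh_of_isFinLocFree (hE i)
    have ht := LocFree.isFT_of_isFinLocFree (hE i)
    rcases lt_or_gt_of_ne hi with hlt | hlt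
    · exact (disjoint_rankLocus hq ht hlt).mono (hPle c i) (hPle c' i)
    · exact (disjoint_rankLocus hq ht hlt).symm.mono (hPle c i) (hPle c' i)
  have hPc : ∀ x, ∃ c, x ∈ P c := fun x => by
    choose W n hW e using fun i => hE i x
    exact ⟨n, Set.mem_iInter.2 fun i => Opens.mem_iSup.2 ⟨⟨W i, e i⟩, hW i⟩⟩
  obtain ⟨t, ht⟩ := isCompact_univ.elim_finite_subcover (fun c => (P c : Set X)) (fun c => (P c).2)
    (fun x _ => Set.mem_iUnion.2 (hPc x))
  have inst : ∀ W : X.Opens, QuasiCompact W.ι ∧ IsNoetherian W.toScheme := fun W => by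
    haveI : CompactSpace W.toScheme := isCompact_iff_compactSpace.1 (NoetherianSpace.isCompact _)
    exact ⟨quasiCompact_of_compactSpace _, {}⟩
  have tr : ∀ (W V : X.Opens) (hVW : V ≤ W), Good (V.ι ≫ g) (fun i => (Scheme.Modules.pullback V.ι).obj (E i)) →
      Good ((W.ι ⁻¹ᵁ V).ι ≫ W.ι ≫ g) fun i => (Scheme.Modules.pullback (W.ι ⁻¹ᵁ V).ι).obj ((Scheme.Modules.pullback W.ι).obj (E i)) := by
    intro W V hVW h
    obtain ⟨Y, j, p, _, _, _, _, hj, hEj⟩ := h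
    haveI : IsIso (W.ι ∣_ V) := by
      refine (isIso_iff_isOpenImmersion_and_surjective _).2 ⟨inferInstance, ⟨fun v => ⟨⟨⟨v.1, hVW v.2⟩, v.2⟩, ?_⟩⟩⟩
      rw [morphismRestrict_base]
      rfl
    refine ⟨Y, (W.ι ∣_ V) ≫ j, p, inferInstance, inferInstance, inferInstance, inferInstance, ?_, fun i => ?_⟩
    · rw [Category.assoc, hj, morphismRestrict_ι_assoc]
    · obtain ⟨E', hE', ⟨e⟩⟩ := hEj i
      exact ⟨E', hE', ⟨(Scheme.Modules.pullbackComp (W.ι ∣_ V) j).symm.app E' ≪≫ (Scheme.Modules.pullback _).mapIso e ≪≫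
        (Scheme.Modules.pullbackComp (W.ι ∣_ V) V.ι).app (E i) ≪≫
        (Scheme.Modules.pullbackCongr (morphismRestrict_ι W.ι V)).app (E i) ≪≫
        (Scheme.Modules.pullbackComp _ _).symm.app (E i)⟩⟩
  have key : ∀ s : Finset (ι → ℕ), Good ((s.sup P).ι ≫ g) fun i => (Scheme.Modules.pullback (s.sup P).ι).obj (E i) := by
    intro s
    induction s using Finset.induction with
    | empty =>
      haveI : IsEmpty ((∅ : Finset (ι → ℕ)).sup P).toScheme := ⟨fun x => (Finset.sup_empty (f := P)).le x.2⟩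
      haveI := (inst ((∅ : Finset (ι → ℕ)).sup P)).1
      exact good_empty _ _
    | insert a s ha ih =>
      let W := (insert a s).sup P
      obtain ⟨-, hWn⟩ := inst W
      have hW : W = P a ⊔ s.sup P := Finset.sup_insert
      refine good_disjoint (W.ι ≫ g) _ (W.ι ⁻¹ᵁ P a) (W.ι ⁻¹ᵁ s.sup P) (fun x => Opens.mem_sup.1 (hW.le x.2)) ?_
        (tr W (P a) (le_sup_left.trans hW.ge) ?_) (tr W (s.sup P) (le_sup_right.trans hW.ge) ih)
      · refine Set.disjoint_left.2 fun x hx hx' => ?_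
        obtain ⟨c, hc, hxc⟩ : ∃ c ∈ s, x.1 ∈ P c := by
          have hx'' : x.1 ∈ s.sup P := hx'
          rw [Finset.sup_eq_iSup] at hx''
          obtain ⟨c, hc⟩ := Opens.mem_iSup.1 hx''
          obtain ⟨hcs, hxc⟩ := Opens.mem_iSup.1 hc
          exact ⟨c, hcs, hxc⟩
        exact Set.disjoint_left.1 (hPd a c fun e => ha (e ▸ hc)) hx hxc
      · haveI := (inst (P a)).1
        exact good_of_constant ((P a).ι ≫ g) _ a fun i => isFinLocFreeOfRank_of_le (hPle a i)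
  have htop : t.sup P = ⊤ := top_le_iff.1 fun x _ => by
    obtain ⟨c, hc, hxc⟩ := Set.mem_iUnion₂.1 (ht (Set.mem_univ x))
    exact Finset.le_sup (f := P) hc hxc
  obtain ⟨Y, j, p, _, _, _, _, hj, hEj⟩ := key t
  haveI : IsIso (t.sup P).ι := by rw [htop, ← Scheme.topIso_hom]; infer_instance
  refine ⟨Y, inv (t.sup P).ι ≫ j, p, inferInstance, inferInstance, inferInstance, inferInstance,
    by rw [Category.assoc, hj, IsIso.inv_hom_id_assoc], fun i => ?_⟩
  obtain ⟨E', hE', ⟨e⟩⟩ := hEj i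
  exact ⟨E', hE', ⟨(Scheme.Modules.pullbackComp (inv (t.sup P).ι) j).symm.app E' ≪≫ (Scheme.Modules.pullback _).mapIso e ≪≫
    (Scheme.Modules.pullbackComp (inv (t.sup P).ι) (t.sup P).ι).app (E i) ≪≫
    (Scheme.Modules.pullbackCongr (IsIso.inv_hom_id (t.sup P).ι)).app (E i) ≪≫ (Scheme.Modules.pullbackId _).app (E i)⟩⟩

end Groth.Agent.Nagata
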