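import Groth.Prelude.Def_Found
import Mathlib.RingTheory.Localization.FractionRing
import Mathlib.RingTheory.Localization.Integral
import Mathlib.RingTheory.DedekindDomain.IntegralClosure
import Mathlib.RingTheory.Finiteness.Basic
import Mathlib.RingTheory.IntegralClosure.IntegralRestrict

/-!
# Basic facts on N-1 and N-2 domains
-/

set_option autoImplicit false
set_option linter.style.haveILetI false
universe u

namespace Groth.Agent.Nagata

attribute [local instance] FractionRing.liftAlgebra

/-- Integral closures embed along injective maps of algebras. -/
theorem finite_closure_of_algHom {A : Type u} [CommRing A] [IsNoetherianRing A] {L E : Type u} [CommRing L]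
    [CommRing E] [Algebra A L] [Algebra A E] (j : L →ₐ[A] E) (hj : Function.Injective j)
    (h : Module.Finite A (integralClosure A E)) : Module.Finite A (integralClosure A L) := by
  haveI : IsNoetherian A (integralClosure A E) := isNoetherian_of_isNoetherianRing_of_finite A _
  let f : integralClosure A L →ₗ[A] integralClosure A E :=
    { toFun := fun z => ⟨j z, (z.2 : IsIntegral A (z : L)).map j⟩
      map_add' := fun z w => Subtype.ext (map_add j (z : L) w)
      map_smul' := fun a z => Subtype.ext (map_smul j a (z : L)) }
  exact Module.Finite.of_injective f fun z w hzw => Subtype.ext (hj (congrArg Subtype.val hzw))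

/-- The N-2 property with an arbitrary model of the fraction field. -/
theorem finite_closure_of_frac {A : Type u} [CommRing A] [IsDomain A] (hA : CAlg.IsN2 A)
    (K : Type u) [Field K] [Algebra A K] [IsFractionRing A K]
    (L : Type u) [Field L] [Algebra A L] [Algebra K L] [IsScalarTower A K L] [FiniteDimensional K L] :
    Module.Finite A (integralClosure A L) := by
  haveI : FaithfulSMul A L := (faithfulSMul_iff_algebraMap_injective _ _).mpr (by
    rw [IsScalarTower.algebraMap_eq A K L]
    exact (algebraMap K L).injective.comp (IsFractionRing.injective A K))
  let e : K ≃+* FractionRing A := (FractionRing.algEquiv A K).symm.toRingEquiv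
  refine hA L (Module.Finite.of_equiv_equiv e (RingEquiv.refl L) ?_)
  refine IsLocalization.ringHom_ext (nonZeroDivisors A) (RingHom.ext fun a => ?_)
  show algebraMap (FractionRing A) L (e (algebraMap A K a)) = algebraMap K L (algebraMap A K a)
  rw [show e (algebraMap A K a) = algebraMap A (FractionRing A) a from (FractionRing.algEquiv A K).symm.commutes a,
    ← IsScalarTower.algebraMap_apply, ← IsScalarTower.algebraMap_apply]

theorem isN1_of_isN2 {A : Type u} [CommRing A] [IsDomain A] (hA : CAlg.IsN2 A) : CAlg.IsN1 A :=
  finite_closure_of_frac hA (FractionRing A) (FractionRing A)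

/-- A finite extension of an N-2 domain is N-2. -/
theorem isN2_of_finite {A C : Type u} [CommRing A] [IsDomain A] [CommRing C] [IsDomain C] [Algebra A C]
    [Module.Finite A C] [FaithfulSMul A C] (hA : CAlg.IsN2 A) : CAlg.IsN2 C := by
  intro L _ _ _ _ hfd
  letI : Algebra A L := ((algebraMap C L).comp (algebraMap A C)).toAlgebra
  haveI : IsScalarTower A C L := IsScalarTower.of_algebraMap_eq fun _ => rfl
  haveI : IsScalarTower A (FractionRing C) L := IsScalarTower.of_algebraMap_eq fun a => by
    show algebraMap C L (algebraMap A C a) = _
    rw [IsScalarTower.algebraMap_apply C (FractionRing C) L, ← IsScalarTower.algebraMap_apply A C (FractionRing C)]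
  letI : Algebra (FractionRing A) L :=
    ((algebraMap (FractionRing C) L).comp (algebraMap (FractionRing A) (FractionRing C))).toAlgebra
  haveI : IsScalarTower (FractionRing A) (FractionRing C) L := IsScalarTower.of_algebraMap_eq fun _ => rfl
  haveI : IsScalarTower A (FractionRing A) L := IsScalarTower.of_algebraMap_eq fun a => by
    show algebraMap A L a = algebraMap (FractionRing C) L (algebraMap (FractionRing A) (FractionRing C) (algebraMap A (FractionRing A) a))
    rw [← IsScalarTower.algebraMap_apply A (FractionRing A) (FractionRing C), ← IsScalarTower.algebraMap_apply]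
  haveI : FiniteDimensional (FractionRing C) L := hfd
  haveI : FiniteDimensional (FractionRing A) L := Module.Finite.trans (FractionRing C) L
  haveI := finite_closure_of_frac hA (FractionRing A) L
  obtain ⟨G, hG⟩ := (Module.Finite.fg_top : (⊤ : Submodule A (integralClosure A L)).FG)
  classical
  let ι : integralClosure A L → integralClosure C L := fun z => ⟨z, IsIntegral.tower_top (z.2 : IsIntegral A (z : L))⟩
  refine ⟨⟨G.image ι, eq_top_iff.mpr fun z _ => ?_⟩⟩
  have hz : IsIntegral A (z : L) := isIntegral_trans (R := A) (A := C) (z : L) z.2
  have h0 : (⟨(z : L), hz⟩ : integralClosure A L) ∈ Submodule.span A (G : Set (integralClosure A L)) := hG ▸ trivial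
  let f : integralClosure A L →ₗ[A] integralClosure C L :=
    { toFun := ι
      map_add' := fun _ _ => rfl
      map_smul' := fun a w => Subtype.ext (by
        show (a • w : L) = _
        rfl) }
  have h1 : z ∈ (Submodule.span A (G : Set (integralClosure A L))).map f := ⟨_, h0, Subtype.ext rfl⟩
  rw [Submodule.map_span] at h1
  rw [Finset.coe_image]
  exact Submodule.span_le_restrictScalars A C _ h1

theorem isN2_of_ringEquiv {A B : Type u} [CommRing A] [IsDomain A] [CommRing B] [IsDomain B] (e : A ≃+* B)
    (hA : CAlg.IsN2 A) : CAlg.IsN2 B := by
  letI : Algebra A B := e.toRingHom.toAlgebra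
  haveI : Module.Finite A B := Module.Finite.of_surjective (Algebra.linearMap A B) e.surjective
  haveI : FaithfulSMul A B := (faithfulSMul_iff_algebraMap_injective _ _).mpr e.injective
  exact isN2_of_finite hA

theorem isN2_field (k : Type u) [Field k] : CAlg.IsN2 k := by
  intro L _ _ _ _ hfd
  haveI : FiniteDimensional (FractionRing k) L := hfd
  haveI : Module.Finite k (FractionRing k) := Module.Finite.of_surjective (Algebra.linearMap k (FractionRing k))
    (IsFractionRing.surjective_iff_isField.mpr (Field.toIsField k))
  haveI : Module.Finite k L := Module.Finite.trans (FractionRing k) L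
  exact Module.Finite.of_injective (integralClosure k L).val.toLinearMap Subtype.val_injective

/-- Normal Noetherian domains with separable extensions only, e.g. of characteristic zero. -/
theorem isN2_of_charZero {A : Type u} [CommRing A] [IsDomain A] [IsNoetherianRing A] [IsIntegrallyClosed A]
    [CharZero A] : CAlg.IsN2 A := by
  intro L _ _ _ _ hfd
  haveI : FiniteDimensional (FractionRing A) L := hfd
  haveI : CharZero (FractionRing A) := charZero_of_injective_algebraMap (IsFractionRing.injective A (FractionRing A))
  exact IsIntegralClosure.finite A (FractionRing A) L (integralClosure A L)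

end Groth.Agent.Nagata
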