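import Mathlib
import Groth.Agent.RZExt.Two

/-!
Graphs, scheme-theoretic dominance and gluing of mutually quasi-dominating schemes.
-/

set_option autoImplicit false
universe u
open CategoryTheory Limits AlgebraicGeometry

noncomputable section

namespace Groth.Agent.Nagata

variable {X Y Z U S : Scheme.{u}}

/-- The graph of a proper morphism is closed. -/
theorem isClosed_range_lift (pX : X ⟶ S) (pY : Y ⟶ S) [IsSeparated pX] (j : U ⟶ X) (g : U ⟶ Y) [IsProper g]
    (h : j ≫ pX = g ≫ pY) : IsClosed (Set.range (pullback.lift j g h)) := by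
  haveI : IsProper (pullback.lift j g h ≫ pullback.snd pX pY) := by rw [pullback.lift_snd]; infer_instance
  haveI : IsProper (pullback.lift j g h) := IsProper.of_comp (f := pullback.lift j g h) (g := pullback.snd pX pY)
  exact (pullback.lift j g h).isClosedMap.isClosed_range

theorem schemDom_of_comp (f : X ⟶ Y) (g : Y ⟶ Z) [IsSchemeTheoreticallyDominant (f ≫ g)] :
    IsSchemeTheoreticallyDominant g :=
  ⟨bot_unique ((f.le_ker_comp g).trans_eq (IsSchemeTheoreticallyDominant.ker_eq_bot (f ≫ g)))⟩

theorem schemDom_of_comp_openImmersion (f : X ⟶ Y) (i : Y ⟶ Z) [IsOpenImmersion i]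
    [IsSchemeTheoreticallyDominant (f ≫ i)] [QuasiCompact (f ≫ i)] : IsSchemeTheoreticallyDominant f := by
  have H : IsPullback (𝟙 X) f (f ≫ i) i := IsPullback.of_isLimit' ⟨by simp⟩ (PullbackCone.IsLimit.mk _
    (fun c => c.fst) (fun c => by simp) (fun c => (cancel_mono i).1 (by rw [Category.assoc]; exact c.condition))
    (fun c m h₁ _ => by simpa using h₁))
  exact IsSchemeTheoreticallyDominant.of_isPullback H

/-- Morphisms into a separated scheme which agree on a schematically dense part agree. -/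
theorem ext_of_schemDom (p : Y ⟶ S) [IsSeparated p] (u : U ⟶ X) [IsSchemeTheoreticallyDominant u]
    (a b : X ⟶ Y) (h : a ≫ p = b ≫ p) (hu : u ≫ a = u ≫ b) : a = b := by
  let l : X ⟶ pullback p p := pullback.lift a b h
  let e := pullback.fst l (pullback.diagonal p)
  let v : U ⟶ pullback l (pullback.diagonal p) := pullback.lift u (u ≫ a) (by
    refine pullback.hom_ext ?_ ?_
    · rw [Category.assoc, Category.assoc, pullback.diagonal_fst, Category.comp_id, pullback.lift_fst]
    · rw [Category.assoc, Category.assoc, pullback.diagonal_snd, Category.comp_id, pullback.lift_snd, hu])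
  have hv : v ≫ e = u := pullback.lift_fst _ _ _
  haveI : IsSchemeTheoreticallyDominant (v ≫ e) := hv ▸ inferInstance
  haveI : IsIso e := IsClosedImmersion.isIso_iff_ker_eq_bot.2 (schemDom_of_comp v e).ker_eq_bot
  have hc := pullback.condition (f := l) (g := pullback.diagonal p)
  have ha := congrArg (fun k => k ≫ pullback.fst p p) hc
  have hb := congrArg (fun k => k ≫ pullback.snd p p) hc
  simp only [l, Category.assoc, pullback.lift_fst, pullback.lift_snd, pullback.diagonal_fst, pullback.diagonal_snd,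
    Category.comp_id] at ha hb
  exact (cancel_epi e).1 (ha.trans hb.symm)

/-- Scheme-theoretic dominance is local on the target. -/
theorem schemDom_of_cover (f : X ⟶ Y) [QuasiCompact f] {ι : Type*} (O : ι → Y.Opens) (hO : ∀ y, ∃ i, y ∈ O i)
    (h : ∀ i, IsSchemeTheoreticallyDominant (f ∣_ O i)) : IsSchemeTheoreticallyDominant f := by
  refine ⟨Scheme.IdealSheafData.ext_of_iSup_eq_top
    (fun V : {V : Y.affineOpens // ∃ i, V.1 ≤ O i} => V.1) ?_ fun V => ?_⟩
  · rw [eq_top_iff]
    intro y _
    obtain ⟨i, hi⟩ := hO y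
    obtain ⟨_, ⟨V, hV, rfl⟩, hyV, hVO : V ≤ O i⟩ :=
      Y.isBasis_affineOpens.exists_subset_of_mem_open hi (O i).2
    exact TopologicalSpace.Opens.mem_iSup.2 ⟨⟨⟨V, hV⟩, i, hVO⟩, hyV⟩
  · obtain ⟨⟨V, hV⟩, i, hVO⟩ := V
    rw [Scheme.Hom.ker_apply, Scheme.IdealSheafData.ideal_bot, Pi.bot_apply, ← RingHom.injective_iff_ker_eq_bot]
    haveI := h i
    have hi := (f ∣_ O i).app_injective ((O i).ι ⁻¹ᵁ V)
    rw [morphismRestrict_app] at hi
    have e : (O i).ι ''ᵁ ((O i).ι ⁻¹ᵁ V) = V := by
      rw [Scheme.Hom.image_preimage_eq_opensRange_inf, Scheme.Opens.opensRange_ι, inf_eq_right]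
      exact hVO
    have hinj : Function.Injective (f.app ((O i).ι ''ᵁ ((O i).ι ⁻¹ᵁ V))) := by
      intro s t hst
      refine hi ?_
      show (X.presheaf.map _) ((f.app _) s) = (X.presheaf.map _) ((f.app _) t)
      rw [hst]
    rwa [e] at hinj

end Groth.Agent.Nagata
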