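import Groth.Agent.Nagata.Bundles
import Groth.Agent.Nagata.Projective
import Groth.Agent.TMul.AmpleComp
import Groth.Agent.TMul.RelAmpleOps
import Groth.Agent.BlowAmp.Ample
import Groth.Agent.ResDesc.ResProp

/-!
# Projective compactifications extending locally free modules
-/

set_option autoImplicit false
set_option linter.style.haveILetI false
set_option backward.isDefEq.respectTransparency false
set_option backward.isDefEq.respectTransparency.types false

universe u v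

open CategoryTheory CategoryTheory.Limits AlgebraicGeometry TopologicalSpace Opposite

noncomputable section

namespace Groth.Agent.Nagata

variable {X S : Scheme.{u}}

theorem isQuasiProjective_opens (g : X ⟶ S) (hg : RelProj.IsQuasiProjective g) (V : X.Opens) [QuasiCompact V.ι] :
    RelProj.IsQuasiProjective (V.ι ≫ g) := by
  obtain ⟨_, _, L, hL⟩ := hg
  exact ⟨inferInstance, inferInstance, _, TMul.isRelAmple_pullback_of_isInducing V.ι
    V.ι.isOpenEmbedding.isInducing hL⟩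

/-- Invertibility is local for open immersions. -/
theorem isInvertible_of_cover {Z : Scheme.{u}} (M : Z.Modules)
    (h : ∀ z : Z, ∃ (Y : Scheme.{u}) (f : Y ⟶ Z) (_ : IsOpenImmersion f), z ∈ Set.range f ∧
      PicF.IsInvertible ((Scheme.Modules.pullback f).obj M)) : PicF.IsInvertible M := fun z => by
  obtain ⟨Y, f, _, ⟨y, rfl⟩, hM⟩ := h z
  obtain ⟨U, hyU, ⟨φ⟩⟩ := hM y
  let T : Z.Opens := f ''ᵁ U
  let k : (T : Scheme.{u}) ⟶ (U : Scheme.{u}) := IsOpenImmersion.lift (U.ι ≫ f) T.ι (by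
    rw [Scheme.Opens.range_ι]
    rintro _ ⟨w, hw, rfl⟩
    exact ⟨⟨w, hw⟩, rfl⟩)
  have hk : k ≫ U.ι ≫ f = T.ι := IsOpenImmersion.lift_fac _ _ _
  haveI : IsOpenImmersion (k ≫ U.ι ≫ f) := hk ▸ inferInstance
  haveI : IsOpenImmersion k := .of_comp k (U.ι ≫ f)
  obtain ⟨e₁⟩ := TMul.nonempty_restrictRestrictIso f U.ι (U.ι ≫ f) rfl M
  obtain ⟨e₂⟩ := TMul.nonempty_restrictRestrictIso (U.ι ≫ f) k T.ι hk M
  exact ⟨T, ⟨y, hyU, rfl⟩, ⟨e₂.symm ≪≫ (Scheme.Modules.restrictFunctor k).mapIso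
    (e₁.symm ≪≫ (Scheme.Modules.restrictFunctor U.ι).mapIso ((Scheme.Modules.restrictFunctorIsoPullback f).app M) ≪≫ φ) ≪≫
      Scheme.Modules.restrictUnitIso k⟩⟩

theorem isInvertible_of_iso' {Z : Scheme.{u}} {L L' : Z.Modules} (e : L ≅ L') (h : PicF.IsInvertible L) :
    PicF.IsInvertible L' := fun z => by
  obtain ⟨U, hz, ⟨φ⟩⟩ := h z
  exact ⟨U, hz, ⟨((Scheme.Modules.restrictFunctor U.ι).mapIso e).symm ≪≫ φ⟩⟩

/-- The idempotent of an open and closed set. -/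
theorem exists_basicOpen_eq_clopen {W : Scheme.{u}} (C C' : W.Opens) (hcov : ∀ x, x ∈ C ∨ x ∈ C')
    (hd : ∀ x, x ∈ C → x ∈ C' → False) : ∃ a : Γ(W, ⊤), W.basicOpen a = C := by
  let U : Bool → W.Opens := fun b => cond b C C'
  let s : ∀ b, Γ(W, U b) := fun b => match b with | true => 1 | false => 0
  have compat : TopCat.Presheaf.IsCompatible W.presheaf U s := by
    intro b b'
    rcases b with _ | _ <;> rcases b' with _ | _
    · rfl
    · haveI : Subsingleton Γ(W, U false ⊓ U true) := by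
        rw [show U false ⊓ U true = ⊥ from le_bot_iff.1 fun x hx => (hd x hx.2 hx.1).elim]; infer_instance
      exact Subsingleton.elim _ _
    · haveI : Subsingleton Γ(W, U true ⊓ U false) := by
        rw [show U true ⊓ U false = ⊥ from le_bot_iff.1 fun x hx => (hd x hx.1 hx.2).elim]; infer_instance
      exact Subsingleton.elim _ _
    · rfl
  obtain ⟨a, ha, -⟩ := W.sheaf.existsUnique_gluing' U ⊤ (fun b => homOfLE le_top)
    (fun x _ => Opens.mem_iSup.2 ((hcov x).elim (fun h => ⟨true, h⟩) fun h => ⟨false, h⟩)) s compat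
  refine ⟨a, ?_⟩
  ext x
  rw [SetLike.mem_coe, Scheme.mem_basicOpen _ _ _ (show x ∈ (⊤ : W.Opens) from trivial)]
  constructor
  · intro hx
    by_contra hxC
    have hx' : x ∈ C' := (hcov x).resolve_left hxC
    rw [← W.presheaf.germ_res_apply (homOfLE le_top) x (show x ∈ U false from hx') a] at hx
    erw [ha false] at hx
    rw [show s false = 0 from rfl, map_zero] at hx
    exact not_isUnit_zero hx
  · intro hxC
    rw [← W.presheaf.germ_res_apply (homOfLE le_top) x (show x ∈ U true from hxC) a]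
    erw [ha true]
    rw [show s true = 1 from rfl, map_one]
    exact isUnit_one

/-- Relatively ample modules on a disjoint union. -/
theorem exists_isRelAmple_clopen {Z Y₁ Y₂ : Scheme.{u}} (f₁ : Y₁ ⟶ Z) (f₂ : Y₂ ⟶ Z) [IsOpenImmersion f₁]
    [IsOpenImmersion f₂] (hcov : ∀ z, z ∈ Set.range f₁ ∨ z ∈ Set.range f₂) (hd : ∀ a b, f₁ a ≠ f₂ b)
    (g : Z ⟶ S) [QuasiCompact g] {L₁ : Y₁.Modules} {L₂ : Y₂.Modules}
    (h₁ : RelAmple.IsRelAmple (f₁ ≫ g) L₁) (h₂ : RelAmple.IsRelAmple (f₂ ≫ g) L₂) :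
    ∃ L : Z.Modules, RelAmple.IsRelAmple g L := by
  have i₁ := TMul.isInvertible_of_isRelAmple h₁
  have i₂ := TMul.isInvertible_of_isRelAmple h₂
  obtain ⟨M, -, ⟨c₁⟩, ⟨c₂⟩⟩ := exists_glue_modules f₁ f₂ hcov hd L₁ L₂
    (Groth.Agent.ResDesc.isFinLocFree_of_isInvertible i₁) (Groth.Agent.ResDesc.isFinLocFree_of_isInvertible i₂)
  have hM : PicF.IsInvertible M := isInvertible_of_cover M fun z => (hcov z).elim
    (fun h => ⟨Y₁, f₁, inferInstance, h, isInvertible_of_iso' c₁.symm i₁⟩)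
    fun h => ⟨Y₂, f₂, inferInstance, h, isInvertible_of_iso' c₂.symm i₂⟩
  refine ⟨M, inferInstance, fun V => ?_⟩
  let W : Z.Opens := g ⁻¹ᵁ V.1
  haveI : CompactSpace W.toScheme := isCompact_iff_compactSpace.1 (g.isCompact_preimage V.2.isCompact)
  let C₁ : W.toScheme.Opens := W.ι ⁻¹ᵁ f₁.opensRange
  let C₂ : W.toScheme.Opens := W.ι ⁻¹ᵁ f₂.opensRange
  have key : ∀ {Y : Scheme.{u}} (f : Y ⟶ Z) [IsOpenImmersion f] {L : Y.Modules},
      RelAmple.IsRelAmple (f ≫ g) L → ((Scheme.Modules.pullback f).obj M ≅ L) →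
      CohB1.IsAmple ((M.restrict W.ι).restrict (W.ι ⁻¹ᵁ f.opensRange).ι) := by
    intro Y f _ L hL c
    let A : Y.Opens := (f ≫ g) ⁻¹ᵁ V.1
    obtain ⟨e⟩ := TMul.nonempty_restrictRestrictIso f A.ι (A.ι ≫ f) rfl M
    obtain ⟨e'⟩ := TMul.nonempty_restrictRestrictIso W.ι (W.ι ⁻¹ᵁ f.opensRange).ι
      ((W.ι ⁻¹ᵁ f.opensRange).ι ≫ W.ι) rfl M
    have hA : CohB1.IsAmple (M.restrict (A.ι ≫ f)) := TMul.isAmple_congr
      (((Scheme.Modules.restrictFunctor A.ι).mapIso (c.symm ≪≫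
        ((Scheme.Modules.restrictFunctorIsoPullback f).app M).symm)) ≪≫ e) (hL.2 V)
    have hr : (A.ι ≫ f).opensRange = f ''ᵁ A := by
      rw [Scheme.Hom.opensRange_comp, Scheme.Opens.opensRange_ι]
    have hr' : ((W.ι ⁻¹ᵁ f.opensRange).ι ≫ W.ι).opensRange = f ''ᵁ A := by
      rw [Scheme.Hom.opensRange_comp, Scheme.Opens.opensRange_ι, Scheme.Hom.image_preimage_eq_opensRange_inf,
        Scheme.Opens.opensRange_ι]
      ext z
      constructor
      · rintro ⟨hz, y, rfl⟩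
        exact ⟨y, hz, rfl⟩
      · rintro ⟨y, hy, rfl⟩
        exact ⟨hy, y, rfl⟩
    exact TMul.isAmple_congr e'.symm ((TMul.isAmple_range_iff _ hr').1 ((TMul.isAmple_range_iff _ hr).2 hA))
  obtain ⟨a₁, ha₁⟩ := exists_basicOpen_eq_clopen C₁ C₂ (fun x => hcov x.1)
    (fun x ⟨a, ha⟩ ⟨b, hb⟩ => hd a b (ha.trans hb.symm))
  obtain ⟨a₂, ha₂⟩ := exists_basicOpen_eq_clopen C₂ C₁ (fun x => (hcov x.1).symm)
    (fun x ⟨b, hb⟩ ⟨a, ha⟩ => hd a b (ha.trans hb.symm))
  refine TMul.isAmple_of_cover (TMul.isInvertible_restrict _ hM) (fun b : Bool => cond b a₁ a₂) (fun x => ?_) ?_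
  · rcases hcov x.1 with h | h
    · exact ⟨true, ha₁.ge h⟩
    · exact ⟨false, ha₂.ge h⟩
  · intro b
    cases b
    · show CohB1.IsAmple ((M.restrict W.ι).restrict (W.toScheme.basicOpen a₂).ι)
      rw [ha₂]
      exact key f₂ h₂ c₂
    · show CohB1.IsAmple ((M.restrict W.ι).restrict (W.toScheme.basicOpen a₁).ι)
      rw [ha₁]
      exact key f₁ h₁ c₁

/-- One module of constant rank extended. -/
theorem exists_extend_rank_proj [IsNoetherian S] {Y : Scheme.{u}} (j : X ⟶ Y) [IsOpenImmersion j] [QuasiCompact j]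
    [IsSchemeTheoreticallyDominant j] (p : Y ⟶ S) [IsProper p] (hp : ∃ L : Y.Modules, RelAmple.IsRelAmple p L) (E : X.Modules) {r : ℕ}
    (hE : FlatMod.IsFinLocFreeOfRank r E) :
    ∃ (Y' : Scheme.{u}) (π : Y' ⟶ Y) (j' : X ⟶ Y'), IsOpenImmersion j' ∧ QuasiCompact j' ∧
      IsSchemeTheoreticallyDominant j' ∧ IsProper π ∧ j' ≫ π = j ∧
      (∃ L : Y'.Modules, RelAmple.IsRelAmple (π ≫ p) L) ∧
      ∃ G : Y'.Modules, FlatMod.IsFinLocFree G ∧ Nonempty ((Scheme.Modules.pullback j').obj G ≅ E) := by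
  haveI : CompactSpace Y := QuasiCompact.compactSpace_of_compactSpace p
  haveI := LocallyOfFiniteType.isLocallyNoetherian p
  haveI : IsNoetherian Y := {}
  let U : Y.Opens := j.opensRange
  let c := j.isoOpensRange
  haveI : IsSchemeTheoreticallyDominant U.ι := by
    rw [show U.ι = c.inv ≫ j from j.isoOpensRange_inv_comp.symm]; infer_instance
  haveI : QuasiCompact U.ι := by
    rw [show U.ι = c.inv ≫ j from j.isoOpensRange_inv_comp.symm]; infer_instance
  let EU := (Scheme.Modules.pullback c.inv).obj E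
  have hEU : FlatMod.IsFinLocFreeOfRank r EU := isFinLocFreeOfRank_pullback c.inv hE
  haveI : Coh.IsQCoh EU := LocFree.isQCoh_of_isFinLocFree (isFinLocFree_of_rank' hEU)
  obtain ⟨F, hFq, hFt, ⟨eF⟩⟩ := S2252.result (fun x => ⟨⊤, trivial, inferInstance⟩) U EU
    (LocFree.isFT_of_isFinLocFree (isFinLocFree_of_rank' hEU))
  haveI : F.IsQuasicoherent := hFq
  have hFP : CohB1.IsFP F := QC.isFP_of_isQCoh_of_isFT hFt
  have hfree : FlatMod.IsFinLocFreeOfRank r (F.restrict U.ι) := isFinLocFreeOfRank_of_iso eF.symm hEU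
  obtain ⟨hadm, hblow⟩ := S8913.result Y F hFP U (SectExtU.isSchematicallyDense_of_ι (U := U)) r hfree
  obtain ⟨Y₁, b, v, _, hb, _, hv⟩ := exists_blowUp_step j p (Fitt.sheafIdeal F r) hadm.2
  obtain ⟨G, π, hπ⟩ := exists_strictTransform b (Fitt.sheafIdeal F r) F hFq hb.1
  obtain ⟨hGfree, -, hK⟩ := hblow Y₁ b hb G π hπ
  haveI : Epi π := hπ.1
  let R := Scheme.Modules.restrictFunctor (b ⁻¹ᵁ U).ι
  haveI : IsIso (R.map π) := by
    haveI : Mono (R.map π) := by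
      rw [QC.mono_iff_app_injective]
      intro W
      refine (injective_iff_map_eq_zero _).2 fun s hs => ?_
      obtain ⟨t, ht⟩ := (QC.mem_range_kernel_app π ((b ⁻¹ᵁ U).ι ''ᵁ W) s).2 hs
      have h0 := congrArg (fun φ => φ.app W t) ((IsZero.iff_id_eq_zero _).1 hK)
      rw [← ht]
      exact (congrArg _ h0).trans (map_zero _)
    exact isIso_of_mono_of_epi _
  have hr : Set.range v ⊆ Set.range (b ⁻¹ᵁ U).ι := by
    rintro _ ⟨x, rfl⟩
    rw [Scheme.Opens.range_ι]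
    exact ⟨x, by rw [← Scheme.Hom.comp_apply, hv]⟩
  let l := IsOpenImmersion.lift (b ⁻¹ᵁ U).ι v hr
  have hl : l ≫ (b ⁻¹ᵁ U).ι = v := IsOpenImmersion.lift_fac _ _ _
  haveI : IsIso ((Scheme.Modules.pullback v).map π) := by
    have nat : R ⋙ Scheme.Modules.pullback l ≅ Scheme.Modules.pullback v :=
      Functor.isoWhiskerRight (Scheme.Modules.restrictFunctorIsoPullback _) _ ≪≫
        Scheme.Modules.pullbackComp _ _ ≪≫ Scheme.Modules.pullbackCongr hl
    refine (NatIso.isIso_map_iff nat π).1 ?_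
    exact inferInstanceAs (IsIso ((Scheme.Modules.pullback l).map (R.map π)))
  have eG : (Scheme.Modules.pullback v).obj G ≅ E :=
    (asIso ((Scheme.Modules.pullback v).map π)).symm ≪≫ (Scheme.Modules.pullbackComp v b).app F ≪≫
      (Scheme.Modules.pullbackCongr (hv.trans j.isoOpensRange_hom_ι.symm)).app F ≪≫
      (Scheme.Modules.pullbackComp c.hom U.ι).symm.app F ≪≫
      (Scheme.Modules.pullback c.hom).mapIso (((Scheme.Modules.restrictFunctorIsoPullback U.ι).app F).symm ≪≫ eF) ≪≫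
      (Scheme.Modules.pullbackComp c.hom c.inv).app E ≪≫ (Scheme.Modules.pullbackCongr c.hom_inv_id).app E ≪≫
      (Scheme.Modules.pullbackId _).app E
  haveI : QuasiCompact (v ≫ b) := hv ▸ inferInstance
  haveI : QuasiCompact v := QuasiCompact.of_comp v b
  obtain ⟨h₁, h₂, h₃, -, h₄, -⟩ := exists_dense_image (v ≫ b) v b rfl
  haveI : IsProper b := BlowUpExist.isProper_of_isFiniteType hb (RZUnion.isFiniteType_of_isLocallyNoetherian _)
  obtain ⟨L, hL⟩ := hp
  obtain ⟨n, -, hn⟩ := TMul.exists_isRelAmple_comp b p (L := ClSub.idealMod ((Fitt.sheafIdeal F r).comap b))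
    ⟨inferInstance, fun V => BlowAmp.isAmple_restrict_exceptional hb (RZUnion.isFiniteType_of_isLocallyNoetherian _) V⟩ hL
  refine ⟨v.image, v.imageι ≫ b, v.toImage, h₁, h₂, h₃, inferInstance, by rw [Scheme.Hom.toImage_imageι_assoc, hv],
    ⟨_, (Category.assoc v.imageι b p).symm ▸ TMul.isRelAmple_pullback_of_isInducing v.imageι
      v.imageι.isClosedEmbedding.isInducing (hn n le_rfl)⟩,
    _, DerPerf.isFinLocFree_pullback v.imageι (isFinLocFree_of_rank' hGfree), ⟨?_⟩⟩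
  exact (Scheme.Modules.pullbackComp v.toImage v.imageι).app G ≪≫
    (Scheme.Modules.pullbackCongr v.toImage_imageι).app G ≪≫ eG

/-- Having a compactification to which the modules extend. -/
def GoodP (g : X ⟶ S) {ι : Type v} (E : ι → X.Modules) : Prop :=
  ∃ (Y : Scheme.{u}) (j : X ⟶ Y) (p : Y ⟶ S), IsOpenImmersion j ∧ QuasiCompact j ∧
    IsSchemeTheoreticallyDominant j ∧ IsProper p ∧ j ≫ p = g ∧ (∃ L : Y.Modules, RelAmple.IsRelAmple p L) ∧
    ∀ i, ∃ E' : Y.Modules, FlatMod.IsFinLocFree E' ∧ Nonempty ((Scheme.Modules.pullback j).obj E' ≅ E i)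

theorem goodP_of_constant [IsNoetherian S] (g : X ⟶ S) [IsSeparated g] [QuasiCompact g] [LocallyOfFiniteType g]
    (hg : RelProj.IsQuasiProjective g)
    {ι : Type v} [Finite ι] (E : ι → X.Modules) (r : ι → ℕ) (hE : ∀ i, FlatMod.IsFinLocFreeOfRank (r i) (E i)) :
    GoodP g E := by
  classical
  haveI := Fintype.ofFinite ι
  suffices h : ∀ s : Finset ι, ∃ (Y : Scheme.{u}) (j : X ⟶ Y) (p : Y ⟶ S), IsOpenImmersion j ∧ QuasiCompact j ∧
      IsSchemeTheoreticallyDominant j ∧ IsProper p ∧ j ≫ p = g ∧ (∃ L : Y.Modules, RelAmple.IsRelAmple p L) ∧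
      ∀ i ∈ s, ∃ E' : Y.Modules, FlatMod.IsFinLocFree E' ∧ Nonempty ((Scheme.Modules.pullback j).obj E' ≅ E i) by
    obtain ⟨Y, j, p, h₁, h₂, h₃, h₄, h₅, hA, h₆⟩ := h Finset.univ
    exact ⟨Y, j, p, h₁, h₂, h₃, h₄, h₅, hA, fun i => h₆ i (Finset.mem_univ i)⟩
  intro s
  induction s using Finset.induction with
  | empty =>
    obtain ⟨Y, p, j, hp, _, _, _, h⟩ := exists_open_projective hg
    obtain ⟨hpp, L, hL⟩ := Groth.Agent.SymAlg.isProper_and_ftData_of_isProjective hp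
    haveI := hpp
    have hA := Groth.Agent.SymAlg.isRelAmple_of_isRelVeryAmple p hL.1 hL.isRelVeryAmple
    obtain ⟨h₁, h₂, h₃, -, h₄, h₅⟩ := exists_dense_image g j p h
    exact ⟨_, _, _, h₁, h₂, h₃, h₄, h₅,
      ⟨_, TMul.isRelAmple_pullback_of_isInducing j.imageι j.imageι.isClosedEmbedding.isInducing hA⟩, by simp⟩
  | insert a s ha ih =>
    obtain ⟨Y, j, p, _, _, _, _, hjp, hA, hs⟩ := ih
    obtain ⟨Y', π, j', h₁, h₂, h₃, _, hj', hA', G, hG, eG⟩ := exists_extend_rank_proj j p hA (E a) (hE a)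
    refine ⟨Y', j', π ≫ p, h₁, h₂, h₃, inferInstance, by rw [reassoc_of% hj', hjp], hA', fun i hi => ?_⟩
    rcases Finset.mem_insert.1 hi with rfl | hi
    · exact ⟨G, hG, eG⟩
    · obtain ⟨E', hE', ⟨e⟩⟩ := hs i hi
      exact ⟨(Scheme.Modules.pullback π).obj E', DerPerf.isFinLocFree_pullback π hE',
        ⟨(Scheme.Modules.pullbackComp j' π).app E' ≪≫ (Scheme.Modules.pullbackCongr hj').app E' ≪≫ e⟩⟩

theorem goodP_disjoint [IsNoetherian S] [IsNoetherian X] (g : X ⟶ S) {ι : Type v} (E : ι → X.Modules)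
    (V₁ V₂ : X.Opens) (hV : ∀ x, x ∈ V₁ ∨ x ∈ V₂) (hd : Disjoint (V₁ : Set X) V₂)
    (h₁ : GoodP (V₁.ι ≫ g) fun i => (Scheme.Modules.pullback V₁.ι).obj (E i))
    (h₂ : GoodP (V₂.ι ≫ g) fun i => (Scheme.Modules.pullback V₂.ι).obj (E i)) : GoodP g E := by
  obtain ⟨Y₁, j₁, p₁, _, _, _, _, hj₁, ⟨L₁, hL₁⟩, hE₁⟩ := h₁
  obtain ⟨Y₂, j₂, p₂, _, _, _, _, hj₂, ⟨L₂, hL₂⟩, hE₂⟩ := h₂
  obtain ⟨F, hF₁, hF₂⟩ := RZUnion.exists_glue_two V₁ V₂ hV (j₁ ≫ coprod.inl) (j₂ ≫ coprod.inr) fun {Z} z₁ z₂ hz => by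
    haveI : IsEmpty Z := ⟨fun z => Set.disjoint_left.1 hd (z₁ z).2 (by
      have h := congrArg (fun k : Z ⟶ X => k z) hz
      simp only [Scheme.Hom.comp_apply] at h
      show V₁.ι (z₁ z) ∈ V₂
      rw [h]
      exact (z₂ z).2)⟩
    exact isInitialOfIsEmpty.hom_ext _ _
  haveI : IsOpenImmersion (V₁.ι ≫ F) := by rw [hF₁]; infer_instance
  haveI : IsOpenImmersion (V₂.ι ≫ F) := by rw [hF₂]; infer_instance
  haveI : IsOpenImmersion F := RZUnion.isOpenImmersion_two V₁ V₂ hV F fun x y hx hy h => by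
    exfalso
    refine inl_ne_inr Y₁ Y₂ (j₁ ⟨x, hx⟩) (j₂ ⟨y, hy⟩) ?_
    rw [← Scheme.Hom.comp_apply, ← hF₁, ← Scheme.Hom.comp_apply, ← hF₂]
    exact h
  let P := coprod.desc p₁ p₂
  haveI : IsProper P := by
    haveI : IsProper (coprod.map p₁ p₂) := IsZariskiLocalAtTarget.coprodMap _ _ ‹_› ‹_›
    rw [show P = coprod.map p₁ p₂ ≫ coprod.desc (𝟙 S) (𝟙 S) by
      rw [coprod.map_desc, Category.comp_id, Category.comp_id]]
    infer_instance
  haveI : QuasiSeparatedSpace (Y₁ ⨿ Y₂ : Scheme.{u}) := quasiSeparatedSpace_of_quasiSeparated P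
  haveI : QuasiCompact F := quasiCompact_of_compactSpace F
  have hFP : F ≫ P = g := RZUnion.hom_ext_two V₁ V₂ hV _ _
    (by rw [reassoc_of% hF₁, coprod.inl_desc, hj₁]) (by rw [reassoc_of% hF₂, coprod.inr_desc, hj₂])
  obtain ⟨q₁, q₂, q₃, -, q₄, q₅⟩ := exists_dense_image g F P hFP
  obtain ⟨L, hL⟩ := exists_isRelAmple_clopen (coprod.inl : Y₁ ⟶ Y₁ ⨿ Y₂) coprod.inr
    (fun z => (isCompl_range_inl_inr Y₁ Y₂).sup_eq_top.ge (Set.mem_univ z)) (fun a b => inl_ne_inr Y₁ Y₂ a b) P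
    (L₁ := L₁) (L₂ := L₂) (by rw [coprod.inl_desc]; exact hL₁) (by rw [coprod.inr_desc]; exact hL₂)
  refine ⟨_, F.toImage, F.imageι ≫ P, q₁, q₂, q₃, q₄, q₅,
    ⟨_, TMul.isRelAmple_pullback_of_isInducing F.imageι F.imageι.isClosedEmbedding.isInducing hL⟩, fun i => ?_⟩
  obtain ⟨M₁, hM₁, ⟨a₁⟩⟩ := hE₁ i
  obtain ⟨M₂, hM₂, ⟨a₂⟩⟩ := hE₂ i
  obtain ⟨M, hM, ⟨c₁⟩, ⟨c₂⟩⟩ := exists_glue_modules (coprod.inl : Y₁ ⟶ Y₁ ⨿ Y₂) coprod.inr
    (fun z => (isCompl_range_inl_inr Y₁ Y₂).sup_eq_top.ge (Set.mem_univ z)) (fun a b => inl_ne_inr Y₁ Y₂ a b) M₁ M₂ hM₁ hM₂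
  refine ⟨(Scheme.Modules.pullback F.imageι).obj M, DerPerf.isFinLocFree_pullback F.imageι hM, ?_⟩
  obtain ⟨e⟩ := nonempty_iso_of_pieces V₁.ι V₂.ι (fun x => by rw [Scheme.Opens.range_ι, Scheme.Opens.range_ι]; exact hV x)
    (fun a b h => Set.disjoint_left.1 hd a.2 (show V₁.ι a ∈ V₂ from h ▸ b.2)) ((Scheme.Modules.pullback F).obj M) (E i)
    ((Scheme.Modules.pullbackComp V₁.ι F).app M ≪≫ (Scheme.Modules.pullbackCongr hF₁).app M ≪≫
      (Scheme.Modules.pullbackComp j₁ coprod.inl).symm.app M ≪≫ (Scheme.Modules.pullback j₁).mapIso c₁ ≪≫ a₁)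
    ((Scheme.Modules.pullbackComp V₂.ι F).app M ≪≫ (Scheme.Modules.pullbackCongr hF₂).app M ≪≫
      (Scheme.Modules.pullbackComp j₂ coprod.inr).symm.app M ≪≫ (Scheme.Modules.pullback j₂).mapIso c₂ ≪≫ a₂)
  exact ⟨(Scheme.Modules.pullbackComp F.toImage F.imageι).app M ≪≫
    (Scheme.Modules.pullbackCongr F.toImage_imageι).app M ≪≫ e⟩

theorem goodP_empty [IsNoetherian S] (g : X ⟶ S) [IsEmpty X] [IsSeparated g] [QuasiCompact g] [LocallyOfFiniteType g]
    (hg : RelProj.IsQuasiProjective g) {ι : Type v} [Finite ι] (E : ι → X.Modules) : GoodP g E :=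
  goodP_of_constant g hg E (fun _ => 0) fun _ x => isEmptyElim x

/-- Compactifications extending finitely many locally free modules. -/
theorem exists_goodP [IsNoetherian S] (g : X ⟶ S) [IsSeparated g] [QuasiCompact g] [LocallyOfFiniteType g]
    (hg : RelProj.IsQuasiProjective g)
    {ι : Type v} [Finite ι] (E : ι → X.Modules) (hE : ∀ i, FlatMod.IsFinLocFree (E i)) : GoodP g E := by
  classical
  haveI := Fintype.ofFinite ι
  haveI : CompactSpace X := QuasiCompact.compactSpace_of_compactSpace g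
  haveI := LocallyOfFiniteType.isLocallyNoetherian g
  haveI : IsNoetherian X := {}
  let P : (ι → ℕ) → X.Opens := fun c => ⟨⋂ i, (rankLocus (E i) (c i) : Set X), isOpen_iInter_of_finite fun i => (rankLocus (E i) (c i)).2⟩
  have hPle : ∀ c i, P c ≤ rankLocus (E i) (c i) := fun c i x hx => Set.mem_iInter.1 hx i
  have hPd : ∀ c c', c ≠ c' → Disjoint (P c : Set X) (P c') := fun c c' h => by
    obtain ⟨i, hi⟩ := Function.ne_iff.1 h
    have hq := LocFree.isQCoh_of_isFinLocFree (hE i)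
    have ht := LocFree.isFT_of_isFinLocFree (hE i)
    rcases lt_or_gt_of_ne hi with hlt | hlt
    · exact (disjoint_rankLocus hq ht hlt).mono (hPle c i) (hPle c' i)
    · exact (disjoint_rankLocus hq ht hlt).symm.mono (hPle c i) (hPle c' i)
  have hPc : ∀ x, ∃ c, x ∈ P c := fun x => by
    choose W n hW e using fun i => hE i x
    exact ⟨n, Set.mem_iInter.2 fun i => Opens.mem_iSup.2 ⟨⟨W i, e i⟩, hW i⟩⟩
  obtain ⟨t, ht⟩ := isCompact_univ.elim_finite_subcover (fun c => (P c : Set X)) (fun c => (P c).2)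
    (fun x _ => Set.mem_iUnion.2 (hPc x))
  have inst : ∀ W : X.Opens, QuasiCompact W.ι ∧ IsNoetherian W.toScheme := fun W => by
    haveI : CompactSpace W.toScheme := isCompact_iff_compactSpace.1 (NoetherianSpace.isCompact _)
    exact ⟨quasiCompact_of_compactSpace _, {}⟩
  have tr : ∀ (W V : X.Opens) (hVW : V ≤ W), GoodP (V.ι ≫ g) (fun i => (Scheme.Modules.pullback V.ι).obj (E i)) →
      GoodP ((W.ι ⁻¹ᵁ V).ι ≫ W.ι ≫ g) fun i => (Scheme.Modules.pullback (W.ι ⁻¹ᵁ V).ι).obj ((Scheme.Modules.pullback W.ι).obj (E i)) := by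
    intro W V hVW h
    obtain ⟨Y, j, p, _, _, _, _, hj, hA, hEj⟩ := h
    haveI : IsIso (W.ι ∣_ V) := by
      refine (isIso_iff_isOpenImmersion_and_surjective _).2 ⟨inferInstance, ⟨fun v => ⟨⟨⟨v.1, hVW v.2⟩, v.2⟩, ?_⟩⟩⟩
      rw [morphismRestrict_base]
      rfl
    refine ⟨Y, (W.ι ∣_ V) ≫ j, p, inferInstance, inferInstance, inferInstance, inferInstance, ?_, hA, fun i => ?_⟩
    · rw [Category.assoc, hj, morphismRestrict_ι_assoc]
    · obtain ⟨E', hE', ⟨e⟩⟩ := hEj i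
      exact ⟨E', hE', ⟨(Scheme.Modules.pullbackComp (W.ι ∣_ V) j).symm.app E' ≪≫ (Scheme.Modules.pullback _).mapIso e ≪≫
        (Scheme.Modules.pullbackComp (W.ι ∣_ V) V.ι).app (E i) ≪≫
        (Scheme.Modules.pullbackCongr (morphismRestrict_ι W.ι V)).app (E i) ≪≫
        (Scheme.Modules.pullbackComp _ _).symm.app (E i)⟩⟩
  have key : ∀ s : Finset (ι → ℕ), GoodP ((s.sup P).ι ≫ g) fun i => (Scheme.Modules.pullback (s.sup P).ι).obj (E i) := by
    intro s
    induction s using Finset.induction with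
    | empty =>
      haveI : IsEmpty ((∅ : Finset (ι → ℕ)).sup P).toScheme := ⟨fun x => (Finset.sup_empty (f := P)).le x.2⟩
      haveI := (inst ((∅ : Finset (ι → ℕ)).sup P)).1
      exact goodP_empty _ (isQuasiProjective_opens g hg _) _
    | insert a s ha ih =>
      let W := (insert a s).sup P
      obtain ⟨-, hWn⟩ := inst W
      have hW : W = P a ⊔ s.sup P := Finset.sup_insert
      refine goodP_disjoint (W.ι ≫ g) _ (W.ι ⁻¹ᵁ P a) (W.ι ⁻¹ᵁ s.sup P) (fun x => Opens.mem_sup.1 (hW.le x.2)) ?_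
        (tr W (P a) (le_sup_left.trans hW.ge) ?_) (tr W (s.sup P) (le_sup_right.trans hW.ge) ih)
      · refine Set.disjoint_left.2 fun x hx hx' => ?_
        obtain ⟨c, hc, hxc⟩ : ∃ c ∈ s, x.1 ∈ P c := by
          have hx'' : x.1 ∈ s.sup P := hx'
          rw [Finset.sup_eq_iSup] at hx''
          obtain ⟨c, hc⟩ := Opens.mem_iSup.1 hx''
          obtain ⟨hcs, hxc⟩ := Opens.mem_iSup.1 hc
          exact ⟨c, hcs, hxc⟩
        exact Set.disjoint_left.1 (hPd a c fun e => ha (e ▸ hc)) hx hxc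
      · haveI := (inst (P a)).1
        exact goodP_of_constant ((P a).ι ≫ g) (isQuasiProjective_opens g hg _) _ a fun i => isFinLocFreeOfRank_of_le (hPle a i)
  have htop : t.sup P = ⊤ := top_le_iff.1 fun x _ => by
    obtain ⟨c, hc, hxc⟩ := Set.mem_iUnion₂.1 (ht (Set.mem_univ x))
    exact Finset.le_sup (f := P) hc hxc
  obtain ⟨Y, j, p, _, _, _, _, hj, hA, hEj⟩ := key t
  haveI : IsIso (t.sup P).ι := by rw [htop, ← Scheme.topIso_hom]; infer_instance
  refine ⟨Y, inv (t.sup P).ι ≫ j, p, inferInstance, inferInstance, inferInstance, inferInstance,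
    by rw [Category.assoc, hj, IsIso.inv_hom_id_assoc], hA, fun i => ?_⟩
  obtain ⟨E', hE', ⟨e⟩⟩ := hEj i
  exact ⟨E', hE', ⟨(Scheme.Modules.pullbackComp (inv (t.sup P).ι) j).symm.app E' ≪≫ (Scheme.Modules.pullback _).mapIso e ≪≫
    (Scheme.Modules.pullbackComp (inv (t.sup P).ι) (t.sup P).ι).app (E i) ≪≫
    (Scheme.Modules.pullbackCongr (IsIso.inv_hom_id (t.sup P).ι)).app (E i) ≪≫ (Scheme.Modules.pullbackId _).app (E i)⟩⟩

end Groth.Agent.Nagata
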