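import Groth.Agent.Nagata.Complete
import Groth.Agent.Cohen.Structure
import Groth.Agent.RegLoc.Normal
import Groth.Agent.S0581
import Groth.Agent.AdicLim.Noetherian
import Mathlib.RingTheory.IntegralClosure.IsIntegral.AlmostIntegral
import Mathlib.RingTheory.PowerSeries.Inverse

/-!
# Power series over N-2 domains, complete local rings are Nagata
-/

set_option autoImplicit false
set_option linter.style.haveILetI false
universe u

open PowerSeries

namespace Groth.Agent.Nagata

theorem mem_range_map_iff {A K : Type u} [CommRing A] [CommRing K] (f : A →+* K) (w : PowerSeries K) :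
    w ∈ (PowerSeries.map f).range ↔ ∀ k, coeff k w ∈ f.range := by
  constructor
  · rintro ⟨v, rfl⟩ k
    exact ⟨coeff k v, (coeff_map f k v).symm⟩
  · intro h
    choose v hv using h
    exact ⟨PowerSeries.mk v, PowerSeries.ext fun k => by rw [coeff_map, coeff_mk, hv]⟩

theorem mem_range_of_X_pow_mul {A K : Type u} [CommRing A] [CommRing K] (f : A →+* K) {m : ℕ} {w : PowerSeries K}
    (h : X ^ m * w ∈ (PowerSeries.map f).range) : w ∈ (PowerSeries.map f).range := by
  rw [mem_range_map_iff] at h ⊢
  intro k
  have := h (k + m)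
  rwa [coeff_X_pow_mul] at this

theorem constantCoeff_map' {A K : Type u} [CommRing A] [CommRing K] (f : A →+* K) (w : PowerSeries A) :
    constantCoeff (PowerSeries.map f w) = f (constantCoeff w) := by
  rw [← coeff_zero_eq_constantCoeff_apply, coeff_map, coeff_zero_eq_constantCoeff_apply]

/-- An almost integral series over a normal Noetherian domain has coefficients in it. -/
theorem coeff_mem_of_almost {A : Type u} [CommRing A] [IsDomain A] [IsNoetherianRing A] [IsIntegrallyClosed A]
    (K : Type u) [Field K] [Algebra A K] [IsFractionRing A K] {h : PowerSeries A} (h0 : constantCoeff h ≠ 0) :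
    ∀ (n : ℕ) (z : PowerSeries K), (∀ i, PowerSeries.map (algebraMap A K) h * z ^ i ∈ (PowerSeries.map (algebraMap A K)).range) →
      coeff n z ∈ (algebraMap A K).range := by
  let φ := PowerSeries.map (algebraMap A K)
  have hconst : ∀ z : PowerSeries K, (∀ i, φ h * z ^ i ∈ φ.range) → constantCoeff z ∈ (algebraMap A K).range := by
    intro z hz
    have h1 : IsAlmostIntegral A (constantCoeff z) := by
      refine ⟨constantCoeff h, mem_nonZeroDivisors_of_ne_zero h0, fun i => ?_⟩
      obtain ⟨w, hw⟩ := hz i
      refine ⟨constantCoeff w, ?_⟩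
      have := congrArg constantCoeff hw
      rw [map_mul, map_pow, constantCoeff_map', constantCoeff_map'] at this
      rw [Algebra.smul_def]
      exact this
    exact IsIntegrallyClosed.isIntegral_iff.mp h1.isIntegral
  intro n
  induction n with
  | zero => intro z hz; rw [coeff_zero_eq_constantCoeff_apply]; exact hconst z hz
  | succ n ih =>
    intro z hz
    obtain ⟨c, hc⟩ := hconst z hz
    obtain ⟨z', hz'⟩ : X ∣ z - C (constantCoeff z) := X_dvd_iff.mpr (by simp)
    have hc' : C (constantCoeff z) ∈ φ.range := ⟨C c, by rw [← hc]; exact PowerSeries.map_C (algebraMap A K) c⟩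
    have hsub : ∀ i j, φ h * z ^ j * (z - C (constantCoeff z)) ^ i ∈ φ.range := by
      intro i
      induction i with
      | zero => intro j; rw [pow_zero, mul_one]; exact hz j
      | succ i ih' =>
        intro j
        rw [show φ h * z ^ j * (z - C (constantCoeff z)) ^ (i + 1) = φ h * z ^ (j + 1) * (z - C (constantCoeff z)) ^ i -
          C (constantCoeff z) * (φ h * z ^ j * (z - C (constantCoeff z)) ^ i) by ring]
        exact sub_mem (ih' (j + 1)) (mul_mem hc' (ih' j))
    have h2 := ih z' fun i => mem_range_of_X_pow_mul (algebraMap A K) (m := i) (by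
      have := hsub i 0
      rw [pow_zero, mul_one, hz', mul_pow] at this
      rwa [mul_left_comm])
    have h3 : coeff (n + 1) z = coeff n z' := by
      rw [← sub_add_cancel z (C (constantCoeff z)), hz', map_add, coeff_succ_X_mul, coeff_C, if_neg (by omega), add_zero]
    rwa [h3]

/-- Power series rings over normal Noetherian domains are normal. -/
theorem isIntegrallyClosed_powerSeries (A : Type u) [CommRing A] [IsDomain A] [IsNoetherianRing A]
    [IsIntegrallyClosed A] : IsIntegrallyClosed (PowerSeries A) := by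
  let K := FractionRing A
  let φ := PowerSeries.map (algebraMap A K)
  have hφ : Function.Injective φ := PowerSeries.map_injective _ (IsFractionRing.injective A K)
  let P := FractionRing (PowerSeries A)
  let Q := FractionRing (PowerSeries K)
  let θ : P →+* Q := IsFractionRing.lift (g := (algebraMap (PowerSeries K) Q).comp φ)
    ((IsFractionRing.injective (PowerSeries K) Q).comp hφ)
  have hθ : ∀ w, θ (algebraMap (PowerSeries A) P w) = algebraMap (PowerSeries K) Q (φ w) := fun w =>
    IsFractionRing.lift_algebraMap _ w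
  rw [isIntegrallyClosed_iff P]
  intro x hx
  obtain ⟨r, hr, hrpow⟩ : IsAlmostIntegral (PowerSeries A) x := hx.isAlmostIntegral
  obtain ⟨z, hz⟩ : ∃ z, algebraMap (PowerSeries K) Q z = θ x := by
    letI : Algebra (PowerSeries A) (PowerSeries K) := φ.toAlgebra
    have hc : ∀ w, θ (algebraMap (PowerSeries A) P w) = algebraMap (PowerSeries A) Q w := fun w =>
      (hθ w).trans (IsScalarTower.algebraMap_apply (PowerSeries A) (PowerSeries K) Q w).symm
    let θ' : P →ₐ[PowerSeries A] Q := { θ with commutes' := hc }
    exact IsIntegrallyClosed.isIntegral_iff.mp ((hx.map θ').tower_top (A := PowerSeries K))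
  have hr0 : r ≠ 0 := nonZeroDivisors.ne_zero hr
  have h0 : constantCoeff (divXPowOrder r) ≠ 0 := by
    simpa [constantCoeff_divXPowOrder_eq_zero_iff] using hr0
  have hzr : ∀ n, coeff n z ∈ (algebraMap A K).range := fun n => coeff_mem_of_almost K h0 n z fun i => by
    refine mem_range_of_X_pow_mul (algebraMap A K) (m := r.order.toNat) ?_
    obtain ⟨w, hw⟩ := hrpow i
    refine ⟨w, IsFractionRing.injective (PowerSeries K) Q ?_⟩
    have h1 := congrArg θ hw
    rw [hθ, Algebra.smul_def, map_mul, hθ, map_pow, ← hz, ← map_pow, ← map_mul] at h1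
    refine h1.trans (congrArg (algebraMap (PowerSeries K) Q) ?_)
    rw [← mul_assoc, ← PowerSeries.map_X (algebraMap A K), ← map_pow, ← map_mul, X_pow_order_mul_divXPowOrder]
  obtain ⟨y, hy⟩ := (mem_range_map_iff (algebraMap A K) z).mpr hzr
  exact ⟨y, θ.injective (by rw [hθ, ← hz]; exact congrArg _ hy)⟩

theorem isN2_powerSeries {A : Type u} [CommRing A] [IsDomain A] [IsNoetherianRing A] [IsIntegrallyClosed A]
    (hA : CAlg.IsN2 A) : CAlg.IsN2 (PowerSeries A) := by
  haveI := isIntegrallyClosed_powerSeries A
  haveI : (Ideal.span ({X} : Set (PowerSeries A))).IsPrime := PowerSeries.span_X_isPrime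
  have hk : RingHom.ker (constantCoeff (R := A)) = Ideal.span ({X} : Set (PowerSeries A)) := by
    ext f
    rw [RingHom.mem_ker, Ideal.mem_span_singleton, X_dvd_iff]
  refine isN2_of_complete_span (PowerSeries A) X (isN2_of_ringEquiv ?_ hA)
  exact ((Ideal.quotEquivOfEq hk.symm).trans (RingHom.quotientKerEquivOfSurjective
    (f := constantCoeff (R := A)) fun a => ⟨C a, constantCoeff_C a⟩)).symm

theorem isIntegrallyClosed_and_isN2_mvPowerSeries (A : Type u) [CommRing A] [IsDomain A] [IsNoetherianRing A]
    [IsIntegrallyClosed A] (hA : CAlg.IsN2 A) : ∀ (n : ℕ) [IsDomain (MvPowerSeries (Fin n) A)],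
      IsIntegrallyClosed (MvPowerSeries (Fin n) A) ∧ CAlg.IsN2 (MvPowerSeries (Fin n) A) := by
  intro n
  induction n with
  | zero =>
    intro _
    let e := (MvPowerSeries.isEmptyEquiv (Fin 0) A).toRingEquiv.symm
    exact ⟨IsIntegrallyClosed.of_equiv e, isN2_of_ringEquiv e hA⟩
  | succ n ih =>
    intro _
    haveI : IsDomain (MvPowerSeries (Fin n) A) := NoZeroDivisors.to_isDomain _
    obtain ⟨h1, h2⟩ := ih
    haveI := h1
    let e := (MvPowerSeries.finSuccEquiv A n).toRingEquiv.symm
    haveI := isIntegrallyClosed_powerSeries (MvPowerSeries (Fin n) A)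
    exact ⟨IsIntegrallyClosed.of_equiv e, isN2_of_ringEquiv e (isN2_powerSeries h2)⟩

theorem isN2_coeff {Λ : Type u} [CommRing Λ] [IsDomain Λ] (hΛ : IsField Λ ∨ CAlg.IsCohenRing Λ) :
    IsNoetherianRing Λ ∧ IsIntegrallyClosed Λ ∧ CAlg.IsN2 Λ := by
  rcases hΛ with hf | ⟨_, _, _, p, hp, hmax⟩
  · letI := hf.toField
    exact ⟨inferInstance, inferInstance, isN2_field Λ⟩
  · haveI : CharZero Λ := by
      obtain ⟨l, hl⟩ := CharP.exists Λ
      rcases CharP.char_is_prime_or_zero Λ l with hl' | rfl
      · exfalso
        have hp0 : (p : Λ) ≠ 0 := fun h => (IsDiscreteValuationRing.not_isField Λ)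
          (IsLocalRing.isField_iff_maximalIdeal_eq.mpr (by rw [hmax, h, Ideal.span_singleton_eq_bot]))
        have hne : l ≠ p := fun h => hp0 (h ▸ CharP.cast_eq_zero Λ l)
        have hcop : Nat.Coprime l p := (Nat.coprime_primes hl' hp).mpr hne
        obtain ⟨a, b, hab⟩ := hcop.cast (R := Λ)
        rw [CharP.cast_eq_zero Λ l, mul_zero, zero_add] at hab
        exact (IsLocalRing.maximalIdeal.isMaximal Λ).ne_top (by
          rw [hmax, Ideal.span_singleton_eq_top]
          exact IsUnit.of_mul_eq_one b (by rwa [mul_comm] at hab))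
      · exact CharP.charP_to_charZero Λ
    exact ⟨inferInstance, inferInstance, isN2_of_charZero⟩

/-- **Nagata**: complete Noetherian local rings are Nagata. -/
theorem isNagata_of_complete (R : Type u) [CommRing R] [IsLocalRing R] [IsNoetherianRing R]
    [IsAdicComplete (IsLocalRing.maximalIdeal R) R] : CAlg.IsNagata R := by
  refine ⟨inferInstance, fun p _ => ?_⟩
  haveI : Nontrivial (R ⧸ p) := Ideal.Quotient.nontrivial_iff.mpr (Ideal.IsPrime.ne_top inferInstance)
  haveI : IsAdicComplete (IsLocalRing.maximalIdeal (R ⧸ p)) (R ⧸ p) := by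
    haveI := AdicLim.isAdicComplete_of_finite (IsLocalRing.maximalIdeal R) (R ⧸ p)
    have hmap : IsLocalRing.maximalIdeal (R ⧸ p) = (IsLocalRing.maximalIdeal R).map (algebraMap R (R ⧸ p)) := by
      rw [Ideal.Quotient.algebraMap_eq, IsLocalRing.map_maximalIdeal_of_surjective _ Ideal.Quotient.mk_surjective]
    rw [hmap]
    exact (IsAdicComplete.map_algebraMap_iff (I := IsLocalRing.maximalIdeal R) (M := R ⧸ p) (S := R ⧸ p)).mpr inferInstance
  obtain ⟨Λ, _, n, f, hΛ, hinj, hfin, -⟩ := S0581.result (R ⧸ p)
  haveI : IsDomain Λ := by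
    rcases hΛ with hf | ⟨hd, -, -⟩
    · exact hf.isDomain
    · exact hd
  obtain ⟨h1, h2, h3⟩ := isN2_coeff hΛ
  haveI : IsDomain (MvPowerSeries (Fin n) Λ) := NoZeroDivisors.to_isDomain _
  letI := f.toAlgebra
  haveI : Module.Finite (MvPowerSeries (Fin n) Λ) (R ⧸ p) := hfin
  haveI : FaithfulSMul (MvPowerSeries (Fin n) Λ) (R ⧸ p) := (faithfulSMul_iff_algebraMap_injective _ _).mpr hinj
  exact isN2_of_finite (isIntegrallyClosed_and_isN2_mvPowerSeries Λ h3 n).2

end Groth.Agent.Nagata
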