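import Groth.Agent.Nagata.Local
import Groth.Agent.Cohen.FormallyCatenary
import Groth.Agent.CMSop.Depth
import Groth.Agent.CMSop.Sop

/-!
# Nagata local domains are analytically unramified
-/

set_option autoImplicit false
set_option linter.style.haveILetI false
universe u

open IsLocalRing
open scoped TensorProduct

namespace Groth.Agent.Nagata

local notation "Ĉ" R => AdicCompletion (maximalIdeal R) R

/-- In a normal Noetherian domain an associated prime of a principal ideal is locally principal. -/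
theorem exists_uniformizer {T : Type u} [CommRing T] [IsDomain T] [IsNoetherianRing T] [IsIntegrallyClosed T]
    (x : T) (hx : x ≠ 0) {p : Ideal T} (hp : p ∈ associatedPrimes T (T ⧸ Ideal.span {x})) :
    ∃ π ∈ p, ∃ s ∉ p, ∀ a ∈ p, π ∣ s * a := by
  have hxp : x ∈ p := CMSop.le_of_mem_associatedPrimes_quotient hp (Ideal.mem_span_singleton_self x)
  obtain ⟨hp', w, hw⟩ := isAssociatedPrime_iff.mp (AssociatedPrimes.mem_iff.mp hp)
  obtain ⟨w, rfl⟩ := Ideal.Quotient.mk_surjective w
  let K := FractionRing T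
  let z : K := algebraMap T K w / algebraMap T K x
  have hx' : algebraMap T K x ≠ 0 := fun h => hx (IsFractionRing.injective T K (h.trans (map_zero _).symm))
  have hmem : ∀ a : T, a ∈ p ↔ a * w ∈ Ideal.span {x} := fun a => by
    rw [hw, Submodule.mem_colon_singleton, Submodule.mem_bot, Algebra.smul_def, Ideal.Quotient.algebraMap_eq,
      ← map_mul, Ideal.Quotient.eq_zero_iff_mem]
  have hann : ∀ a : T, a * w ∈ Ideal.span {x} → a ∈ p := fun a => (hmem a).mpr
  have hint : ∀ a ∈ p, ∃ b : T, algebraMap T K b = algebraMap T K a * z := by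
    intro a ha
    obtain ⟨b, hb⟩ := Ideal.mem_span_singleton'.mp ((hmem a).mp ha)
    refine ⟨b, ?_⟩
    rw [← mul_div_assoc, eq_div_iff hx', ← map_mul, ← map_mul, hb]
  by_cases hall : ∀ a ∈ p, ∀ b : T, algebraMap T K b = algebraMap T K a * z → b ∈ p
  · exfalso
    have hz : IsIntegral T z := by
      let N : Submodule T K := Submodule.map (Algebra.linearMap T K) p
      refine isIntegral_of_smul_mem_submodule N (fun h => ?_) ((IsNoetherian.noetherian p).map _) z fun n hn => ?_
      · have : algebraMap T K x ∈ N := ⟨x, hxp, rfl⟩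
        rw [h] at this
        exact hx' this
      · obtain ⟨a, ha, rfl⟩ := hn
        obtain ⟨b, hb⟩ := hint a ha
        exact ⟨b, hall a ha b hb, by rw [Algebra.linearMap_apply, hb, smul_eq_mul, mul_comm, Algebra.linearMap_apply]⟩
    obtain ⟨c, hc⟩ := IsIntegrallyClosed.isIntegral_iff.mp hz
    refine hp'.ne_top ((Ideal.eq_top_iff_one _).mpr (hann 1 (Ideal.mem_span_singleton'.mpr ⟨c, IsFractionRing.injective T K ?_⟩)))
    rw [map_mul, hc, div_mul_cancel₀ _ hx', one_mul]
  · push Not at hall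
    obtain ⟨π, hπ, s, hs, hsp⟩ := hall
    refine ⟨π, hπ, s, hsp, fun a ha => ?_⟩
    obtain ⟨b, hb⟩ := hint a ha
    exact ⟨b, IsFractionRing.injective T K (by rw [map_mul, map_mul, hs, hb]; ring)⟩

variable {R : Type u} [CommRing R] [IsLocalRing R] [IsNoetherianRing R]

theorem mem_map_of_tensor_quotient {T : Type u} [CommRing T] [Algebra R T] (p : Ideal T) (z : T ⊗[R] (Ĉ R))
    (hz : Algebra.TensorProduct.map (Ideal.Quotient.mkₐ R p) (AlgHom.id R (Ĉ R)) z = 0) :
    z ∈ p.map (algebraMap T (T ⊗[R] (Ĉ R))) := by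
  let f : (p.restrictScalars R) →ₗ[R] T := (p.restrictScalars R).subtype
  have hex : Function.Exact (f.rTensor (Ĉ R)) ((Ideal.Quotient.mkₐ R p).toLinearMap.rTensor (Ĉ R)) :=
    rTensor_exact (Ĉ R) (fun t => ⟨fun h => ⟨⟨t, Ideal.Quotient.eq_zero_iff_mem.mp h⟩, rfl⟩,
      fun ⟨a, ha⟩ => ha ▸ Ideal.Quotient.eq_zero_iff_mem.mpr a.2⟩) Ideal.Quotient.mk_surjective
  obtain ⟨w, rfl⟩ := (hex z).mp hz
  induction w using TensorProduct.induction_on with
  | zero => rw [map_zero]; exact zero_mem _
  | tmul a c =>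
    rw [LinearMap.rTensor_tmul, show f a ⊗ₜ[R] c = algebraMap T (T ⊗[R] (Ĉ R)) (a : T) * (1 ⊗ₜ[R] c) by
      rw [Algebra.TensorProduct.algebraMap_apply, Algebra.TensorProduct.tmul_mul_tmul, mul_one, one_mul]; rfl]
    exact Ideal.mul_mem_right _ _ (Ideal.mem_map_of_mem _ a.2)
  | add a b ha hb =>
    rw [map_add]
    refine add_mem (ha ?_) (hb ?_) <;> exact (hex _).mpr ⟨_, rfl⟩

theorem isNoetherianRing_and_mem_jacobson {T : Type u} [CommRing T] [Algebra R T] [Module.Finite R T] :
    IsNoetherianRing (T ⊗[R] (Ĉ R)) ∧ ∀ x ∈ maximalIdeal R,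
      algebraMap T (T ⊗[R] (Ĉ R)) (algebraMap R T x) ∈ Ring.jacobson (T ⊗[R] (Ĉ R)) := by
  let S' := (Ĉ R) ⊗[R] T
  haveI : Module.Finite (Ĉ R) S' := inferInstance
  haveI : IsNoetherianRing S' := IsNoetherianRing.of_finite (Ĉ R) S'
  let e : S' ≃+* T ⊗[R] (Ĉ R) := (Algebra.TensorProduct.comm R (Ĉ R) T).toRingEquiv
  refine ⟨isNoetherianRing_of_ringEquiv S' e, fun x hx => ?_⟩
  rw [← Ideal.jacobson_bot, Ideal.jacobson, Submodule.mem_sInf]
  rintro (M : Ideal _) ⟨-, hM⟩
  haveI := hM
  haveI : (M.comap e.toRingHom).IsMaximal := Ideal.comap_isMaximal_of_surjective _ e.surjective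
  haveI : Algebra.IsIntegral (Ĉ R) S' := Algebra.IsIntegral.of_finite _ _
  have h1 : (M.comap e.toRingHom).comap (algebraMap (Ĉ R) S') = maximalIdeal (Ĉ R) :=
    IsLocalRing.eq_maximalIdeal (Ideal.isMaximal_comap_of_isIntegral_of_isMaximal _)
  have h2 : algebraMap R (Ĉ R) x ∈ maximalIdeal (Ĉ R) := fun hu => hx (isUnit_of_map_unit _ x hu)
  rw [← h1, Ideal.mem_comap, Ideal.mem_comap] at h2
  have h3 : e (algebraMap (Ĉ R) S' (algebraMap R (Ĉ R) x)) = algebraMap T (T ⊗[R] (Ĉ R)) (algebraMap R T x) := by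
    rw [Algebra.TensorProduct.algebraMap_apply, Algebra.TensorProduct.algebraMap_apply]
    show (1 : T) ⊗ₜ[R] algebraMap R (Ĉ R) x = algebraMap R T x ⊗ₜ[R] (1 : Ĉ R)
    rw [Algebra.algebraMap_eq_smul_one, Algebra.algebraMap_eq_smul_one, TensorProduct.smul_tmul]
  exact h3 ▸ h2

/-- The criterion for a reduced completed tensor product. -/
theorem isReduced_tensor_of_ass {T : Type u} [CommRing T] [IsDomain T] [IsNoetherianRing T] [Algebra R T]
    [Module.Finite R T] (x : R) (hx : x ∈ maximalIdeal R) (hx0 : algebraMap R T x ≠ 0)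
    (h : ∀ p ∈ associatedPrimes T (T ⧸ Ideal.span {algebraMap R T x}),
      (∃ π ∈ p, ∃ s ∉ p, ∀ a ∈ p, π ∣ s * a) ∧ IsReduced ((T ⧸ p) ⊗[R] (Ĉ R))) :
    IsReduced (T ⊗[R] (Ĉ R)) := by
  classical
  let S := T ⊗[R] (Ĉ R)
  let ι := algebraMap T S
  let y := algebraMap R T x
  obtain ⟨hnoeth, hjac⟩ := isNoetherianRing_and_mem_jacobson (R := R) (T := T)
  haveI := hnoeth
  have hreg : ∀ t : T, t ≠ 0 → ∀ w : S, ι t * w = 0 → w = 0 := fun t ht w hw => by
    have hr : IsSMulRegular S (algebraMap T S t) :=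
      IsSMulRegular.of_flat (IsLeftRegular.isSMulRegular (mul_right_injective₀ ht))
    exact hr (show ι t • w = ι t • 0 by rw [smul_eq_mul, smul_eq_mul, hw, mul_zero])
  have hstep : ∀ z : S, IsNilpotent z → ∃ z₁ : S, IsNilpotent z₁ ∧ z = ι y * z₁ := by
    intro z hz
    let J : Ideal T :=
      { carrier := {t | ι t * z ∈ Ideal.span {ι y}}
        add_mem' := fun {a b} ha hb => by
          show ι (a + b) * z ∈ Ideal.span {ι y}
          rw [map_add, add_mul]
          exact add_mem ha hb
        zero_mem' := by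
          show ι 0 * z ∈ Ideal.span {ι y}
          rw [map_zero, zero_mul]
          exact zero_mem _
        smul_mem' := fun c a ha => by
          show ι (c * a) * z ∈ Ideal.span {ι y}
          rw [map_mul, mul_assoc]
          exact Ideal.mul_mem_left _ _ ha }
    have hnle : ∀ p ∈ associatedPrimes T (T ⧸ Ideal.span {y}), ¬ J ≤ p := by
      intro p hp hJp
      obtain ⟨⟨π, hπ, s, hs, hdiv⟩, hred⟩ := h p hp
      haveI : p.IsPrime := (AssociatedPrimes.mem_iff.mp hp).1
      have hyp : y ∈ p := CMSop.le_of_mem_associatedPrimes_quotient hp (Ideal.mem_span_singleton_self y)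
      have hs0 : s ≠ 0 := fun h0 => hs (h0 ▸ zero_mem p)
      have hπ0 : π ≠ 0 := fun h0 => by
        obtain ⟨b, hb⟩ := hdiv y hyp
        rw [h0, zero_mul, mul_eq_zero] at hb
        exact hb.elim hs0 hx0
      obtain ⟨n, u, hu, hsn⟩ : ∃ n u, u ∉ p ∧ s ^ n * y = π ^ n * u := by
        by_contra hcon
        push Not at hcon
        have hall : ∀ n, ∃ u ∈ p, s ^ n * y = π ^ n * u := by
          intro n
          induction n with
          | zero => exact ⟨y, hyp, by ring⟩
          | succ n ih =>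
            obtain ⟨u, hu, hu'⟩ := ih
            obtain ⟨u', hu''⟩ := hdiv u hu
            have he : s ^ (n + 1) * y = π ^ (n + 1) * u' := by
              rw [pow_succ', mul_assoc, hu', mul_left_comm, hu'', pow_succ]
              ring
            exact ⟨u', by_contra fun h' => hcon (n + 1) u' h' he, he⟩
        let Tp := Localization.AtPrime p
        have hy0 : algebraMap T Tp y = 0 := by
          have hmem : algebraMap T Tp y ∈ (⨅ n : ℕ, maximalIdeal Tp ^ n) := by
            rw [Submodule.mem_iInf]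
            intro n
            obtain ⟨u, -, hu'⟩ := hall n
            obtain ⟨w, hw⟩ := (IsLocalization.map_units Tp (⟨s ^ n, p.primeCompl.pow_mem hs n⟩ : p.primeCompl)).exists_left_inv
            have h1 : algebraMap T Tp y = w * (algebraMap T Tp π ^ n * algebraMap T Tp u) := by
              rw [← map_pow, ← map_mul, ← hu', map_mul, ← mul_assoc]
              rw [show w * algebraMap T Tp (s ^ n) = 1 from hw, one_mul]
            rw [h1]
            refine Ideal.mul_mem_left _ _ (Ideal.mul_mem_right _ _ (Ideal.pow_mem_pow ?_ n))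
            rw [← Localization.AtPrime.map_eq_maximalIdeal]
            exact Ideal.mem_map_of_mem _ hπ
          rwa [Ideal.iInf_pow_eq_bot_of_isLocalRing _ (maximalIdeal.isMaximal Tp).ne_top, Ideal.mem_bot] at hmem
        exact hx0 ((IsLocalization.injective Tp p.primeCompl_le_nonZeroDivisors) (hy0.trans (map_zero _).symm))
      have hzn : ∀ k, ∃ zk : S, IsNilpotent zk ∧ ι s ^ k * z = ι π ^ k * zk := by
        intro k
        induction k with
        | zero => exact ⟨z, hz, by ring⟩
        | succ k ih =>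
          obtain ⟨zk, hzk, he⟩ := ih
          have h1 : zk ∈ p.map ι := mem_map_of_tensor_quotient p zk
            ((hzk.map (Algebra.TensorProduct.map (Ideal.Quotient.mkₐ R p) (AlgHom.id R (Ĉ R)))).eq_zero)
          have h2 : Ideal.span {s} * p ≤ Ideal.span {π} := Ideal.span_singleton_mul_le_iff.mpr fun a ha =>
            Ideal.mem_span_singleton.mpr (hdiv a ha)
          have h3 := Ideal.map_mono (f := ι) h2
          rw [Ideal.map_mul, Ideal.map_span, Ideal.map_span, Set.image_singleton, Set.image_singleton] at h3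
          obtain ⟨w, hw⟩ := Ideal.mem_span_singleton'.mp (h3 (Ideal.mul_mem_mul (Ideal.mem_span_singleton_self _) h1))
          refine ⟨w, ?_, by rw [pow_succ', mul_assoc, he, mul_left_comm, ← hw, pow_succ]; ring⟩
          obtain ⟨m, hm⟩ := hzk
          refine ⟨m, hreg _ (pow_ne_zero m hπ0) _ ?_⟩
          rw [map_pow, ← mul_pow, mul_comm, hw, mul_pow, hm, mul_zero]
      obtain ⟨zn, -, hzn'⟩ := hzn n
      have hmem : u * s ^ n ∈ J := by
        show ι (u * s ^ n) * z ∈ Ideal.span {ι y}
        refine Ideal.mem_span_singleton'.mpr ⟨ι s ^ n * zn, ?_⟩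
        have h1 := congrArg ι hsn
        simp only [map_mul, map_pow] at h1 ⊢
        linear_combination zn * h1 - ι u * hzn'
      exact ((inferInstance : p.IsPrime).mem_or_mem (hJp hmem)).elim hu
        (fun h => hs ((inferInstance : p.IsPrime).mem_of_pow_mem n h))
    obtain ⟨t, htJ, ht⟩ : ∃ t ∈ J, ∀ p ∈ associatedPrimes T (T ⧸ Ideal.span {y}), t ∉ p := by
      by_contra hcon
      push Not at hcon
      have hfin := associatedPrimes.finite T (T ⧸ Ideal.span {y})
      have hsub : (J : Set T) ⊆ ⋃ i ∈ (↑hfin.toFinset : Set (Ideal T)), ((id i : Ideal T) : Set T) := fun t ht => by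
        obtain ⟨p, hp, htp⟩ := hcon t ht
        exact Set.mem_biUnion (hfin.mem_toFinset.mpr hp) htp
      obtain ⟨p, hp, hle⟩ := (Ideal.subset_union_prime (R := T) (f := id) ⊥ ⊥ fun p hp _ _ =>
        (AssociatedPrimes.mem_iff.mp (hfin.mem_toFinset.mp hp)).1).mp hsub
      exact hnle p (hfin.mem_toFinset.mp hp) hle
    have htreg : IsSMulRegular (T ⧸ Ideal.span {y}) t := CMSop.isSMulRegular_of_forall ht
    obtain ⟨v, hv⟩ := Ideal.mem_span_singleton'.mp (show ι t * z ∈ Ideal.span {ι y} from htJ)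
    obtain ⟨k, tj, yj, hzsum, hdvd⟩ := Cohen.mem_map_colon (S := S) ![t] y z fun i => ⟨v, by
      rw [Fin.fin_one_eq_zero i, Matrix.cons_val_zero]
      linear_combination -hv⟩
    have hzy : z ∈ Ideal.span {ι y} := by
      rw [hzsum]
      refine sum_mem fun j _ => Ideal.mul_mem_right _ _ (Ideal.mem_span_singleton.mpr (map_dvd ι ?_))
      have h1 : Ideal.Quotient.mk (Ideal.span {y}) (tj j) = 0 := htreg (by
        show t • Ideal.Quotient.mk (Ideal.span {y}) (tj j) = t • 0
        rw [smul_zero, Algebra.smul_def, Ideal.Quotient.algebraMap_eq, ← map_mul, Ideal.Quotient.eq_zero_iff_mem,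
          Ideal.mem_span_singleton]
        exact hdvd 0 j)
      exact Ideal.mem_span_singleton.mp (Ideal.Quotient.eq_zero_iff_mem.mp h1)
    obtain ⟨z₁, rfl⟩ := Ideal.mem_span_singleton'.mp hzy
    refine ⟨z₁, ?_, mul_comm _ _⟩
    obtain ⟨m, hm⟩ := hz
    exact ⟨m, hreg _ (pow_ne_zero m hx0) _ (by rw [map_pow, ← mul_pow, mul_comm]; exact hm)⟩
  refine ⟨fun z hz => ?_⟩
  have hall : ∀ n, ∃ zn : S, IsNilpotent zn ∧ z = ι y ^ n * zn := by
    intro n
    induction n with
    | zero => exact ⟨z, hz, by ring⟩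
    | succ n ih =>
      obtain ⟨zn, hzn, he⟩ := ih
      obtain ⟨z₁, h1, h2⟩ := hstep zn hzn
      exact ⟨z₁, h1, by rw [he, h2]; ring⟩
  have hmem : z ∈ (⨅ n : ℕ, Ideal.span {ι y} ^ n • ⊤ : Submodule S S) := by
    rw [Submodule.mem_iInf]
    intro n
    obtain ⟨zn, -, he⟩ := hall n
    rw [smul_eq_mul, Ideal.mul_top, he]
    exact Ideal.mul_mem_right _ _ (Ideal.pow_mem_pow (Ideal.mem_span_singleton_self _) n)
  rwa [Ideal.iInf_pow_smul_eq_bot_of_le_jacobson (M := S) (Ideal.span {ι y})
    (by rw [Ideal.jacobson_bot, Ideal.span_singleton_le_iff_mem]; exact hjac x hx), Submodule.mem_bot] at hmem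

theorem lt_natCast_of_add_one_le {d e : WithBot ℕ∞} {n : ℕ} (h : d + 1 ≤ e) (he : e < ((n + 1 : ℕ) : WithBot ℕ∞)) :
    d < (n : WithBot ℕ∞) := by
  have h2 := h.trans_lt he
  induction d using WithBot.recBotCoe with
  | bot => exact WithBot.bot_lt_coe _
  | coe d =>
    induction d using ENat.recTopCoe with
    | top =>
      rw [show ((⊤ : ℕ∞) : WithBot ℕ∞) + 1 = ⊤ from rfl] at h2
      exact absurd h2 (not_lt.mpr le_top)
    | coe d =>
      have : d + 1 < n + 1 := by exact_mod_cast h2
      exact_mod_cast (by omega : d < n)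

/-- Finite domains over Nagata local rings are analytically unramified. -/
theorem isReduced_tensor (hR : CAlg.IsNagata R) : ∀ (n : ℕ) (T : Type u) [CommRing T] [IsDomain T] [Algebra R T]
    [Module.Finite R T], ringKrullDim T < (n : WithBot ℕ∞) → IsReduced (T ⊗[R] (Ĉ R)) := by
  intro n
  induction n with
  | zero =>
    intro T _ _ _ _ h
    exact absurd h (not_lt.mpr (by exact_mod_cast ringKrullDim_nonneg_of_nontrivial))
  | succ n ih =>
    intro T _ _ _ _ hT
    haveI : IsNoetherianRing T := IsNoetherianRing.of_finite R T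
    by_cases hker : ∀ x ∈ maximalIdeal R, algebraMap R T x = 0
    · let ι := algebraMap T (T ⊗[R] (Ĉ R))
      have hsurj : Function.Surjective ι := fun z => by
        induction z using TensorProduct.induction_on with
        | zero => exact ⟨0, map_zero _⟩
        | tmul t c =>
          obtain ⟨a, ha⟩ := Cohen.exists_sub_mem_pow c 1
          rw [pow_one] at ha
          have h0 : ∀ w ∈ maximalIdeal (Ĉ R), t ⊗ₜ[R] w = 0 := by
            intro w hw
            rw [AdicCompletion.maximalIdeal_eq_map, ← Submodule.restrictScalars_mem R, ← Ideal.smul_top_eq_map] at hw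
            refine Submodule.smul_induction_on hw (fun r hr v _ => ?_) fun v w hv hw => by
              rw [TensorProduct.tmul_add, hv, hw, add_zero]
            rw [← TensorProduct.smul_tmul, Algebra.smul_def, hker r hr, zero_mul, TensorProduct.zero_tmul]
          refine ⟨a • t, ?_⟩
          rw [Algebra.TensorProduct.algebraMap_apply]
          show (a • t) ⊗ₜ[R] (1 : Ĉ R) = t ⊗ₜ[R] c
          rw [TensorProduct.smul_tmul, ← Algebra.algebraMap_eq_smul_one]
          have := h0 _ ha
          rw [TensorProduct.tmul_sub, sub_eq_zero] at this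
          exact this.symm
        | add z w hz hw =>
          obtain ⟨t, rfl⟩ := hz
          obtain ⟨t', rfl⟩ := hw
          exact ⟨t + t', map_add _ _ _⟩
      haveI : Module.FaithfullyFlat R (Ĉ R) := Module.FaithfullyFlat.of_flat_of_isLocalHom
      have hinj : Function.Injective ι := fun t t' h => by
        refine Module.FaithfullyFlat.tensorProduct_mk_injective (A := R) (B := Ĉ R) T ?_
        have h' := congrArg (Algebra.TensorProduct.comm R T (Ĉ R)) h
        simpa [ι, Algebra.TensorProduct.algebraMap_apply] using h'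
      exact isReduced_of_injective (RingEquiv.ofBijective ι ⟨hinj, hsurj⟩).symm.toRingHom
        (RingEquiv.injective _)
    push Not at hker
    obtain ⟨x, hx, hx0⟩ := hker
    haveI hp : (RingHom.ker (algebraMap R T)).IsPrime := RingHom.ker_isPrime _
    let Rb := R ⧸ RingHom.ker (algebraMap R T)
    letI : Algebra Rb T := (RingHom.kerLift (algebraMap R T)).toAlgebra
    haveI : IsScalarTower R Rb T := IsScalarTower.of_algebraMap_eq fun _ => rfl
    haveI : Module.Finite Rb T := Module.Finite.of_restrictScalars_finite R Rb T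
    haveI : FaithfulSMul Rb T := (faithfulSMul_iff_algebraMap_injective _ _).mpr (RingHom.kerLift_injective _)
    let T' := integralClosure T (FractionRing T)
    haveI : Module.Finite T T' := isN1_of_isN2 (isN2_of_finite (A := Rb) (hR.2 (RingHom.ker (algebraMap R T))))
    haveI : Module.Finite R T' := Module.Finite.trans T T'
    haveI : IsNoetherianRing T' := IsNoetherianRing.of_finite R T'
    haveI : IsIntegrallyClosed T' := integralClosure.isIntegrallyClosedOfFiniteExtension (FractionRing T)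
    have hinjT : Function.Injective (algebraMap T T') := fun a b h =>
      IsFractionRing.injective T (FractionRing T) (congrArg Subtype.val h)
    haveI : Algebra.IsIntegral T T' := Algebra.IsIntegral.of_finite T T'
    have hdim : ringKrullDim T' ≤ ringKrullDim T :=
      Order.krullDim_le_of_strictMono (PrimeSpectrum.comap (algebraMap T T'))
        fun a b hab => (Ideal.IsIntegral.comap_lt_comap (R := T) hab : _)
    have hx' : algebraMap R T' x ≠ 0 := fun h => hx0 (hinjT (by
      rw [← IsScalarTower.algebraMap_apply, h, map_zero]))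
    haveI : IsReduced (T' ⊗[R] (Ĉ R)) := isReduced_tensor_of_ass x hx hx' fun p hp => by
      haveI : p.IsPrime := (AssociatedPrimes.mem_iff.mp hp).1
      refine ⟨exists_uniformizer _ hx' hp, ih (T' ⧸ p) (lt_natCast_of_add_one_le ?_ (hdim.trans_lt hT))⟩
      exact ringKrullDim_succ_le_of_surjective (Ideal.Quotient.mk p) Ideal.Quotient.mk_surjective
        (mem_nonZeroDivisors_of_ne_zero hx') (Ideal.Quotient.eq_zero_iff_mem.mpr
          (CMSop.le_of_mem_associatedPrimes_quotient hp (Ideal.mem_span_singleton_self _)))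
    let j : T →ₐ[R] T' := IsScalarTower.toAlgHom R T T'
    exact isReduced_of_injective (Algebra.TensorProduct.map j (AlgHom.id R (Ĉ R))).toRingHom
      (Module.Flat.rTensor_preserves_injective_linearMap j.toLinearMap hinjT)

/-- Nagata local domains are analytically unramified. -/
theorem isReduced_completion [IsDomain R] (hR : CAlg.IsNagata R) : IsReduced (Ĉ R) := by
  obtain ⟨d, hd⟩ := SerreReg.exists_dim_nat R
  haveI := isReduced_tensor hR (d + 1) R (by rw [hd]; exact_mod_cast Nat.lt_succ_self d)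
  exact isReduced_of_injective (Algebra.TensorProduct.lid R (Ĉ R)).symm.toRingEquiv.toRingHom
    (RingEquiv.injective _)

/-- An analytically unramified local domain is N-1. -/
theorem finite_closure_of_reduced [IsDomain R] (hred : IsReduced (Ĉ R)) (hC : CAlg.IsNagata (Ĉ R))
    (K : Type u) [Field K] [Algebra R K] [IsFractionRing R K] : Module.Finite R (integralClosure R K) := by
  classical
  let S := Ĉ R
  let φ := algebraMap R S
  haveI : Finite {Q : Ideal S // Q ∈ minimalPrimes S} := (minimalPrimes.finite_of_isNoetherianRing S).to_subtype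
  haveI hprime : ∀ Q : {Q : Ideal S // Q ∈ minimalPrimes S}, Q.1.IsPrime := fun Q => Q.2.1.1
  let L := fun Q : {Q : Ideal S // Q ∈ minimalPrimes S} => FractionRing (S ⧸ Q.1)
  let g : ∀ Q, R →+* L Q := fun Q => ((algebraMap (S ⧸ Q.1) (L Q)).comp (Ideal.Quotient.mk Q.1)).comp φ
  have hg : ∀ Q, Function.Injective (g Q) := fun Q => by
    rw [injective_iff_map_eq_zero]
    intro r hr
    have h1 : Ideal.Quotient.mk Q.1 (φ r) = 0 := IsFractionRing.injective (S ⧸ Q.1) (L Q) (hr.trans (map_zero _).symm)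
    exact Ideal.mem_bot.mp ((Cohen.comap_minimalPrimes_eq_bot Q.2).le ((Ideal.Quotient.eq_zero_iff_mem.mp h1 : φ r ∈ Q.1) : r ∈ Q.1.comap (algebraMap R (Ĉ R))))
  let ψ : ∀ Q, K →+* L Q := fun Q => IsFractionRing.lift (g := g Q) (hg Q)
  have hψ : ∀ Q r, ψ Q (algebraMap R K r) = algebraMap (S ⧸ Q.1) (L Q) (Ideal.Quotient.mk Q.1 (φ r)) :=
    fun Q r => IsFractionRing.lift_algebraMap _ r
  have hfin : ∀ Q : {Q : Ideal S // Q ∈ minimalPrimes S}, Module.Finite S (integralClosure (S ⧸ Q.1) (L Q)) := fun Q => by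
    haveI : Module.Finite (S ⧸ Q.1) (integralClosure (S ⧸ Q.1) (L Q)) := isN1_of_isN2 (hC.2 Q.1)
    exact Module.Finite.trans (S ⧸ Q.1) _
  let Ψ : integralClosure R K → ∀ Q, integralClosure (S ⧸ Q.1) (L Q) := fun b Q => ⟨ψ Q b, by
    obtain ⟨P, hP, hPb⟩ := (b.2 : IsIntegral R (b : K))
    refine ⟨P.map ((Ideal.Quotient.mk Q.1).comp φ), hP.map _, ?_⟩
    rw [Polynomial.eval₂_map]
    have h1 := congrArg (ψ Q) hPb
    rw [Polynomial.hom_eval₂, map_zero] at h1
    exact (Polynomial.eval₂_congr (RingHom.ext fun r => (hψ Q r).symm) rfl rfl).trans h1⟩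
  haveI := fun Q => hfin Q
  haveI : Module.Finite S (∀ Q, integralClosure (S ⧸ Q.1) (L Q)) := Module.Finite.pi
  have hW : (Submodule.span S (Set.range Ψ)).FG := IsNoetherian.noetherian _
  obtain ⟨F, hF, hFspan⟩ := (Submodule.fg_span_iff_fg_span_finset_subset _).mp hW
  choose b₀ hb₀ using fun v : F => hF v.2
  refine ⟨⟨Finset.univ.image b₀, eq_top_iff.mpr fun b _ => ?_⟩⟩
  obtain ⟨c, hc⟩ := IsLocalization.exist_integer_multiples (nonZeroDivisors R) Finset.univ
    (fun o : Option F => o.elim (b : K) fun v => (b₀ v : K))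
  choose r hr using fun o : Option F => hc o (Finset.mem_univ o)
  have hmem : Ψ b ∈ Submodule.span S ((F : Set _)) := hFspan ▸ Submodule.subset_span ⟨b, rfl⟩
  obtain ⟨s, -, hs⟩ := Submodule.mem_span_finset.mp hmem
  have hS : φ (r none) = ∑ v : F, s v * φ (r (some v)) := by
    rw [← sub_eq_zero]
    refine (nilradical_eq_zero S ▸ (?_ : φ (r none) - ∑ v : F, s v * φ (r (some v)) ∈ nilradical S) : _ ∈ (0 : Ideal S))
    rw [nilradical_eq_sInf, Submodule.mem_sInf]
    intro (P : Ideal S) hP
    haveI : P.IsPrime := hP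
    obtain ⟨Q, hQ, hQP⟩ := Ideal.exists_minimalPrimes_le (I := (⊥ : Ideal S)) (J := P) bot_le
    refine hQP ?_
    haveI := hQ.1.1
    rw [← Ideal.Quotient.eq_zero_iff_mem]
    refine IsFractionRing.injective (S ⧸ Q) (L ⟨Q, hQ⟩) ?_
    rw [map_zero, map_sub, map_sum, map_sub, map_sum, sub_eq_zero]
    have h1 : ∀ o : Option F, algebraMap (S ⧸ Q) (L ⟨Q, hQ⟩) (Ideal.Quotient.mk Q (φ (r o))) =
        algebraMap (S ⧸ Q) (L ⟨Q, hQ⟩) (Ideal.Quotient.mk Q (φ c)) * ψ ⟨Q, hQ⟩ (o.elim (b : K) fun v => (b₀ v : K)) := fun o => by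
      rw [← hψ ⟨Q, hQ⟩, hr o, Algebra.smul_def, map_mul, hψ]
    rw [h1 none]
    simp only [map_mul, h1, Option.elim]
    have h2 := congrArg (fun f => ((f ⟨Q, hQ⟩ : integralClosure (S ⧸ Q) (L ⟨Q, hQ⟩)) : L ⟨Q, hQ⟩)) hs
    simp only [Finset.sum_apply, Pi.smul_apply, AddSubmonoidClass.coe_finset_sum] at h2
    rw [show ψ ⟨Q, hQ⟩ (b : K) = ((Ψ b ⟨Q, hQ⟩ : integralClosure (S ⧸ Q) (L ⟨Q, hQ⟩)) : L ⟨Q, hQ⟩) from rfl, ← h2,
      ← Finset.sum_coe_sort, Finset.mul_sum]
    refine Finset.sum_congr rfl fun v _ => ?_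
    rw [Algebra.smul_def]
    show _ * (algebraMap (S ⧸ Q) (L ⟨Q, hQ⟩) (Ideal.Quotient.mk Q (s v)) * ((v.1 ⟨Q, hQ⟩ : integralClosure (S ⧸ Q) (L ⟨Q, hQ⟩)) : L ⟨Q, hQ⟩)) = _
    rw [show ((v.1 ⟨Q, hQ⟩ : integralClosure (S ⧸ Q) (L ⟨Q, hQ⟩)) : L ⟨Q, hQ⟩) = ψ ⟨Q, hQ⟩ (b₀ v : K) from
      congrArg Subtype.val (congrFun (hb₀ v).symm _)]
    ring
  haveI : Module.FaithfullyFlat R S := Module.FaithfullyFlat.of_flat_of_isLocalHom
  have hI : r none ∈ Ideal.span (Set.range fun v : F => r (some v)) := by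
    rw [← Ideal.comap_map_eq_self_of_faithfullyFlat (B := S) (Ideal.span (Set.range fun v : F => r (some v))),
      Ideal.mem_comap, hS]
    exact sum_mem fun v _ => Ideal.mul_mem_left _ _ (Ideal.mem_map_of_mem _ (Ideal.subset_span ⟨v, rfl⟩))
  obtain ⟨a, ha⟩ := (Ideal.mem_span_range_iff_exists_fun).mp hI
  have hb : b = ∑ v : F, a v • b₀ v := Subtype.ext (by
    rw [AddSubmonoidClass.coe_finset_sum]
    have hc0 : algebraMap R K (c : R) ≠ 0 := fun h =>
      nonZeroDivisors.coe_ne_zero c (IsFractionRing.injective R K (h.trans (map_zero _).symm))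
    refine mul_left_cancel₀ hc0 ?_
    have h3 := congrArg (algebraMap R K) ha
    rw [map_sum, hr none, Algebra.smul_def] at h3
    rw [Finset.mul_sum]
    refine h3.symm.trans (Finset.sum_congr rfl fun v _ => ?_)
    rw [map_mul, hr (some v), Algebra.smul_def, SetLike.val_smul, Algebra.smul_def]
    simp only [Option.elim]
    ring)
  rw [hb]
  exact sum_mem fun v _ => Submodule.smul_mem _ _ (Submodule.subset_span (Finset.mem_image_of_mem b₀ (Finset.mem_univ v)))

end Groth.Agent.Nagata
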