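import Groth.Agent.Nagata.Reduced
import Groth.Agent.Nagata.Unramified
import Groth.Agent.Nagata.PowerSeries
import Groth.Prelude.Def_EGA4b
import Mathlib.RingTheory.Finiteness.Descent
import Mathlib.RingTheory.Nilpotent.GeometricallyReduced

/-!
# Geometrically reduced formal fibres and finiteness of integral closures
-/

set_option autoImplicit false
set_option linter.style.haveILetI false
universe u

open IsLocalRing
open scoped TensorProduct

namespace Groth.Agent.Nagata

local notation "Ĉ" R => AdicCompletion (maximalIdeal R) R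

/-- Descent of finiteness of integral closures along faithfully flat maps. -/
theorem finite_closure_descend {R' S' : Type u} [CommRing R'] [CommRing S'] [Algebra R' S'] [Module.FaithfullyFlat R' S']
    [IsNoetherianRing S'] (L : Type u) [CommRing L] [Algebra R' L]
    (hfin : Module.Finite S' (integralClosure S' (S' ⊗[R'] L))) : Module.Finite R' (integralClosure R' L) := by
  haveI := hfin
  haveI : IsNoetherian S' (integralClosure S' (S' ⊗[R'] L)) := isNoetherian_of_isNoetherianRing_of_finite S' _
  let C := integralClosure R' L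
  let θ : S' ⊗[R'] C →ₐ[S'] S' ⊗[R'] L := Algebra.TensorProduct.map (AlgHom.id S' S') C.val
  have hθ : Function.Injective θ := Module.Flat.lTensor_preserves_injective_linearMap C.val.toLinearMap Subtype.val_injective
  have hmem : ∀ z, θ z ∈ integralClosure S' (S' ⊗[R'] L) := fun z => by
    induction z with
    | zero => rw [map_zero]; exact zero_mem _
    | add a b ha hb => rw [map_add]; exact add_mem ha hb
    | tmul s c =>
      have h1 : IsIntegral S' ((1 : S') ⊗ₜ[R'] (c : L)) :=
        ((c.2 : IsIntegral R' (c : L)).map (Algebra.TensorProduct.includeRight : L →ₐ[R'] S' ⊗[R'] L)).tower_top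
      have h2 : θ (s ⊗ₜ c) = s • ((1 : S') ⊗ₜ[R'] (c : L)) := by
        simp [θ, TensorProduct.smul_tmul']
      rw [h2]
      exact Subalgebra.smul_mem _ h1 s
  let g : S' ⊗[R'] C →ₗ[S'] integralClosure S' (S' ⊗[R'] L) :=
    θ.toLinearMap.codRestrict (integralClosure S' (S' ⊗[R'] L)).toSubmodule hmem
  haveI : Module.Finite S' (S' ⊗[R'] C) := Module.Finite.of_injective g fun a b h => hθ (congrArg Subtype.val h)
  exact Module.Finite.of_finite_tensorProduct_of_faithfullyFlat S'

variable {A : Type u} [CommRing A] [IsLocalRing A] [IsNoetherianRing A]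

/-- Integral closures are finite when the base change to the completion is reduced. -/
theorem finite_closure_of_isReduced_tensor (L : Type u) [CommRing L] [Algebra A L] [Algebra.EssFiniteType A L]
    (hred : IsReduced ((Ĉ A) ⊗[A] L)) : Module.Finite A (integralClosure A L) := by
  haveI : Module.FaithfullyFlat A (Ĉ A) := Module.FaithfullyFlat.of_flat_of_isLocalHom
  exact finite_closure_descend (S' := Ĉ A) L (finite_closure_reduced (W := (Ĉ A) ⊗[A] L) (isNagata_of_complete (Ĉ A)))

theorem isReduced_of_isNormalRing {S : Type u} [CommRing S] (h : EGA4.IsNormalRing S) : IsReduced S := by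
  refine ⟨fun x hx => ?_⟩
  by_contra hx0
  obtain ⟨P, hP, hle⟩ := Ideal.exists_le_maximal (Ideal.torsionOf S S x) fun h1 => hx0 (by
    have h2 : (1 : S) ∈ Ideal.torsionOf S S x := h1 ▸ trivial
    simpa [Ideal.mem_torsionOf_iff] using h2)
  haveI := (h P).1
  have h0 : algebraMap S (Localization.AtPrime P) x = 0 := (hx.map _).eq_zero
  obtain ⟨⟨a, ha⟩, hax⟩ := (IsLocalization.map_eq_zero_iff P.primeCompl _ x).mp h0
  exact ha (hle ((Ideal.mem_torsionOf_iff _ _).mpr hax))

/-- Geometrically normal algebras are geometrically reduced. -/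
theorem isGeometricallyReduced_of_isGeomNormal {k S : Type u} [Field k] [CommRing S] [Algebra k S]
    (h : EGA4.IsGeomNormal k S) : Algebra.IsGeometricallyReduced k S := by
  classical
  rw [Algebra.isGeometricallyReduced_field_iff]
  refine ⟨fun z hz => ?_⟩
  obtain ⟨t, rfl⟩ := TensorProduct.exists_finset z
  let E : IntermediateField k (AlgebraicClosure k) :=
    IntermediateField.adjoin k ((t.image Prod.fst : Finset (AlgebraicClosure k)) : Set (AlgebraicClosure k))
  haveI : FiniteDimensional k E := IntermediateField.finiteDimensional_adjoin fun x _ => Algebra.IsIntegral.isIntegral x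
  haveI := isReduced_of_isNormalRing (h E inferInstance)
  let F : E ⊗[k] S →ₐ[k] AlgebraicClosure k ⊗[k] S := Algebra.TensorProduct.map E.val (AlgHom.id k S)
  have hF : Function.Injective F :=
    Module.Flat.rTensor_preserves_injective_linearMap E.val.toLinearMap Subtype.val_injective
  let y : E ⊗[k] S := ∑ q ∈ t.attach,
    (⟨q.1.1, IntermediateField.subset_adjoin k _ (by simpa using ⟨q.1.2, q.2⟩)⟩ : E) ⊗ₜ[k] q.1.2
  have hy : F y = ∑ q ∈ t, q.1 ⊗ₜ[k] q.2 := by
    simp only [y, map_sum]
    rw [← Finset.sum_attach t fun q : AlgebraicClosure k × S => q.1 ⊗ₜ[k] q.2]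
    rfl
  rw [← hy] at hz ⊢
  obtain ⟨n, hn⟩ := hz
  rw [IsNilpotent.eq_zero (x := y) ⟨n, hF ((F.toRingHom.map_pow y n).trans (hn.trans F.toRingHom.map_zero.symm))⟩]
  exact F.toRingHom.map_zero

theorem hasGeomReducedFormalFibres_of_normal (hA : EGA4.HasGeomNormalFormalFibres A) :
    EGA4.HasGeomReducedFormalFibres A := fun p _ => isGeometricallyReduced_of_isGeomNormal (hA p)

/-- Reducedness of the base change to the completion of algebraic extensions of residue fields. -/
theorem isReduced_completion_tensor (hA : EGA4.HasGeomReducedFormalFibres A) (p : Ideal A) [p.IsPrime]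
    (L : Type u) [Field L] [Algebra p.ResidueField L] [Algebra.IsAlgebraic p.ResidueField L] [Algebra A L]
    [IsScalarTower A p.ResidueField L] : IsReduced ((Ĉ A) ⊗[A] L) := by
  haveI : Algebra.IsGeometricallyReduced p.ResidueField (p.ResidueField ⊗[A] (Ĉ A)) := hA p
  haveI : IsReduced (L ⊗[p.ResidueField] (p.ResidueField ⊗[A] (Ĉ A))) := inferInstance
  haveI : IsReduced (L ⊗[A] (Ĉ A)) := isReduced_of_injective
    (Algebra.TensorProduct.cancelBaseChange A p.ResidueField L L (Ĉ A)).symm
    (Algebra.TensorProduct.cancelBaseChange A p.ResidueField L L (Ĉ A)).symm.injective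
  exact isReduced_of_injective (Algebra.TensorProduct.comm A (Ĉ A) L) (Algebra.TensorProduct.comm A (Ĉ A) L).injective

/-- A local ring with geometrically reduced formal fibres is Nagata. -/
theorem isNagata_of_geomReducedFormalFibres (hA : EGA4.HasGeomReducedFormalFibres A) : CAlg.IsNagata A := by
  refine ⟨inferInstance, fun p _ => ?_⟩
  intro L _ _ _ _ hfd
  let F := FractionRing (A ⧸ p)
  let κ := p.ResidueField
  let e : κ ≃ₐ[A ⧸ p] F := IsLocalization.algEquiv (nonZeroDivisors (A ⧸ p)) κ F
  haveI : FiniteDimensional F L := hfd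
  letI : Algebra κ L := ((algebraMap F L).comp e.toRingEquiv.toRingHom).toAlgebra
  haveI : Module.Finite κ L := Module.Finite.of_equiv_equiv e.toRingEquiv.symm (RingEquiv.refl L)
    (RingHom.ext fun z => by
      show algebraMap F L (e (e.symm z)) = algebraMap F L z
      rw [e.apply_symm_apply])
  letI : Algebra A L := ((algebraMap (A ⧸ p) L).comp (Ideal.Quotient.mk p)).toAlgebra
  haveI : IsScalarTower A (A ⧸ p) L := IsScalarTower.of_algebraMap_eq fun _ => rfl
  haveI : IsScalarTower A κ L := IsScalarTower.of_algebraMap_eq fun a => by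
    show algebraMap (A ⧸ p) L (Ideal.Quotient.mk p a) = algebraMap F L (e (algebraMap A κ a))
    rw [show algebraMap A κ a = algebraMap (A ⧸ p) κ (Ideal.Quotient.mk p a) from
      IsScalarTower.algebraMap_apply A (A ⧸ p) κ a, e.commutes, ← IsScalarTower.algebraMap_apply]
  haveI : Algebra.EssFiniteType A κ := inferInstance
  haveI : Algebra.EssFiniteType A L := Algebra.EssFiniteType.comp A κ L
  haveI := finite_closure_of_isReduced_tensor L (isReduced_completion_tensor hA p L)
  haveI : Algebra.IsIntegral A (A ⧸ p) := Algebra.IsIntegral.of_finite A (A ⧸ p)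
  let f : integralClosure A L →ₗ[A] integralClosure (A ⧸ p) L :=
    { toFun := fun z => ⟨z, (z.2 : IsIntegral A (z : L)).tower_top⟩
      map_add' := fun _ _ => rfl
      map_smul' := fun _ _ => rfl }
  haveI : Module.Finite A (integralClosure (A ⧸ p) L) :=
    Module.Finite.of_surjective f fun z => ⟨⟨z, isIntegral_trans (A := A ⧸ p) (z : L) z.2⟩, rfl⟩
  exact Module.Finite.of_restrictScalars_finite A (A ⧸ p) _

/-- A reduced local ring with geometrically reduced formal fibres has reduced completion, and finite normalization. -/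
theorem isReduced_completion_and_finite [IsReduced A] (hA : EGA4.HasGeomReducedFormalFibres A) :
    IsReduced (Ĉ A) ∧ Module.Finite A (integralClosure A (FractionRing A)) := by
  classical
  let Q := FractionRing A
  haveI : Finite (minimalPrimes A) := (minimalPrimes.finite_of_isNoetherianRing A).to_subtype
  haveI := fun p : minimalPrimes A => p.2.1.1
  let κ : minimalPrimes A → Type u := fun p => p.1.ResidueField
  have hinj : Function.Injective (Algebra.ofId A (∀ p, κ p)) := by
    rw [injective_iff_map_eq_zero]
    intro r hr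
    refine IsNilpotent.eq_zero ?_
    rw [← mem_nilradical, nilradical, ← Ideal.sInf_minimalPrimes, Submodule.mem_sInf]
    intro q hq
    haveI := hq.1.1
    exact Ideal.algebraMap_residueField_eq_zero.mp (congrFun hr ⟨q, hq⟩)
  have hu : ∀ y : nonZeroDivisors A, IsUnit (Algebra.ofId A (∀ p, κ p) (y : A)) := fun y =>
    Pi.isUnit_iff.mpr fun p => Ne.isUnit fun h0 =>
      Set.disjoint_left.mp (Ideal.disjoint_nonZeroDivisors_of_mem_minimalPrimes p.2)
        (Ideal.algebraMap_residueField_eq_zero.mp h0) y.2
  let Φ : Q →ₐ[A] (∀ p, κ p) := IsLocalization.liftAlgHom hu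
  have hΦ : Function.Injective Φ := by
    rw [injective_iff_map_eq_zero]
    intro z hz
    obtain ⟨⟨a, s⟩, has⟩ := IsLocalization.surj (nonZeroDivisors A) z
    have h1 : Algebra.ofId A (∀ p, κ p) a = 0 := by
      have := congrArg Φ has
      rw [map_mul, hz, zero_mul, AlgHom.commutes] at this
      exact this.symm
    rw [hinj (h1.trans (map_zero _).symm), map_zero] at has
    exact (IsLocalization.map_units Q s).mul_left_eq_zero.mp has
  haveI : Fintype (minimalPrimes A) := Fintype.ofFinite _
  haveI : ∀ p, IsReduced ((Ĉ A) ⊗[A] κ p) := fun p => isReduced_completion_tensor hA p.1 (κ p)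
  haveI : IsReduced ((Ĉ A) ⊗[A] (∀ p, κ p)) := isReduced_of_injective (Algebra.TensorProduct.piRight A A (Ĉ A) κ)
    (Algebra.TensorProduct.piRight A A (Ĉ A) κ).injective
  have hred : IsReduced ((Ĉ A) ⊗[A] Q) := isReduced_of_injective (Algebra.TensorProduct.map (AlgHom.id A (Ĉ A)) Φ)
    (Module.Flat.lTensor_preserves_injective_linearMap Φ.toLinearMap hΦ)
  refine ⟨?_, ?_⟩
  · haveI := hred
    exact isReduced_of_injective ((Algebra.TensorProduct.map (AlgHom.id A (Ĉ A)) (Algebra.ofId A Q)).comp
      (Algebra.TensorProduct.rid A A (Ĉ A)).symm.toAlgHom)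
      ((Module.Flat.lTensor_preserves_injective_linearMap (Algebra.ofId A Q).toLinearMap (IsFractionRing.injective A Q)).comp
        (Algebra.TensorProduct.rid A A (Ĉ A)).symm.injective)
  · haveI : Algebra.EssFiniteType A Q := Algebra.EssFiniteType.of_isLocalization Q (nonZeroDivisors A)
    exact finite_closure_of_isReduced_tensor Q hred

end Groth.Agent.Nagata
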