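import Groth.Agent.S0384
import Groth.Agent.BlowSep.Disjoint
import Groth.Agent.RZExt.Many
import Groth.Agent.Chow.Std

/-!
# Compactifications with dense image, mapping to given proper schemes
-/

set_option autoImplicit false
set_option linter.style.haveILetI false
set_option backward.isDefEq.respectTransparency false
set_option backward.isDefEq.respectTransparency.types false

universe u v

open CategoryTheory CategoryTheory.Limits AlgebraicGeometry TopologicalSpace Topology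

noncomputable section

namespace Groth.Agent.Nagata

variable {X S : Scheme.{u}}

/-- Scheme-theoretic image of a compactification. -/
theorem exists_dense_image {P : Scheme.{u}} (g : X ⟶ S) (k : X ⟶ P) [IsImmersion k] [QuasiCompact k] (t : P ⟶ S)
    [IsProper t] (h : k ≫ t = g) :
    IsOpenImmersion k.toImage ∧ QuasiCompact k.toImage ∧ IsSchemeTheoreticallyDominant k.toImage ∧
      DenseRange k.toImage.base ∧ IsProper (k.imageι ≫ t) ∧ k.toImage ≫ k.imageι ≫ t = g := by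
  haveI : QuasiCompact (k.toImage ≫ k.imageι) := by rw [Scheme.Hom.toImage_imageι]; infer_instance
  exact ⟨inferInstance, QuasiCompact.of_comp k.toImage k.imageι, Chow.isSchemeTheoreticallyDominant_toImage k, Scheme.Hom.denseRange _, inferInstance,
    by rw [Scheme.Hom.toImage_imageι_assoc, h]⟩

/-- A compactification mapping to two given proper schemes. -/
theorem exists_over_two [CompactSpace S] [QuasiSeparatedSpace S] (f : X ⟶ S) [IsSeparated f] [QuasiCompact f]
    [LocallyOfFiniteType f] {Y₁ Y₂ : Scheme.{u}} (p₁ : Y₁ ⟶ S) (p₂ : Y₂ ⟶ S) [IsProper p₁] [IsProper p₂]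
    (a₁ : X ⟶ Y₁) (a₂ : X ⟶ Y₂) (h₁ : a₁ ≫ p₁ = f) (h₂ : a₂ ≫ p₂ = f) :
    ∃ (Y : Scheme.{u}) (j : X ⟶ Y) (q : Y ⟶ S) (b₁ : Y ⟶ Y₁) (b₂ : Y ⟶ Y₂), IsOpenImmersion j ∧ QuasiCompact j ∧
      IsSchemeTheoreticallyDominant j ∧ DenseRange j.base ∧ IsProper q ∧ j ≫ q = f ∧
      b₁ ≫ p₁ = q ∧ b₂ ≫ p₂ = q ∧ j ≫ b₁ = a₁ ∧ j ≫ b₂ = a₂ := by
  obtain ⟨P, j₀, q₀, _, _, _, h₀⟩ := S0384.result f
  let t₁ : pullback p₁ p₂ ⟶ S := pullback.fst p₁ p₂ ≫ p₁
  let t : pullback q₀ t₁ ⟶ S := pullback.fst q₀ t₁ ≫ q₀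
  let k : X ⟶ pullback q₀ t₁ := pullback.lift j₀ (pullback.lift a₁ a₂ (h₁.trans h₂.symm)) (by simp [t₁, h₀, h₁])
  have hk : k ≫ pullback.fst q₀ t₁ = j₀ := pullback.lift_fst _ _ _
  haveI : IsImmersion (k ≫ pullback.fst q₀ t₁) := hk ▸ inferInstance
  haveI : IsImmersion k := IsImmersion.of_comp k (pullback.fst q₀ t₁)
  haveI : QuasiCompact (k ≫ pullback.fst q₀ t₁) := hk ▸ inferInstance
  haveI : QuasiCompact k := QuasiCompact.of_comp k (pullback.fst q₀ t₁)
  have hkt : k ≫ t = f := by simp [k, t, h₀]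
  obtain ⟨i₁, i₂, i₃, i₄, i₅, i₆⟩ := exists_dense_image f k t hkt
  refine ⟨_, k.toImage, k.imageι ≫ t, k.imageι ≫ pullback.snd q₀ t₁ ≫ pullback.fst p₁ p₂,
    k.imageι ≫ pullback.snd q₀ t₁ ≫ pullback.snd p₁ p₂, i₁, i₂, i₃, i₄, i₅, i₆, ?_, ?_, ?_, ?_⟩
  · simp [t, t₁, pullback.condition]
  · simp [t, t₁, pullback.condition]
  · simp [k]
  · simp [k]

/-- The part over an open over which a dense open is proper. -/
theorem preimage_eq_of_dense {C Cb V Xb : Scheme.{u}} (j : C ⟶ Cb) [IsOpenImmersion j] (hj : DenseRange j.base)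
    (jV : V ⟶ Xb) [IsOpenImmersion jV] (cb : Cb ⟶ Xb) [IsSeparated cb] (O : C.Opens)
    (hOd : Dense (O : Set C)) (c : O.toScheme ⟶ V) [IsProper c] (h : O.ι ≫ j ≫ cb = c ≫ jV) :
    cb ⁻¹ᵁ jV.opensRange = j ''ᵁ O := by
  have hr : Set.range (O.ι ≫ j) ⊆ Set.range (cb ⁻¹ᵁ jV.opensRange).ι := by
    rintro _ ⟨x, rfl⟩
    rw [Scheme.Opens.range_ι]
    refine ⟨c x, ?_⟩
    rw [← Scheme.Hom.comp_apply, ← h, ← Category.assoc, Scheme.Hom.comp_apply]
  let l := IsOpenImmersion.lift (cb ⁻¹ᵁ jV.opensRange).ι (O.ι ≫ j) hr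
  have hl : l ≫ (cb ⁻¹ᵁ jV.opensRange).ι = O.ι ≫ j := IsOpenImmersion.lift_fac _ _ _
  haveI : IsProper (l ≫ (cb ∣_ jV.opensRange)) := by
    have e : l ≫ (cb ∣_ jV.opensRange) = c ≫ jV.isoOpensRange.hom := by
      rw [← cancel_mono jV.opensRange.ι, Category.assoc, morphismRestrict_ι, reassoc_of% hl, Category.assoc,
        Scheme.Hom.isoOpensRange_hom_ι, h]
    rw [e]
    infer_instance
  haveI : IsProper l := IsProper.of_comp (f := l) (g := cb ∣_ jV.opensRange)
  have hd : Dense (Set.range (O.ι ≫ j)) := by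
    have : Set.range (O.ι ≫ j) = j.base '' (O : Set C) := by
      ext y
      constructor
      · rintro ⟨x, rfl⟩
        exact ⟨x.1, x.2, rfl⟩
      · rintro ⟨x, hx, rfl⟩
        exact ⟨⟨x, hx⟩, rfl⟩
    rw [this]
    exact hj.dense_image j.continuous hOd
  apply le_antisymm
  · intro y hy
    have hy' : (⟨y, hy⟩ : (cb ⁻¹ᵁ jV.opensRange).toScheme) ∈ Set.range l := by
      rw [← l.isClosedMap.isClosed_range.closure_eq,
        (cb ⁻¹ᵁ jV.opensRange).ι.isOpenEmbedding.isEmbedding.closure_eq_preimage_closure_image]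
      refine closure_mono ?_ (hd y)
      rintro _ ⟨x, rfl⟩
      exact ⟨l x, ⟨x, rfl⟩, by rw [← Scheme.Hom.comp_apply, hl]⟩
    obtain ⟨x, hx⟩ := hy'
    refine ⟨x.1, x.2, ?_⟩
    have e := congrArg (fun k : O.toScheme ⟶ Cb => k x) hl
    simp only [Scheme.Hom.comp_apply] at e
    rw [hx] at e
    exact e.symm
  · rintro _ ⟨x, hx, rfl⟩
    refine ⟨c ⟨x, hx⟩, ?_⟩
    rw [← Scheme.Hom.comp_apply, ← h, Scheme.Hom.comp_apply, Scheme.Hom.comp_apply]
    rfl

/-- A further blow-up outside a compactified scheme. -/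
theorem exists_blowUp_step {Y : Scheme.{u}} [IsNoetherian S] (j : X ⟶ Y) [IsOpenImmersion j] (p : Y ⟶ S) [IsProper p]
    (M : Y.IdealSheafData) (hM : Disjoint (M.support : Set Y) (Set.range j)) :
    ∃ (Y' : Scheme.{u}) (π : Y' ⟶ Y) (j' : X ⟶ Y'), IsOpenImmersion j' ∧ BlowUp.IsBlowUp π M ∧ IsProper π ∧
      j' ≫ π = j := by
  haveI := LocallyOfFiniteType.isLocallyNoetherian p
  obtain ⟨Y', π, hπ⟩ := BlowUpExist.exists_isBlowUp Y M
  obtain ⟨v, hv, -⟩ := hπ.2 X j (BlowUpLib.comap_restrict_eq_top _ _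
    fun a h => Set.disjoint_left.1 hM h ⟨a, rfl⟩)
  exact ⟨Y', π, v, RZExt.isOpenImmersion_of_lift hπ j hM v hv, hπ,
    BlowUpExist.isProper_of_isFiniteType hπ (RZUnion.isFiniteType_of_isLocallyNoetherian _), hv⟩

/-- Compactifications separating finitely many disjoint pairs of closed sets. -/
theorem exists_disjoint_pairs [IsNoetherian S] {ι : Type v} [Finite ι] (g : X ⟶ S) (C₁ C₂ : ι → Set X)
    (h₁ : ∀ i, IsClosed (C₁ i)) (h₂ : ∀ i, IsClosed (C₂ i)) (hd : ∀ i, C₁ i ∩ C₂ i = ∅)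
    {Y₀ : Scheme.{u}} (j₀ : X ⟶ Y₀) [IsOpenImmersion j₀] (p₀ : Y₀ ⟶ S) [IsProper p₀] (h₀ : j₀ ≫ p₀ = g) (s : Finset ι) :
    ∃ (Y : Scheme.{u}) (j : X ⟶ Y) (p : Y ⟶ S) (π : Y ⟶ Y₀), IsOpenImmersion j ∧ IsProper p ∧ IsProper π ∧
      π ≫ p₀ = p ∧ j ≫ π = j₀ ∧ j ≫ p = g ∧
      ∀ i ∈ s, closure (j.base '' C₁ i) ∩ closure (j.base '' C₂ i) = ∅ := by
  classical
  induction s using Finset.induction with
  | empty => exact ⟨Y₀, j₀, p₀, 𝟙 _, inferInstance, inferInstance, inferInstance, Category.id_comp _, Category.comp_id _, h₀, by simp⟩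
  | insert a s ha ih =>
    obtain ⟨Y, j, p, π, _, _, _, hπp, hjπ, hjp, hs⟩ := ih
    let A := Scheme.IdealSheafData.vanishingIdeal (⟨closure (j.base '' C₁ a), isClosed_closure⟩ : Closeds Y)
    let B := Scheme.IdealSheafData.vanishingIdeal (⟨closure (j.base '' C₂ a), isClosed_closure⟩ : Closeds Y)
    have hA : (A.support : Set Y) = closure (j.base '' C₁ a) := by
      simp [A]
    have hB : (B.support : Set Y) = closure (j.base '' C₂ a) := by
      simp [B]
    have hAB : ((A ⊔ B).support : Set Y) = (A.support : Set Y) ∩ B.support := by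
      rw [Scheme.IdealSheafData.support_sup]; rfl
    have emb := j.isOpenEmbedding.isEmbedding
    have hM : Disjoint ((A ⊔ B).support : Set Y) (Set.range j) := by
      rw [hAB, hA, hB]
      refine Set.disjoint_left.2 ?_
      rintro _ ⟨hy₁, hy₂⟩ ⟨x, rfl⟩
      have e₁ : x ∈ C₁ a := by
        rw [← (h₁ a).closure_eq, emb.closure_eq_preimage_closure_image]; exact hy₁
      have e₂ : x ∈ C₂ a := by
        rw [← (h₂ a).closure_eq, emb.closure_eq_preimage_closure_image]; exact hy₂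
      exact (Set.mem_empty_iff_false x).1 (hd a ▸ ⟨e₁, e₂⟩)
    obtain ⟨Y', b, j', _, hb, _, hj'⟩ := exists_blowUp_step j p (A ⊔ B) hM
    have himg : ∀ (T : Set X), b.base '' (j'.base '' T) = j.base '' T := fun T => by
      rw [Set.image_image]
      exact Set.image_congr fun x _ => by
        show b (j' x) = j x
        rw [← Scheme.Hom.comp_apply, hj']
    have hcl : ∀ (T : Set X), closure (j'.base '' T) ⊆ b.base ⁻¹' closure (j.base '' T) := fun T y hy => by
      have h := image_closure_subset_closure_image b.continuous ⟨y, hy, rfl⟩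
      exact closure_mono (himg T).le h
    refine ⟨Y', j', b ≫ p, b ≫ π, inferInstance, inferInstance, inferInstance, by rw [Category.assoc, hπp],
      by rw [reassoc_of% hj', hjπ], by rw [reassoc_of% hj', hjp], fun i hi => ?_⟩
    rcases Finset.mem_insert.1 hi with rfl | hi
    · refine Set.disjoint_iff_inter_eq_empty.1 (Set.disjoint_of_subset ?_ ?_ (BlowSep.disjoint_closure A B hb.1))
      · refine closure_mono ?_
        rintro _ ⟨x, hx, rfl⟩
        rw [Set.mem_preimage, ← Scheme.Hom.comp_apply, hj']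
        exact ⟨hA.ge (subset_closure ⟨x, hx, rfl⟩), fun h => Set.disjoint_left.1 hM h ⟨x, rfl⟩⟩
      · refine closure_mono ?_
        rintro _ ⟨x, hx, rfl⟩
        rw [Set.mem_preimage, ← Scheme.Hom.comp_apply, hj']
        exact ⟨hB.ge (subset_closure ⟨x, hx, rfl⟩), fun h => Set.disjoint_left.1 hM h ⟨x, rfl⟩⟩
    · rw [← Set.subset_empty_iff]
      intro y hy
      have : b.base y ∈ closure (j.base '' C₁ i) ∩ closure (j.base '' C₂ i) := ⟨hcl _ hy.1, hcl _ hy.2⟩
      rw [hs i hi] at this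
      exact this.elim

end Groth.Agent.Nagata
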