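import Mathlib

/-!
The integral closed subscheme attached to a prime of an affine open.
-/

set_option autoImplicit false
set_option linter.style.haveILetI false
set_option backward.isDefEq.respectTransparency false
universe u

open AlgebraicGeometry CategoryTheory TopologicalSpace Opposite

namespace Groth.Agent.Nagata

/-- The scheme-theoretic image of an integral scheme along a quasi-compact morphism is integral. -/
theorem isIntegral_image {W X : Scheme.{u}} [IsIntegral W] (f : W ⟶ X) [QuasiCompact f] : IsIntegral f.image := by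
  haveI : IsReduced f.image := ⟨fun V => isReduced_of_injective (S := Γ(W, f.toImage ⁻¹ᵁ V)) (f.toImage.app V).hom
    (TopCat.Presheaf.app_injective_of_stalkFunctor_map_injective (F := f.image.sheaf) f.toImage.c V
      (fun x _ => f.stalkFunctor_toImage_injective x))⟩
  haveI : IrreducibleSpace f.image := by
    have hd : DenseRange f.toImage.base := (inferInstance : IsDominant f.toImage).denseRange
    have h1 := ((IrreducibleSpace.isIrreducible_univ W).image f.toImage.base
      f.toImage.continuous.continuousOn).closure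
    rw [Set.image_univ, hd.closure_range] at h1
    exact { isPreirreducible_univ := h1.2, toNonempty := ⟨h1.1.some⟩ }
  exact isIntegral_of_irreducibleSpace_of_isReduced _

/-- The integral closed subscheme attached to a prime of an affine open. -/
theorem exists_primeSubscheme {X : Scheme.{u}} [QuasiSeparatedSpace X] (U : X.Opens) (hU : IsAffineOpen U)
    (p : Ideal Γ(X, U)) [p.IsPrime] :
    ∃ (Z : Scheme.{u}) (i : Z ⟶ X) (_ : IsClosedImmersion i) (_ : IsIntegral Z) (_ : Nonempty (i ⁻¹ᵁ U : Z.Opens)),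
      Nonempty (Γ(X, U) ⧸ p ≃+* Γ(Z, i ⁻¹ᵁ U)) := by
  let S := CommRingCat.of (Γ(X, U) ⧸ p)
  let φ : Γ(X, U) ⟶ S := CommRingCat.ofHom (Ideal.Quotient.mk p)
  let f : Spec S ⟶ X := Spec.map φ ≫ hU.fromSpec
  haveI : IsDomain S := inferInstanceAs (IsDomain (Γ(X, U) ⧸ p))
  haveI : IsIntegral (Spec S) := inferInstance
  haveI : QuasiCompact f := inferInstance
  have hpre : f ⁻¹ᵁ U = ⊤ := by
    show Spec.map φ ⁻¹ᵁ (hU.fromSpec ⁻¹ᵁ U) = ⊤
    rw [hU.fromSpec_preimage_self]
    rfl
  have hker : f.ker.ideal ⟨U, hU⟩ = p := by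
    rw [Scheme.Hom.ker_apply]
    have h1 : f.app U ≫ (Spec S).presheaf.map (eqToHom hpre.symm).op = φ ≫ (Scheme.ΓSpecIso S).inv := by
      rw [Scheme.ΓSpecIso_inv_naturality φ]
      show (Spec.map φ ≫ hU.fromSpec).app U ≫ _ = _
      rw [Scheme.Hom.comp_app, hU.fromSpec_app_self]
      simp only [Category.assoc]
      congr 1
    ext x
    rw [RingHom.mem_ker]
    refine Iff.trans ?_ (Ideal.Quotient.eq_zero_iff_mem (I := p))
    have h2 := congrArg (fun g => g.hom x) h1
    simp only [CommRingCat.hom_comp, RingHom.comp_apply] at h2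
    rw [← map_eq_zero_iff _ (ConcreteCategory.bijective_of_isIso ((Spec S).presheaf.map (eqToHom hpre.symm).op)).1, h2,
      map_eq_zero_iff _ (ConcreteCategory.bijective_of_isIso (Scheme.ΓSpecIso S).inv).1]
    rfl
  haveI := isIntegral_image f
  let e : Γ(X, U) ⧸ p ≃+* Γ(f.image, f.imageι ⁻¹ᵁ U) :=
    (Ideal.quotEquivOfEq hker.symm).trans (f.ker.subschemeObjIso ⟨U, hU⟩).commRingCatIsoToRingEquiv.symm
  refine ⟨f.image, f.imageι, inferInstance, inferInstance, ?_, ⟨e⟩⟩
  obtain ⟨w⟩ : Nonempty (Spec S) := inferInstance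
  refine ⟨⟨f.toImage.base w, ?_⟩⟩
  show (f.toImage ≫ f.imageι).base w ∈ U
  rw [f.toImage_imageι]
  exact hpre.ge (Set.mem_univ w)

end Groth.Agent.Nagata
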