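import Groth.Agent.Nagata.Reduced
import Mathlib.RingTheory.Localization.LocalizationLocalization
import Mathlib.RingTheory.Localization.Away.AdjoinRoot
import Mathlib.AlgebraicGeometry.Noetherian

/-!
# Locality of N-2, Nagata and universally Japanese rings
-/

set_option autoImplicit false
set_option linter.style.haveILetI false
universe u

namespace Groth.Agent.Nagata

attribute [local instance] FractionRing.liftAlgebra

/-- N-2 is local for covers by basic opens. -/
theorem isN2_of_cover {R : Type u} [CommRing R] [IsDomain R] {ι : Type u} [Finite ι] (f : ι → R)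
    (hf : Ideal.span (Set.range f) = ⊤) (Rf : ι → Type u) [∀ i, CommRing (Rf i)] [∀ i, IsDomain (Rf i)]
    [∀ i, Algebra R (Rf i)] [∀ i, IsLocalization.Away (f i) (Rf i)] (h : ∀ i, CAlg.IsN2 (Rf i)) : CAlg.IsN2 R := by
  intro L _ _ _ _ hfd
  classical
  let K := FractionRing R
  haveI : FiniteDimensional K L := hfd
  have hinj : Function.Injective (algebraMap R L) := by
    rw [IsScalarTower.algebraMap_eq R K L]
    exact (algebraMap K L).injective.comp (IsFractionRing.injective R K)
  refine finite_of_cover f hf fun i => ?_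
  have h0 : f i ≠ 0 := fun h0 => by
    have := IsLocalization.map_units (Rf i) (⟨f i, 1, pow_one _⟩ : Submonoid.powers (f i))
    rw [show ((⟨f i, 1, pow_one _⟩ : Submonoid.powers (f i)) : R) = 0 from h0, map_zero] at this
    exact not_isUnit_zero this
  have hM : Submonoid.powers (f i) ≤ nonZeroDivisors R := by
    rintro _ ⟨n, rfl⟩
    exact mem_nonZeroDivisors_of_ne_zero (pow_ne_zero n h0)
  have hu : IsUnit (algebraMap R K (f i)) :=
    Ne.isUnit fun h => h0 (IsFractionRing.injective R K (h.trans (map_zero _).symm))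
  letI : Algebra (Rf i) K := (IsLocalization.Away.lift (f i) hu).toAlgebra
  haveI : IsScalarTower R (Rf i) K := IsScalarTower.of_algebraMap_eq fun a =>
    (IsLocalization.Away.lift_eq (f i) hu a).symm
  haveI : IsFractionRing (Rf i) K :=
    IsFractionRing.isFractionRing_of_isDomain_of_isLocalization (Submonoid.powers (f i)) (Rf i) K
  letI : Algebra (Rf i) L := ((algebraMap K L).comp (algebraMap (Rf i) K)).toAlgebra
  haveI : IsScalarTower (Rf i) K L := IsScalarTower.of_algebraMap_eq fun _ => rfl
  haveI : IsScalarTower R (Rf i) L := IsScalarTower.of_algebraMap_eq fun a => by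
    show algebraMap R L a = algebraMap K L (algebraMap (Rf i) K (algebraMap R (Rf i) a))
    rw [← IsScalarTower.algebraMap_apply R (Rf i) K, ← IsScalarTower.algebraMap_apply]
  obtain ⟨G, hG⟩ := ((finite_closure_of_frac (h i) K L).fg_top :
    (⊤ : Submodule (Rf i) (integralClosure (Rf i) L)).FG)
  choose m hm using fun g : integralClosure (Rf i) L =>
    IsIntegral.exists_multiple_integral_of_isLocalization (Submonoid.powers (f i)) (g : L) g.2
  let G' : Finset (integralClosure R L) := G.image fun g => ⟨m g • (g : L), hm g⟩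
  refine ⟨Submodule.span R G', ⟨G', rfl⟩, fun z => ?_⟩
  let N : Submodule R L := (Submodule.span R (G' : Set (integralClosure R L))).map (integralClosure R L).val.toLinearMap
  suffices ∀ w : integralClosure (Rf i) L, ∃ k : ℕ, f i ^ k • (w : L) ∈ N by
    obtain ⟨k, y, hy, hyz⟩ := this ⟨z, IsIntegral.tower_top (z.2 : IsIntegral R (z : L))⟩
    refine ⟨k, ?_⟩
    rwa [show f i ^ k • z = y from Subtype.ext hyz.symm]
  intro w
  have hw : w ∈ Submodule.span (Rf i) (G : Set (integralClosure (Rf i) L)) := hG ▸ trivial
  induction hw using Submodule.span_induction with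
  | mem g hg =>
    obtain ⟨k, hk⟩ := (m g).2
    exact ⟨k, _, Submodule.subset_span (Finset.mem_image_of_mem _ hg), by
      show ((m g : R) • (g : L)) = _
      rw [← hk]⟩
  | zero => exact ⟨0, by rw [ZeroMemClass.coe_zero, smul_zero]; exact zero_mem _⟩
  | add a b _ _ ha hb =>
    obtain ⟨k₁, h₁⟩ := ha
    obtain ⟨k₂, h₂⟩ := hb
    refine ⟨k₁ + k₂, ?_⟩
    rw [Subalgebra.coe_add, smul_add]
    refine add_mem ?_ ?_
    · rw [pow_add, mul_comm, mul_smul]; exact N.smul_mem _ h₁
    · rw [pow_add, mul_smul]; exact N.smul_mem _ h₂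
  | smul c a _ ha =>
    obtain ⟨k, hk⟩ := ha
    obtain ⟨⟨r, _, n, rfl⟩, hr⟩ := IsLocalization.surj (Submonoid.powers (f i)) c
    refine ⟨n + k, ?_⟩
    have h1 : f i ^ (n + k) • ((c • a : integralClosure (Rf i) L) : L) = r • f i ^ k • (a : L) := by
      have hr' : algebraMap (Rf i) L c * algebraMap R L (f i ^ n) = algebraMap R L r := by
        rw [IsScalarTower.algebraMap_apply R (Rf i) L, ← map_mul, IsScalarTower.algebraMap_apply R (Rf i) L r]
        exact congrArg _ hr
      show f i ^ (n + k) • (c • (a : L)) = _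
      simp only [Algebra.smul_def, pow_add, map_mul, ← hr']
      ring
    rw [h1]
    exact N.smul_mem _ hk

/-- A finite family spanning the unit ideal still does after discarding elements which vanish. -/
theorem span_ne_zero {S : Type u} [CommRing S] {ι : Type u} (g : ι → S) (hg : Ideal.span (Set.range g) = ⊤) :
    Ideal.span (Set.range fun i : {i // g i ≠ 0} => g i) = ⊤ := by
  rw [← top_le_iff, ← hg, Ideal.span_le]
  rintro _ ⟨i, rfl⟩
  by_cases h : g i = 0
  · rw [h]; exact zero_mem _
  · exact Ideal.subset_span ⟨⟨i, h⟩, rfl⟩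

theorem span_map {R S : Type u} [CommRing R] [CommRing S] (φ : R →+* S) {ι : Type u} (f : ι → R)
    (hf : Ideal.span (Set.range f) = ⊤) : Ideal.span (Set.range fun i => φ (f i)) = ⊤ := by
  have := congrArg (Ideal.map φ) hf
  rwa [Ideal.map_span, Ideal.map_top, ← Set.range_comp] at this

/-- Nagata is local for covers by basic opens. -/
theorem isNagata_of_cover {R : Type u} [CommRing R] {ι : Type u} [Finite ι] (f : ι → R)
    (hf : Ideal.span (Set.range f) = ⊤) (h : ∀ i, CAlg.IsNagata (Localization.Away (f i))) : CAlg.IsNagata R := by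
  refine ⟨AlgebraicGeometry.isNoetherianRing_of_away (Set.finite_range f).toFinset (by simpa using hf) ?_,
    fun p hp => ?_⟩
  · rintro ⟨s, hs⟩
    obtain ⟨i, rfl⟩ := (Set.finite_range f).mem_toFinset.mp hs
    exact (h i).1
  let φ := Ideal.Quotient.mk p
  let ι' := {i // φ (f i) ≠ 0}
  have hM : ∀ i : ι', Submonoid.powers (φ (f i.1)) ≤ nonZeroDivisors (R ⧸ p) := by
    rintro i _ ⟨n, rfl⟩
    exact mem_nonZeroDivisors_of_ne_zero (pow_ne_zero n i.2)
  haveI : ∀ i : ι', IsDomain (Localization.Away (φ (f i.1))) := fun i => IsLocalization.isDomain_localization (hM i)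
  refine isN2_of_cover (fun i : ι' => φ (f i.1)) (span_ne_zero _ (span_map φ f hf))
    (fun i : ι' => Localization.Away (φ (f i.1))) fun i => isN2_of_isNagata ?_
  let ψ : Localization.Away (f i.1) →+* Localization.Away (φ (f i.1)) := IsLocalization.Away.map _ _ φ (f i.1)
  refine isNagata_of_surjective ψ (fun z => ?_) (h i.1)
  obtain ⟨⟨a, _, n, rfl⟩, ha⟩ := IsLocalization.surj (Submonoid.powers (φ (f i.1))) z
  obtain ⟨a, rfl⟩ := Ideal.Quotient.mk_surjective a
  refine ⟨IsLocalization.mk' _ a (⟨f i.1 ^ n, n, rfl⟩ : Submonoid.powers (f i.1)), ?_⟩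
  have hψ : ∀ r, ψ (algebraMap R _ r) = algebraMap (R ⧸ p) _ (φ r) := fun r => IsLocalization.map_eq _ r
  refine (IsLocalization.map_units (Localization.Away (φ (f i.1)))
    (⟨φ (f i.1) ^ n, n, rfl⟩ : Submonoid.powers (φ (f i.1)))).mul_left_injective ?_
  show ψ _ * algebraMap _ _ (φ (f i.1) ^ n) = z * algebraMap _ _ (φ (f i.1) ^ n)
  rw [← map_pow φ, ← hψ, ← map_mul, IsLocalization.mk'_spec, hψ, hψ, map_pow φ]
  exact ha.symm

/-- Universally Japanese is local for covers by basic opens. -/
theorem isUniversallyJapanese_of_cover {R : Type u} [CommRing R] {ι : Type u} [Finite ι] (f : ι → R)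
    (hf : Ideal.span (Set.range f) = ⊤) (h : ∀ i, CAlg.IsUniversallyJapanese (Localization.Away (f i))) :
    CAlg.IsUniversallyJapanese R := by
  intro S _ _ _ hS
  haveI : Algebra.FiniteType R S := hS
  let ι' := {i // algebraMap R S (f i) ≠ 0}
  have hM : ∀ i : ι', Submonoid.powers (algebraMap R S (f i.1)) ≤ nonZeroDivisors S := by
    rintro i _ ⟨n, rfl⟩
    exact mem_nonZeroDivisors_of_ne_zero (pow_ne_zero n i.2)
  haveI : ∀ i : ι', IsDomain (Localization.Away (algebraMap R S (f i.1))) := fun i =>
    IsLocalization.isDomain_localization (hM i)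
  refine isN2_of_cover (fun i : ι' => algebraMap R S (f i.1)) (span_ne_zero _ (span_map _ f hf))
    (fun i : ι' => Localization.Away (algebraMap R S (f i.1))) fun i => ?_
  let A := Localization.Away (f i.1)
  let B := Localization.Away (algebraMap R S (f i.1))
  letI : Algebra A B := (IsLocalization.Away.map A B (algebraMap R S) (f i.1)).toAlgebra
  haveI : IsScalarTower R A B := IsScalarTower.of_algebraMap_eq fun a => by
    rw [RingHom.algebraMap_toAlgebra, IsScalarTower.algebraMap_apply R S B]
    exact (IsLocalization.map_eq _ a).symm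
  haveI : Algebra.FinitePresentation S B := IsLocalization.Away.finitePresentation (algebraMap R S (f i.1))
  haveI : Algebra.FiniteType R B := Algebra.FiniteType.trans (S := S) inferInstance inferInstance
  exact h i.1 B (Algebra.FiniteType.of_restrictScalars_finiteType R A B)

end Groth.Agent.Nagata
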