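import Groth.Agent.Nagata.FiniteType
import Groth.Agent.Nagata.Cover
import Groth.Agent.S4562
import Mathlib.FieldTheory.PurelyInseparable.Exponent

/-!
# Grothendieck's criterion for N-2 domains
-/

set_option autoImplicit false
set_option linter.style.haveILetI false
universe u

namespace Groth.Agent.Nagata

attribute [local instance] FractionRing.liftAlgebra

/-- Near a localization which is N-2, the integral closure has finitely many generators. -/
theorem exists_loc_generators {B : Type u} [CommRing B] [IsDomain B] (S : Submonoid B) (hS : S ≤ nonZeroDivisors B)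
    (Bn : Type u) [CommRing Bn] [IsDomain Bn] [Algebra B Bn] [IsLocalization S Bn] (hN2 : CAlg.IsN2 Bn)
    (K L : Type u) [Field K] [Algebra B K] [IsFractionRing B K] [Field L] [Algebra B L] [Algebra K L]
    [IsScalarTower B K L] [FiniteDimensional K L] :
    ∃ N : Submodule B L, N.FG ∧ (∀ g ∈ N, IsIntegral B g) ∧ ∀ z : L, IsIntegral B z → ∃ s ∈ S, s • z ∈ N := by
  classical
  have hu : ∀ y : S, IsUnit (algebraMap B K y) := fun y =>
    Ne.isUnit fun h => nonZeroDivisors.ne_zero (hS y.2) (IsFractionRing.injective B K (h.trans (map_zero _).symm))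
  letI : Algebra Bn K := (IsLocalization.lift hu).toAlgebra
  haveI : IsScalarTower B Bn K := IsScalarTower.of_algebraMap_eq fun a => (IsLocalization.lift_eq hu a).symm
  haveI : IsFractionRing Bn K := IsFractionRing.isFractionRing_of_isDomain_of_isLocalization S Bn K
  letI : Algebra Bn L := ((algebraMap K L).comp (algebraMap Bn K)).toAlgebra
  haveI : IsScalarTower Bn K L := IsScalarTower.of_algebraMap_eq fun _ => rfl
  haveI : IsScalarTower B Bn L := IsScalarTower.of_algebraMap_eq fun a => by
    show algebraMap B L a = algebraMap K L (algebraMap Bn K (algebraMap B Bn a))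
    rw [← IsScalarTower.algebraMap_apply B Bn K, ← IsScalarTower.algebraMap_apply]
  obtain ⟨G, hG⟩ := ((finite_closure_of_frac hN2 K L).fg_top : (⊤ : Submodule Bn (integralClosure Bn L)).FG)
  choose m hm using fun g : integralClosure Bn L =>
    IsIntegral.exists_multiple_integral_of_isLocalization S (g : L) g.2
  let G' : Finset L := G.image fun g => m g • (g : L)
  refine ⟨Submodule.span B G', ⟨G', rfl⟩, fun g hg => ?_, fun z hz => ?_⟩
  · induction hg using Submodule.span_induction with
    | mem g hg => obtain ⟨w, -, rfl⟩ := Finset.mem_image.mp hg; exact hm w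
    | zero => exact isIntegral_zero
    | add a b _ _ ha hb => exact ha.add hb
    | smul c a _ ha => exact ha.smul c
  let N := Submodule.span B (G' : Set L)
  suffices ∀ w : integralClosure Bn L, ∃ s ∈ S, s • (w : L) ∈ N from this ⟨z, hz.tower_top⟩
  intro w
  have hw : w ∈ Submodule.span Bn (G : Set (integralClosure Bn L)) := hG ▸ trivial
  induction hw using Submodule.span_induction with
  | mem g hg => exact ⟨m g, (m g).2, Submodule.subset_span (Finset.mem_image_of_mem _ hg)⟩
  | zero => exact ⟨1, one_mem S, by rw [ZeroMemClass.coe_zero, smul_zero]; exact zero_mem _⟩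
  | add a b _ _ ha hb =>
    obtain ⟨s, hs, h₁⟩ := ha
    obtain ⟨t, ht, h₂⟩ := hb
    refine ⟨s * t, mul_mem hs ht, ?_⟩
    rw [Subalgebra.coe_add, smul_add]
    refine add_mem ?_ ?_
    · rw [mul_comm, mul_smul]; exact N.smul_mem _ h₁
    · rw [mul_smul]; exact N.smul_mem _ h₂
  | smul c a _ ha =>
    obtain ⟨s, hs, h₁⟩ := ha
    obtain ⟨⟨r, t⟩, hr⟩ := IsLocalization.surj S c
    refine ⟨(t : B) * s, mul_mem t.2 hs, ?_⟩
    have h2 : ((t : B) * s) • ((c • a : integralClosure Bn L) : L) = r • s • (a : L) := by
      show ((t : B) * s) • (c • (a : L)) = _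
      have hr' : algebraMap Bn L c * algebraMap B L (t : B) = algebraMap B L r := by
        rw [IsScalarTower.algebraMap_apply B Bn L, ← map_mul, IsScalarTower.algebraMap_apply B Bn L r]
        exact congrArg _ hr
      simp only [Algebra.smul_def, map_mul, ← hr']
      ring
    rw [h2]
    exact N.smul_mem _ h₁

/-- Grothendieck's criterion. -/
theorem isN2_of_loc_and_normal {B : Type u} [CommRing B] [IsDomain B] [IsNoetherianRing B]
    (h1 : ∀ (n : Ideal B) [n.IsMaximal], CAlg.IsN2 (Localization.AtPrime n))
    (h2 : ∀ (K' : Type u) [Field K'] [Algebra B K'] [Algebra (FractionRing B) K'] [IsScalarTower B (FractionRing B) K']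
      [FiniteDimensional (FractionRing B) K'] [IsPurelyInseparable (FractionRing B) K'] (B' : Subalgebra B K'),
      Module.Finite B B' → IsFractionRing B' K' → ∃ f : B', f ≠ 0 ∧ IsIntegrallyClosed (Localization.Away f)) :
    CAlg.IsN2 B := by
  classical
  refine S4562.result B fun K' _ _ _ _ hfd hpi => ?_
  let K := FractionRing B
  haveI : FiniteDimensional K K' := hfd
  haveI : IsPurelyInseparable K K' := hpi
  have hBK' : Function.Injective (algebraMap B K') := by
    rw [IsScalarTower.algebraMap_eq B K K']
    exact (algebraMap K K').injective.comp (IsFractionRing.injective B K)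
  haveI : Algebra.IsAlgebraic B K' := (IsFractionRing.comap_isAlgebraic_iff (A := B) (K := K) (C := K')).mpr
    (Algebra.IsAlgebraic.of_finite K K')
  let b := Module.finBasis K K'
  obtain ⟨y, hy, hint⟩ := Algebra.IsAlgebraic.exists_integral_multiples B (Finset.univ.image b)
  let B' := Algebra.adjoin B (((Finset.univ.image b).image (y • ·) : Finset K') : Set K')
  haveI hfin : Module.Finite B B' := Module.Finite.iff_fg.mpr (fg_adjoin_of_finite (Finset.finite_toSet _) fun z hz => by
    obtain ⟨w, hw, rfl⟩ := Finset.mem_image.mp hz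
    exact hint w hw)
  haveI : FaithfulSMul B' K' := (faithfulSMul_iff_algebraMap_injective _ _).mpr Subtype.val_injective
  haveI : IsFractionRing B' K' := IsFractionRing.of_field B' K' fun z => by
    rw [← b.sum_repr z]
    obtain ⟨d, hd⟩ := IsLocalization.exist_integer_multiples (nonZeroDivisors B) Finset.univ
      (fun i => b.repr z i / algebraMap B K y)
    choose a ha using fun i => hd i (Finset.mem_univ i)
    refine ⟨∑ i, algebraMap B B' (a i) * ⟨y • b i, Algebra.subset_adjoin (by simp)⟩, algebraMap B B' d, ?_⟩
    have hd0 : algebraMap B K' (d : B) ≠ 0 := fun h0 =>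
      nonZeroDivisors.coe_ne_zero d (hBK' (h0.trans (map_zero _).symm))
    rw [map_sum, ← IsScalarTower.algebraMap_apply B B' K', Finset.sum_div]
    refine Finset.sum_congr rfl fun i _ => ?_
    rw [map_mul, ← IsScalarTower.algebraMap_apply B B' K', show algebraMap B' K' ⟨y • b i, _⟩ = y • b i from rfl,
      eq_div_iff hd0, IsScalarTower.algebraMap_apply B K K' (a i), ha i, Algebra.smul_def, Algebra.smul_def,
      Algebra.smul_def, map_mul, map_div₀, ← IsScalarTower.algebraMap_apply B K K',
      ← IsScalarTower.algebraMap_apply B K K']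
    have hy1 : algebraMap B K' y ≠ 0 := fun h0 => hy (hBK' (h0.trans (map_zero _).symm))
    field_simp
  obtain ⟨f, hf0, hfnorm⟩ := h2 K' B' hfin inferInstance
  haveI : IsNoetherianRing B' := IsNoetherianRing.of_finite B B'
  haveI : Algebra.IsIntegral B B' := Algebra.IsIntegral.of_finite B B'
  refine finite_closure_of_tower (B1 := B') ?_
  refine finite_of_locFG f hf0 (fun z hz => ?_) fun M _ => ?_
  · let Bf := Localization.Away f
    haveI := hfnorm
    have hu : IsUnit (algebraMap B' K' f) :=
      Ne.isUnit fun h => hf0 (Subtype.val_injective (h.trans (map_zero (algebraMap B' K')).symm))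
    letI : Algebra Bf K' := (IsLocalization.Away.lift f hu).toAlgebra
    haveI : IsScalarTower B' Bf K' := IsScalarTower.of_algebraMap_eq fun a => (IsLocalization.Away.lift_eq f hu a).symm
    haveI : IsDomain Bf := IsLocalization.isDomain_localization (by
      rintro _ ⟨n, rfl⟩
      exact mem_nonZeroDivisors_of_ne_zero (pow_ne_zero n hf0))
    haveI : IsFractionRing Bf K' :=
      IsFractionRing.isFractionRing_of_isDomain_of_isLocalization (Submonoid.powers f) Bf K'
    obtain ⟨c, hc⟩ := IsIntegrallyClosed.isIntegral_iff.mp (hz.tower_top (A := Bf))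
    obtain ⟨⟨r, _, k, rfl⟩, hr⟩ := IsLocalization.surj (Submonoid.powers f) c
    refine ⟨k, r, ?_⟩
    rw [Algebra.smul_def, mul_comm, ← hc, IsScalarTower.algebraMap_apply B' Bf K', ← map_mul,
      IsScalarTower.algebraMap_apply B' Bf K' r]
    exact congrArg _ hr
  · haveI : (M.comap (algebraMap B B')).IsMaximal := Ideal.isMaximal_comap_of_isIntegral_of_isMaximal M
    obtain ⟨N, hN, hNint, hNloc⟩ := exists_loc_generators (M.comap (algebraMap B B')).primeCompl
      (M.comap (algebraMap B B')).primeCompl_le_nonZeroDivisors (Localization.AtPrime (M.comap (algebraMap B B')))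
      (h1 _) K K'
    obtain ⟨G, hG⟩ := hN
    refine ⟨Submodule.span B' (N : Set K'), ⟨G, ?_⟩, fun g hg => ?_, fun z hz => ?_⟩
    · rw [← hG, Submodule.span_span_of_tower]
    · induction hg using Submodule.span_induction with
      | mem g hg => exact (hNint g hg).tower_top
      | zero => exact isIntegral_zero
      | add a b _ _ ha hb => exact ha.add hb
      | smul c a _ ha => exact ha.smul c
    · obtain ⟨s, hs, hsz⟩ := hNloc z (isIntegral_trans (A := B') z hz)
      refine ⟨algebraMap B B' s, hs, ?_⟩
      rw [IsScalarTower.algebraMap_smul]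
      exact Submodule.subset_span hsz

theorem isN2_atPrime_quotient {A : Type u} [CommRing A] (m : Ideal A) [m.IsPrime] (P : Ideal (Localization.AtPrime m))
    [P.IsPrime] (h : CAlg.IsN2 (Localization.AtPrime m ⧸ P)) (p : Ideal A) [p.IsPrime]
    (hp : P.comap (algebraMap A (Localization.AtPrime m)) = p) (n : Ideal (A ⧸ p)) [n.IsPrime]
    (hn : n.comap (Ideal.Quotient.mk p) = m) : CAlg.IsN2 (Localization.AtPrime n) := by
  subst hp
  let p := P.comap (algebraMap A (Localization.AtPrime m))
  letI : Algebra (A ⧸ p) (Localization.AtPrime m ⧸ P) := Ideal.Quotient.algebraQuotientOfLEComap le_rfl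
  haveI : IsScalarTower A (A ⧸ p) (Localization.AtPrime m ⧸ P) := IsScalarTower.of_algebraMap_eq fun _ => rfl
  haveI := isLocalization_quotient m.primeCompl P
  have hcompl : n.primeCompl = m.primeCompl.map (Ideal.Quotient.mk p) := by
    ext z
    obtain ⟨a, rfl⟩ := Ideal.Quotient.mk_surjective z
    constructor
    · exact fun ha => ⟨a, fun ham => ha (show Ideal.Quotient.mk p a ∈ n from hn.ge ham), rfl⟩
    · rintro ⟨c, hc, hca⟩ ha
      exact hc (hn.le (show Ideal.Quotient.mk p c ∈ n from hca ▸ ha))
  haveI : IsLocalization n.primeCompl (Localization.AtPrime m ⧸ P) := hcompl ▸ inferInstance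
  exact isN2_of_ringEquiv
    (IsLocalization.algEquiv n.primeCompl (Localization.AtPrime m ⧸ P) (Localization.AtPrime n)).toRingEquiv h

end Groth.Agent.Nagata
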