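import Groth.Agent.Nagata.Basic
import Mathlib.RingTheory.Localization.AtPrime.Basic
import Mathlib.RingTheory.Spectrum.Prime.Basic

/-!
# Localization of N-2 domains and Nagata rings
-/

set_option autoImplicit false
set_option linter.style.haveILetI false
universe u

namespace Groth.Agent.Nagata

attribute [local instance] FractionRing.liftAlgebra

/-- Generators of an integral closure generate the integral closure over a localization. -/
theorem finite_closure_localization {R S L : Type u} [CommRing R] [CommRing S] [Field L] [Algebra R S]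
    (M : Submonoid R) [IsLocalization M S] [Algebra R L] [Algebra S L] [IsScalarTower R S L]
    (h : Module.Finite R (integralClosure R L)) : Module.Finite S (integralClosure S L) := by
  classical
  obtain ⟨G, hG⟩ := (Module.Finite.fg_top : (⊤ : Submodule R (integralClosure R L)).FG)
  let f : integralClosure R L →ₗ[R] integralClosure S L :=
    { toFun := fun z => ⟨z, IsIntegral.tower_top (z.2 : IsIntegral R (z : L))⟩
      map_add' := fun _ _ => rfl
      map_smul' := fun _ _ => rfl }
  refine ⟨⟨G.image f, eq_top_iff.mpr fun z _ => ?_⟩⟩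
  obtain ⟨m, hm⟩ := IsIntegral.exists_multiple_integral_of_isLocalization M (z : L) z.2
  have h0 : (⟨m • (z : L), hm⟩ : integralClosure R L) ∈ Submodule.span R (G : Set (integralClosure R L)) := hG ▸ trivial
  have h1 : f ⟨m • (z : L), hm⟩ ∈ (Submodule.span R (G : Set (integralClosure R L))).map f := ⟨_, h0, rfl⟩
  rw [Submodule.map_span] at h1
  rw [Finset.coe_image]
  have hz : z = IsLocalization.mk' S 1 m • f ⟨m • (z : L), hm⟩ := Subtype.ext (by
    show (z : L) = IsLocalization.mk' S 1 m • ((m : R) • (z : L))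
    rw [← IsScalarTower.algebraMap_smul S (m : R) (z : L), smul_smul, IsLocalization.mk'_spec, map_one, one_smul])
  rw [hz]
  exact Submodule.smul_mem _ _ (Submodule.span_le_restrictScalars R S _ h1)

theorem isN2_of_isLocalization {R : Type u} [CommRing R] [IsDomain R] (M : Submonoid R) (S : Type u) [CommRing S]
    [IsDomain S] [Algebra R S] [IsLocalization M S] (h : CAlg.IsN2 R) : CAlg.IsN2 S := by
  have hM : M ≤ nonZeroDivisors R := fun m hm => mem_nonZeroDivisors_of_ne_zero fun h0 => by
    have := IsLocalization.map_units S (⟨m, hm⟩ : M)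
    rw [show ((⟨m, hm⟩ : M) : R) = 0 from h0, map_zero] at this
    exact not_isUnit_zero this
  intro L _ _ _ _ hfd
  haveI : FaithfulSMul R (FractionRing S) := (faithfulSMul_iff_algebraMap_injective _ _).mpr (by
    rw [IsScalarTower.algebraMap_eq R S (FractionRing S)]
    exact (IsFractionRing.injective S (FractionRing S)).comp (IsLocalization.injective S hM))
  haveI : IsFractionRing R (FractionRing S) := IsFractionRing.of_field R _ fun z => by
    obtain ⟨a, b, hb, rfl⟩ := IsFractionRing.div_surjective S z
    obtain ⟨⟨r₁, m₁⟩, h₁⟩ := IsLocalization.surj M a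
    obtain ⟨⟨r₂, m₂⟩, h₂⟩ := IsLocalization.surj M b
    have hb0 : algebraMap S (FractionRing S) b ≠ 0 := fun h0 =>
      nonZeroDivisors.ne_zero hb (IsFractionRing.injective S _ (h0.trans (map_zero _).symm))
    have hne : ∀ (r : R), r ∈ M → algebraMap R (FractionRing S) r ≠ 0 := fun r hr h0 =>
      nonZeroDivisors.ne_zero (hM hr) (FaithfulSMul.algebraMap_injective R (FractionRing S) (h0.trans (map_zero _).symm))
    refine ⟨r₁ * m₂, r₂ * m₁, ?_⟩
    rw [map_mul, map_mul, IsScalarTower.algebraMap_apply R S _ r₁, IsScalarTower.algebraMap_apply R S _ r₂, ← h₁, ← h₂,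
      map_mul, map_mul, ← IsScalarTower.algebraMap_apply, ← IsScalarTower.algebraMap_apply]
    have := hne m₁ m₁.2
    have := hne m₂ m₂.2
    field_simp
  letI : Algebra R L := ((algebraMap S L).comp (algebraMap R S)).toAlgebra
  haveI : IsScalarTower R S L := IsScalarTower.of_algebraMap_eq fun _ => rfl
  haveI : IsScalarTower R (FractionRing S) L := IsScalarTower.of_algebraMap_eq fun a => by
    show algebraMap S L (algebraMap R S a) = _
    rw [IsScalarTower.algebraMap_apply S (FractionRing S) L, ← IsScalarTower.algebraMap_apply R S (FractionRing S)]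
  haveI : FiniteDimensional (FractionRing S) L := hfd
  exact finite_closure_localization M (finite_closure_of_frac h (FractionRing S) L)

/-- A quotient of a localization at a prime is a localization of the quotient. -/
theorem isLocalization_quotient {R S : Type u} [CommRing R] [CommRing S] [Algebra R S] (M : Submonoid R)
    [IsLocalization M S] (P : Ideal S) [Algebra (R ⧸ P.comap (algebraMap R S)) (S ⧸ P)]
    [IsScalarTower R (R ⧸ P.comap (algebraMap R S)) (S ⧸ P)] :
    IsLocalization (M.map (Ideal.Quotient.mk (P.comap (algebraMap R S)))) (S ⧸ P) := by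
  have hmk : ∀ r, algebraMap (R ⧸ P.comap (algebraMap R S)) (S ⧸ P) (Ideal.Quotient.mk _ r) =
      Ideal.Quotient.mk P (algebraMap R S r) := fun r => by
    rw [← Ideal.Quotient.algebraMap_eq, ← IsScalarTower.algebraMap_apply]
    rfl
  refine { map_units := ?_, surj := ?_, exists_of_eq := ?_ }
  · rintro ⟨_, m, hm, rfl⟩
    rw [hmk]
    exact (IsLocalization.map_units S (⟨m, hm⟩ : M)).map _
  · intro z
    obtain ⟨z, rfl⟩ := Ideal.Quotient.mk_surjective z
    obtain ⟨⟨r, m⟩, hrm⟩ := IsLocalization.surj M z
    refine ⟨⟨Ideal.Quotient.mk _ r, ⟨_, m, m.2, rfl⟩⟩, ?_⟩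
    rw [hmk, hmk, ← map_mul, hrm]
  · intro a b hab
    obtain ⟨a, rfl⟩ := Ideal.Quotient.mk_surjective a
    obtain ⟨b, rfl⟩ := Ideal.Quotient.mk_surjective b
    rw [hmk, hmk, Ideal.Quotient.eq, ← map_sub] at hab
    exact ⟨1, by rw [OneMemClass.coe_one, one_mul, one_mul]; exact Ideal.Quotient.eq.mpr hab⟩

theorem isNagata_of_isLocalization {R : Type u} [CommRing R] (hR : CAlg.IsNagata R) (M : Submonoid R) (S : Type u)
    [CommRing S] [Algebra R S] [IsLocalization M S] : CAlg.IsNagata S := by
  haveI := hR.1
  refine ⟨IsLocalization.isNoetherianRing M S inferInstance, fun P _ => ?_⟩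
  letI : Algebra (R ⧸ P.comap (algebraMap R S)) (S ⧸ P) := Ideal.Quotient.algebraQuotientOfLEComap le_rfl
  haveI : IsScalarTower R (R ⧸ P.comap (algebraMap R S)) (S ⧸ P) := IsScalarTower.of_algebraMap_eq fun _ => rfl
  haveI := isLocalization_quotient M P
  exact isN2_of_isLocalization (M.map (Ideal.Quotient.mk (P.comap (algebraMap R S)))) (S ⧸ P) (hR.2 _)

theorem isNagata_of_surjective {R S : Type u} [CommRing R] [CommRing S] (f : R →+* S) (hf : Function.Surjective f)
    (hR : CAlg.IsNagata R) : CAlg.IsNagata S := by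
  haveI := hR.1
  refine ⟨isNoetherianRing_of_surjective R S f hf, fun P _ => ?_⟩
  exact isN2_of_ringEquiv ((Ideal.quotEquivOfEq (by rw [← RingHom.comap_ker, Ideal.mk_ker] :
    P.comap f = RingHom.ker ((Ideal.Quotient.mk P).comp f))).trans
      (RingHom.quotientKerEquivOfSurjective (f := (Ideal.Quotient.mk P).comp f) (Ideal.Quotient.mk_surjective.comp hf)))
    (hR.2 (P.comap f))

theorem isN2_of_isNagata {R : Type u} [CommRing R] [IsDomain R] (hR : CAlg.IsNagata R) : CAlg.IsN2 R :=
  isN2_of_ringEquiv (RingEquiv.quotientBot R) (hR.2 ⊥)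

/-- Finiteness of a submodule is local for a covering by basic opens. -/
theorem finite_of_cover {R : Type u} [CommRing R] {M : Type u} [AddCommGroup M] [Module R M]
    {ι : Type u} [Finite ι] (f : ι → R) (hf : Ideal.span (Set.range f) = ⊤)
    (h : ∀ i, ∃ N : Submodule R M, N.FG ∧ ∀ z : M, ∃ k : ℕ, f i ^ k • z ∈ N) : Module.Finite R M := by
  choose N hN hNz using h
  refine ⟨?_⟩
  have htop : (⨆ i, N i) = ⊤ := eq_top_iff.mpr fun z _ =>
    Submodule.mem_of_span_eq_top_of_smul_pow_mem (⨆ i, N i) (Set.range f) hf z fun r => by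
      obtain ⟨i, hi⟩ := r.2
      obtain ⟨k, hk⟩ := hNz i z
      exact ⟨k, (le_iSup N i) (hi ▸ hk)⟩
  exact htop ▸ Submodule.fg_iSup N hN

end Groth.Agent.Nagata
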