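import Groth.Agent.Nagata.Japanese
import Mathlib.FieldTheory.FinTrdeg
import Mathlib.RingTheory.AlgebraicIndependent.AlgebraicClosure
import Mathlib.RingTheory.EssentialFiniteness
import Mathlib.RingTheory.Localization.Module

/-!
# Integral closures in reduced algebras essentially of finite type over Nagata rings
-/

set_option autoImplicit false
set_option linter.style.haveILetI false
universe u

namespace Groth.Agent.Nagata

open scoped IntermediateField.algebraAdjoinAdjoin

/-- The algebraic closure of the ground field in a finitely generated extension is finite. -/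
theorem finite_algebraicClosure (K L : Type u) [Field K] [Field L] [Algebra K L] [Algebra.EssFiniteType K L] :
    FiniteDimensional K (algebraicClosure K L) := by
  classical
  obtain ⟨s, hs⟩ := exists_finset_isTranscendenceBasis K L
  let M := IntermediateField.adjoin K (Set.range ((↑) : s → L))
  haveI : Algebra.IsAlgebraic M L := hs.isAlgebraic_field
  haveI : Algebra.EssFiniteType M L := Algebra.EssFiniteType.of_comp K M L
  haveI : Module.Finite M L := Algebra.finite_of_essFiniteType_of_isAlgebraic
  refine Module.rank_lt_aleph0_iff.1 ((rank_le fun e he => ?_).trans_lt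
    (Cardinal.natCast_lt_aleph0 (n := Module.finrank M L)))
  have hind : AlgebraicIndependent (algebraicClosure K L) ((↑) : s → L) := hs.1.algebraicClosure
  have hlin : LinearIndependent (Algebra.adjoin K (Set.range ((↑) : s → L))) fun a : e => ((a : algebraicClosure K L) : L) := by
    rw [Fintype.linearIndependent_iff]
    intro g hg i
    have hp : ∀ a : e, ∃ p : MvPolynomial s K, MvPolynomial.aeval ((↑) : s → L) p = (g a : L) := fun a => by
      exact (SetLike.ext_iff.mp (Algebra.adjoin_range_eq_range_aeval K ((↑) : s → L)) (g a : L)).mp (g a).2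
    choose p hp using hp
    let P : MvPolynomial s (algebraicClosure K L) :=
      ∑ a : e, MvPolynomial.C (a : algebraicClosure K L) * MvPolynomial.map (algebraMap K _) (p a)
    have hP : P = 0 := hind.eq_zero_of_aeval_eq_zero P (by
      simp only [P, map_sum, map_mul, MvPolynomial.aeval_C, MvPolynomial.aeval_map_algebraMap, hp]
      refine (Finset.sum_congr rfl fun a _ => ?_).trans hg
      rw [Algebra.smul_def, mul_comm]
      rfl)
    have hp0 : p i = 0 := by
      refine MvPolynomial.ext _ _ fun m => ?_
      have h1 : ∑ a : e, (p a).coeff m • (a : algebraicClosure K L) = 0 := by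
        have := congrArg (MvPolynomial.coeff m) hP
        simp only [P, MvPolynomial.coeff_sum, MvPolynomial.coeff_C_mul, MvPolynomial.coeff_map, MvPolynomial.coeff_zero] at this
        refine (Finset.sum_congr rfl fun a _ => ?_).trans this
        rw [Algebra.smul_def, mul_comm]
      exact Fintype.linearIndependent_iff.mp he _ h1 i
    refine Subtype.ext ?_
    rw [← hp i, hp0, map_zero]
    rfl
  have := (LinearIndependent.iff_fractionRing (R := Algebra.adjoin K (Set.range ((↑) : s → L))) (K := M)).mp hlin
  simpa using this.fintype_card_le_finrank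

attribute [local instance] FractionRing.liftAlgebra

/-- The integral closure of an N-2 domain in a finitely generated field extension is finite. -/
theorem finite_closure_field {A L : Type u} [CommRing A] [IsDomain A] [IsNoetherianRing A] (hA : CAlg.IsN2 A) [Field L]
    [Algebra A L] [FaithfulSMul A L] [Algebra.EssFiniteType A L] : Module.Finite A (integralClosure A L) := by
  let K := FractionRing A
  haveI : Algebra.EssFiniteType K L := Algebra.EssFiniteType.of_comp A K L
  let K' := algebraicClosure K L
  haveI := finite_algebraicClosure K L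
  haveI := finite_closure_of_frac hA K K'
  haveI : IsNoetherian A (integralClosure A K') := isNoetherian_of_isNoetherianRing_of_finite A _
  haveI : IsScalarTower A K' L := IsScalarTower.of_algebraMap_eq fun a => by
    rw [IsScalarTower.algebraMap_apply A K K', ← IsScalarTower.algebraMap_apply K K' L, ← IsScalarTower.algebraMap_apply]
  let j : K' →ₐ[A] L := (IsScalarTower.toAlgHom A K' L)
  have hj : Function.Injective j := (algebraMap K' L).injective
  let f : integralClosure A L →ₗ[A] integralClosure A K' :=
    { toFun := fun z => ⟨⟨z, mem_algebraicClosure_iff'.mpr ((z.2 : IsIntegral A (z : L)).tower_top)⟩,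
        (isIntegral_algHom_iff j hj).mp (z.2 : IsIntegral A (z : L))⟩
      map_add' := fun _ _ => rfl
      map_smul' := fun a z => Subtype.ext (Subtype.ext rfl) }
  exact Module.Finite.of_injective f fun z w h =>
    Subtype.ext (congrArg (fun t : integralClosure A K' => ((t : K') : L)) h)

/-- The integral closure of a Nagata ring in a reduced algebra essentially of finite type is finite. -/
theorem finite_closure_reduced {A W : Type u} [CommRing A] [CommRing W] (hA : CAlg.IsNagata A) [IsReduced W]
    [Algebra A W] [Algebra.EssFiniteType A W] : Module.Finite A (integralClosure A W) := by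
  classical
  haveI := hA.1
  haveI : IsNoetherianRing W := Algebra.EssFiniteType.isNoetherianRing A W
  haveI : Finite {Q : Ideal W // Q ∈ minimalPrimes W} := (minimalPrimes.finite_of_isNoetherianRing W).to_subtype
  haveI hprime : ∀ Q : {Q : Ideal W // Q ∈ minimalPrimes W}, Q.1.IsPrime := fun Q => Q.2.1.1
  let L := fun Q : {Q : Ideal W // Q ∈ minimalPrimes W} => FractionRing (W ⧸ Q.1)
  have hfin : ∀ Q, Module.Finite A (integralClosure A (L Q)) := fun Q => by
    haveI : Algebra.EssFiniteType A (W ⧸ Q.1) := inferInstance
    haveI : Algebra.EssFiniteType (W ⧸ Q.1) (L Q) :=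
      Algebra.EssFiniteType.of_isLocalization (L Q) (nonZeroDivisors (W ⧸ Q.1))
    haveI : Algebra.EssFiniteType A (L Q) := Algebra.EssFiniteType.comp A (W ⧸ Q.1) (L Q)
    let q := RingHom.ker (algebraMap A (L Q))
    haveI : q.IsPrime := RingHom.ker_isPrime _
    letI : Algebra (A ⧸ q) (L Q) := (RingHom.kerLift (algebraMap A (L Q))).toAlgebra
    haveI : IsScalarTower A (A ⧸ q) (L Q) := IsScalarTower.of_algebraMap_eq fun _ => rfl
    haveI : FaithfulSMul (A ⧸ q) (L Q) := (faithfulSMul_iff_algebraMap_injective _ _).mpr (RingHom.kerLift_injective _)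
    haveI : Algebra.EssFiniteType (A ⧸ q) (L Q) := Algebra.EssFiniteType.of_comp A (A ⧸ q) (L Q)
    exact finite_closure_of_tower (B1 := A ⧸ q) (finite_closure_field (hA.2 q))
  haveI : ∀ Q, IsNoetherian A (integralClosure A (L Q)) := fun Q => by
    haveI := hfin Q
    exact isNoetherian_of_isNoetherianRing_of_finite A _
  haveI : IsNoetherian A (∀ Q, integralClosure A (L Q)) := inferInstance
  let π : ∀ Q : {Q : Ideal W // Q ∈ minimalPrimes W}, W →ₐ[A] L Q := fun Q =>
    (IsScalarTower.toAlgHom A (W ⧸ Q.1) (L Q)).comp (Ideal.Quotient.mkₐ A Q.1)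
  let f : integralClosure A W →ₗ[A] ∀ Q, integralClosure A (L Q) :=
    { toFun := fun z Q => ⟨π Q z, (z.2 : IsIntegral A (z : W)).map (π Q)⟩
      map_add' := fun z w => funext fun Q => Subtype.ext (map_add (π Q) (z : W) w)
      map_smul' := fun a z => funext fun Q => Subtype.ext (map_smul (π Q) a (z : W)) }
  refine Module.Finite.of_injective f fun z w h => Subtype.ext (sub_eq_zero.mp ?_)
  refine (IsReduced.eq_zero _ ?_)
  rw [← mem_nilradical, nilradical_eq_sInf, Submodule.mem_sInf]
  intro (P : Ideal W) hP
  haveI : P.IsPrime := hP
  obtain ⟨Q, hQ, hQP⟩ := Ideal.exists_minimalPrimes_le (I := (⊥ : Ideal W)) (J := P) bot_le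
  refine hQP ?_
  haveI := hQ.1.1
  have h1 : π ⟨Q, hQ⟩ (z : W) = π ⟨Q, hQ⟩ (w : W) := congrArg Subtype.val (congrFun h ⟨Q, hQ⟩)
  exact Ideal.Quotient.eq.mp (IsFractionRing.injective (W ⧸ Q) (L ⟨Q, hQ⟩) h1)

end Groth.Agent.Nagata
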