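import Groth.Agent.Nagata.Unramified
import Groth.Agent.Nagata.PowerSeries
import Groth.Agent.Cohen.Completion
import Mathlib.RingTheory.QuasiFinite.Basic
import Mathlib.RingTheory.Polynomial.IntegralNormalization
import Mathlib.FieldTheory.SplittingField.Construction

/-!
# Normalization of monogenic birational algebras over normal Nagata domains
-/

set_option autoImplicit false
set_option linter.style.haveILetI false
set_option synthInstance.maxHeartbeats 400000
universe u

open IsLocalRing
open scoped TensorProduct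

namespace Groth.Agent.Nagata

/-- Finite algebras over Nagata rings are Nagata. -/
theorem isNagata_of_finite {A C : Type u} [CommRing A] [CommRing C] [Algebra A C] [Module.Finite A C]
    (hA : CAlg.IsNagata A) : CAlg.IsNagata C := by
  haveI := hA.1
  refine ⟨IsNoetherianRing.of_finite A C, fun q _ => ?_⟩
  let p := q.comap (algebraMap A C)
  letI : Algebra (A ⧸ p) (C ⧸ q) := Ideal.Quotient.algebraQuotientOfLEComap le_rfl
  haveI : IsScalarTower A (A ⧸ p) (C ⧸ q) := IsScalarTower.of_algebraMap_eq fun _ => rfl
  haveI : Module.Finite (A ⧸ p) (C ⧸ q) := Module.Finite.of_restrictScalars_finite A (A ⧸ p) (C ⧸ q)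
  haveI : FaithfulSMul (A ⧸ p) (C ⧸ q) := (faithfulSMul_iff_algebraMap_injective _ _).mpr <| by
    rw [injective_iff_map_eq_zero]
    intro z hz
    obtain ⟨r, rfl⟩ := Ideal.Quotient.mk_surjective z
    exact Ideal.Quotient.eq_zero_iff_mem.mpr (Ideal.Quotient.eq_zero_iff_mem.mp hz : algebraMap A C r ∈ q)
  exact isN2_of_finite (hA.2 p)

theorem isNagata_quotient_localization {B T : Type u} [CommRing B] [CommRing T] [Algebra B T] (M : Submonoid B)
    [IsLocalization M T] (p' : Ideal T) (h : CAlg.IsNagata (B ⧸ p'.comap (algebraMap B T))) :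
    CAlg.IsNagata (T ⧸ p') := by
  letI : Algebra (B ⧸ p'.comap (algebraMap B T)) (T ⧸ p') := Ideal.Quotient.algebraQuotientOfLEComap le_rfl
  haveI : IsScalarTower B (B ⧸ p'.comap (algebraMap B T)) (T ⧸ p') := IsScalarTower.of_algebraMap_eq fun _ => rfl
  haveI := isLocalization_quotient M p'
  exact isNagata_of_isLocalization h (M.map (Ideal.Quotient.mk (p'.comap (algebraMap B T)))) (T ⧸ p')

/-- The integral closure is finitely generated near `P`. -/
def LocFG (B : Type u) [CommRing B] (L : Type u) [Field L] [Algebra B L] (P : Ideal B) : Prop :=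
  ∃ N : Submodule B L, N.FG ∧ (∀ g ∈ N, IsIntegral B g) ∧ ∀ b : L, IsIntegral B b → ∃ s ∉ P, s • b ∈ N

theorem finite_of_locFG {B L : Type u} [CommRing B] [IsNoetherianRing B] [Field L] [Algebra B L] [FaithfulSMul B L]
    (f : B) (hf0 : f ≠ 0) (hf : ∀ b : L, IsIntegral B b → ∃ (k : ℕ) (r : B), f ^ k • b = algebraMap B L r)
    (h : ∀ (m : Ideal B) [m.IsMaximal], LocFG B L m) : Module.Finite B (integralClosure B L) := by
  classical
  let C := (integralClosure B L).toSubmodule
  have hmain : ∀ (m : Ideal B) [m.IsMaximal], ∃ (N : Submodule B L) (s : B), N.FG ∧ N ≤ C ∧ s ∉ m ∧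
      ∀ b ∈ C, ∃ k : ℕ, s ^ k • b ∈ N := by
    intro m _
    obtain ⟨N₀, hN₀, hint, hloc⟩ := h m
    let N := N₀ ⊔ Submodule.span B {(1 : L)}
    have hN : N.FG := hN₀.sup (Submodule.fg_span (Set.finite_singleton _))
    have hNC : N ≤ C := sup_le hint (Submodule.span_le.mpr (Set.singleton_subset_iff.mpr isIntegral_one))
    let M₁ : Submodule B L := C ⊓ N.comap (DistribSMul.toLinearMap B L f)
    have hM₁ : M₁.FG := by
      haveI : Module.Finite B N := Module.Finite.iff_fg.mpr hN
      haveI : IsNoetherian B N := isNoetherian_of_isNoetherianRing_of_finite B N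
      let g : M₁ →ₗ[B] N := ((DistribSMul.toLinearMap B L f).comp M₁.subtype).codRestrict N fun z => z.2.2
      refine Module.Finite.iff_fg.mp (Module.Finite.of_injective g fun z w hzw => Subtype.ext ?_)
      have h1 : f • (z : L) = f • (w : L) := congrArg Subtype.val hzw
      rw [Algebra.smul_def, Algebra.smul_def] at h1
      exact mul_left_cancel₀ (fun h0 => hf0 (FaithfulSMul.algebraMap_injective B L (h0.trans (map_zero _).symm))) h1
    obtain ⟨G, hG⟩ := hM₁
    have hmemG : ∀ g : G, (g : L) ∈ M₁ := fun g => hG ▸ Submodule.subset_span g.2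
    choose σ hσ hσN using fun g : G => hloc (g : L) (hmemG g).1
    let s := ∏ g : G, σ g
    have hs : s ∉ m := fun hmem => by
      obtain ⟨g, -, hg⟩ := (Ideal.IsPrime.prod_mem_iff (p := m)).mp hmem
      exact hσ g hg
    have hsM : ∀ z ∈ M₁, s • z ∈ N := fun z hz => by
      rw [← hG] at hz
      induction hz using Submodule.span_induction with
      | mem z hz =>
        obtain ⟨c, hc⟩ : σ ⟨z, hz⟩ ∣ s := Finset.dvd_prod_of_mem σ (Finset.mem_univ _)
        rw [hc, mul_comm, mul_smul]
        exact N.smul_mem _ (Submodule.mem_sup_left (hσN ⟨z, hz⟩))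
      | zero => rw [smul_zero]; exact zero_mem _
      | add a b _ _ ha hb => rw [smul_add]; exact add_mem ha hb
      | smul c a _ ha => rw [smul_comm]; exact N.smul_mem _ ha
    have hkey : ∀ (k : ℕ) (b : L), b ∈ C → f ^ k • b ∈ N → s ^ k • b ∈ N := by
      intro k
      induction k with
      | zero => intro b _ hb; simpa using hb
      | succ k ih =>
        intro b hb hfb
        rw [pow_succ, mul_smul]
        refine ih _ (C.smul_mem _ hb) ?_
        rw [smul_comm]
        exact hsM _ ⟨C.smul_mem _ hb, show f • f ^ k • b ∈ N by rwa [← mul_smul, ← pow_succ']⟩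
    refine ⟨N, s, hN, hNC, hs, fun b hb => ?_⟩
    obtain ⟨k, r, hr⟩ := hf b hb
    refine ⟨k, hkey k b hb (Submodule.mem_sup_right (Submodule.mem_span_singleton.mpr ⟨r, ?_⟩))⟩
    rw [hr, Algebra.smul_def, mul_one]
  choose N s hN hNC hs hNs using hmain
  have htop : Ideal.span (Set.range fun m : {m : Ideal B // m.IsMaximal} => @s m.1 m.2) = ⊤ := by
    by_contra hne
    obtain ⟨m, hm, hle⟩ := Ideal.exists_le_maximal _ hne
    exact @hs m hm (hle (Ideal.subset_span ⟨⟨m, hm⟩, rfl⟩))
  obtain ⟨t, ht, htspan⟩ := (Ideal.span_eq_top_iff_finite _).mp htop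
  choose μ hμ using fun r : t => ht r.2
  refine finite_of_cover (fun r : t => (r : B)) (by simpa using htspan) fun r => ?_
  haveI := (μ r).2
  refine ⟨(N (μ r).1).comap C.subtype, ?_, fun z => ?_⟩
  · refine Submodule.fg_of_fg_map_injective C.subtype Subtype.val_injective ?_
    rw [Submodule.map_comap_eq, Submodule.range_subtype, inf_eq_right.mpr (hNC (μ r).1)]
    exact hN (μ r).1
  · obtain ⟨k, hk⟩ := hNs (μ r).1 z.1 z.2
    exact ⟨k, by rw [← hμ r]; exact hk⟩

/-- Denominators can be cleared in integral elements. -/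
theorem exists_pow_mul_isIntegral {S L : Type u} [CommRing S] [Field L] [Algebra S L] (c : L) (hc : IsIntegral S c)
    (P : Polynomial L) (hP : P.Monic) (b : L) (hb : P.eval b = 0) (hcoeff : ∀ i, ∃ k, IsIntegral S (c ^ k * P.coeff i)) :
    ∃ k, IsIntegral S (c ^ k * b) := by
  classical
  choose k hk using hcoeff
  let N := ∑ i ∈ Finset.range (P.natDegree + 1), k i
  refine ⟨N, ?_⟩
  let Q := P.scaleRoots (c ^ N)
  have hQ : ∀ i, Q.coeff i ∈ (algebraMap (integralClosure S L) L).range := by
    intro i
    suffices IsIntegral S (Q.coeff i) from ⟨⟨_, this⟩, rfl⟩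
    rw [Polynomial.coeff_scaleRoots]
    rcases lt_trichotomy i P.natDegree with hlt | heq | hgt
    · have hle : k i ≤ N := Finset.single_le_sum (fun j _ => Nat.zero_le (k j)) (Finset.mem_range.mpr (by omega))
      have : P.coeff i * (c ^ N) ^ (P.natDegree - i) =
          (c ^ k i * P.coeff i) * (c ^ (N - k i) * (c ^ N) ^ (P.natDegree - i - 1)) := by
        have h1 : c ^ N = c ^ k i * c ^ (N - k i) := by rw [← pow_add, Nat.add_sub_cancel' hle]
        have h2 : (c ^ N) ^ (P.natDegree - i) = c ^ N * (c ^ N) ^ (P.natDegree - i - 1) := by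
          rw [← pow_succ']; congr 1; omega
        rw [h2, h1]
        ring
      rw [this]
      exact (hk i).mul ((hc.pow _).mul ((hc.pow _).pow _))
    · subst heq
      rw [Nat.sub_self, pow_zero, mul_one, hP.coeff_natDegree]
      exact isIntegral_one
    · rw [Polynomial.coeff_eq_zero_of_natDegree_lt hgt, zero_mul]
      exact isIntegral_zero
  obtain ⟨Q', hQ', -, hQ'm⟩ := Polynomial.lifts_and_degree_eq_and_monic
    ((Polynomial.lifts_iff_coeff_lifts Q).mpr fun i => hQ i) (Polynomial.monic_scaleRoots_iff (c ^ N) |>.mpr hP)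
  refine isIntegral_trans (A := integralClosure S L) _ ⟨Q', hQ'm, ?_⟩
  rw [← Polynomial.eval_map, hQ']
  exact Polynomial.scaleRoots_eval₂_eq_zero (RingHom.id L) hb

/-- The criterion for a reduced completion. -/
theorem isReduced_completion_of_ass {R : Type u} [CommRing R] [IsLocalRing R] [IsNoetherianRing R] [IsDomain R]
    (x : R) (hx : x ∈ maximalIdeal R) (hx0 : x ≠ 0)
    (h : ∀ p ∈ associatedPrimes R (R ⧸ Ideal.span {x}), (∃ π ∈ p, ∃ s ∉ p, ∀ a ∈ p, π ∣ s * a) ∧
      IsReduced (AdicCompletion (maximalIdeal R) R ⧸ p.map (algebraMap R (AdicCompletion (maximalIdeal R) R)))) :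
    IsReduced (AdicCompletion (maximalIdeal R) R) := by
  haveI := isReduced_tensor_of_ass (R := R) (T := R) x hx (by simpa using hx0) fun p hp => by
    rw [Algebra.algebraMap_self, RingHom.id_apply] at hp
    obtain ⟨h1, h2⟩ := h p hp
    haveI := h2
    exact ⟨h1, isReduced_of_injective
      ((Algebra.TensorProduct.comm R (R ⧸ p) (AdicCompletion (maximalIdeal R) R)).toRingEquiv.trans
        (Algebra.TensorProduct.quotIdealMapEquivTensorQuot (AdicCompletion (maximalIdeal R) R) p).symm.toRingEquiv).toRingHom
      (RingEquiv.injective _)⟩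
  exact isReduced_of_injective (Algebra.TensorProduct.lid R (AdicCompletion (maximalIdeal R) R)).symm.toRingEquiv.toRingHom
    (RingEquiv.injective _)

/-- The local step: `A[x]` at a prime containing `x`. -/
theorem locFG_of_mem {A K : Type u} [CommRing A] [IsDomain A] [IsIntegrallyClosed A] (hA : CAlg.IsNagata A)
    [Field K] [Algebra A K] [IsFractionRing A K] (x : K) (P : Ideal (Algebra.adjoin A ({x} : Set K))) [P.IsPrime]
    (hxP : ⟨x, Algebra.self_mem_adjoin_singleton A x⟩ ∈ P) :
    LocFG (Algebra.adjoin A ({x} : Set K)) K P := by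
  classical
  haveI := hA.1
  let B := Algebra.adjoin A ({x} : Set K)
  haveI : Algebra.FiniteType A B := Algebra.FiniteType.adjoin_of_finite (Set.finite_singleton x)
  haveI : IsNoetherianRing B := Algebra.FiniteType.isNoetherianRing A B
  let xB : B := ⟨x, Algebra.self_mem_adjoin_singleton A x⟩
  haveI : FaithfulSMul B K := (faithfulSMul_iff_algebraMap_injective _ _).mpr Subtype.val_injective
  haveI : IsFractionRing B K := IsFractionRing.of_field B K fun z => by
    obtain ⟨a, b, -, rfl⟩ := IsFractionRing.div_surjective A z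
    exact ⟨algebraMap A B a, algebraMap A B b, rfl⟩
  have hAK : Function.Injective (algebraMap A K) := IsFractionRing.injective A K
  by_cases hx0 : x = 0
  · refine ⟨Submodule.span B {1}, Submodule.fg_span (Set.finite_singleton _), fun g hg => ?_, fun b hb => ?_⟩
    · obtain ⟨r, rfl⟩ := Submodule.mem_span_singleton.mp hg
      exact isIntegral_one.smul r
    · have hle : B ≤ ⊥ := Algebra.adjoin_le (by rintro z rfl; rw [hx0]; exact zero_mem _)
      have hsurj : ∀ y : B, ∃ a : A, algebraMap A K a = (y : K) := fun y => Algebra.mem_bot.mp (hle y.2)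
      haveI : Algebra.IsIntegral A B := ⟨fun y => by
        obtain ⟨a, ha⟩ := hsurj y
        rw [show y = algebraMap A B a from Subtype.ext ha.symm]
        exact isIntegral_algebraMap⟩
      obtain ⟨a, ha⟩ := IsIntegrallyClosed.isIntegral_iff.mp (isIntegral_trans (R := A) b hb)
      refine ⟨1, fun h => (Ideal.IsPrime.ne_top inferInstance) ((Ideal.eq_top_iff_one P).mpr h), ?_⟩
      rw [one_smul, Submodule.mem_span_singleton]
      exact ⟨algebraMap A B a, by rw [Algebra.smul_def, mul_one, ← ha]; rfl⟩
  obtain ⟨u, v, hv, huv⟩ := IsFractionRing.div_surjective A x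
  have hv0 : algebraMap A K v ≠ 0 := fun h => nonZeroDivisors.ne_zero hv (hAK (h.trans (map_zero _).symm))
  have hux : algebraMap A K u = algebraMap A K v * x := by rw [← huv, mul_div_cancel₀ _ hv0]
  have hu0 : u ≠ 0 := fun h => hx0 (by rw [← huv, h, map_zero, zero_div])
  -- `A ∩ x B`
  have hJ : ∀ a : A, algebraMap A B a ∈ Ideal.span {xB} ↔ a * v ∈ Ideal.span {u} := by
    intro a
    rw [Ideal.mem_span_singleton', Ideal.mem_span_singleton']
    constructor
    · rintro ⟨β, hβ⟩
      have hβK : (β : K) * x = algebraMap A K a := congrArg Subtype.val hβ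
      obtain ⟨g, hg⟩ := Algebra.adjoin_mem_exists_aeval A x β.2
      rcases eq_or_ne a 0 with rfl | ha
      · exact ⟨0, by rw [zero_mul, zero_mul]⟩
      have hint : IsIntegral A (β : K) := by
        refine ⟨Polynomial.X ^ (g.natDegree + 1) - ∑ i ∈ Finset.range (g.natDegree + 1),
          Polynomial.C (g.coeff i * a ^ i) * Polynomial.X ^ (g.natDegree - i), ?_, ?_⟩
        · refine Polynomial.monic_X_pow_sub ((Polynomial.degree_sum_le _ _).trans_lt ?_)
          refine (Finset.sup_lt_iff (by exact_mod_cast WithBot.bot_lt_coe _)).mpr fun i _ => ?_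
          refine (Polynomial.degree_C_mul_X_pow_le _ _).trans_lt ?_
          exact_mod_cast Nat.lt_succ_of_le (Nat.sub_le _ _)
        · rw [Polynomial.eval₂_sub, Polynomial.eval₂_finset_sum, Polynomial.eval₂_X_pow, sub_eq_zero]
          have h1 : (β : K) ^ (g.natDegree + 1) = ∑ i ∈ Finset.range (g.natDegree + 1),
              algebraMap A K (g.coeff i) * x ^ i * (β : K) ^ g.natDegree := by
            rw [← Finset.sum_mul, pow_succ', ← hg, Polynomial.aeval_eq_sum_range]
            simp [Algebra.smul_def]
          rw [h1]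
          refine Finset.sum_congr rfl fun i hi => ?_
          rw [Finset.mem_range] at hi
          rw [Polynomial.eval₂_mul, Polynomial.eval₂_C, Polynomial.eval₂_X_pow, map_mul, map_pow, ← hβK, mul_pow]
          rw [show (β : K) ^ g.natDegree = (β : K) ^ i * (β : K) ^ (g.natDegree - i) by
            rw [← pow_add]; congr 1; omega]
          ring
      obtain ⟨w, hw⟩ := IsIntegrallyClosed.isIntegral_iff.mp hint
      exact ⟨w, hAK (by rw [map_mul, map_mul, hw, hux, ← hβK]; ring)⟩
    · rintro ⟨w, hw⟩
      refine ⟨algebraMap A B w, Subtype.ext ?_⟩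
      have h1 := congrArg (algebraMap A K) hw
      rw [map_mul, map_mul, hux] at h1
      show algebraMap A K w * x = algebraMap A K a
      exact mul_left_cancel₀ hv0 (by linear_combination h1)
  -- `A → B / x B` is surjective
  have hdec : ∀ β : B, ∃ (a : A) (γ : B), β = algebraMap A B a + γ * xB := by
    rintro ⟨β, hβ⟩
    obtain ⟨g, rfl⟩ := Algebra.adjoin_mem_exists_aeval A x hβ
    refine ⟨g.coeff 0, Polynomial.aeval xB g.divX, Subtype.ext ?_⟩
    show Polynomial.aeval x g = algebraMap A K (g.coeff 0) + ((Polynomial.aeval xB g.divX : B) : K) * x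
    rw [← Subalgebra.coe_val, ← Polynomial.aeval_algHom_apply]
    conv_lhs => rw [← Polynomial.divX_mul_X_add g]
    simp [xB, add_comm]
  let T := Localization.AtPrime P
  let φ := algebraMap B T
  haveI : IsDomain T := IsLocalization.isDomain_localization P.primeCompl_le_nonZeroDivisors
  have hφ : Function.Injective φ := IsLocalization.injective T P.primeCompl_le_nonZeroDivisors
  have hxB0 : xB ≠ 0 := fun h => hx0 (congrArg Subtype.val h)
  have hxm : φ xB ∈ maximalIdeal T := (IsLocalization.AtPrime.to_map_mem_maximal_iff T P xB).mpr hxP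
  haveI : IsReduced (AdicCompletion (maximalIdeal T) T) := by
    refine isReduced_completion_of_ass (φ xB) hxm
      (fun h => hxB0 (hφ (h.trans (map_zero _).symm))) fun p' hp' => ?_
    obtain ⟨hp'p, w', hw'⟩ := isAssociatedPrime_iff.mp (AssociatedPrimes.mem_iff.mp hp')
    haveI := hp'p
    obtain ⟨w', rfl⟩ := Ideal.Quotient.mk_surjective w'
    obtain ⟨⟨w, σ⟩, hwσ⟩ := IsLocalization.surj P.primeCompl w'
    let pB := p'.comap φ
    have hσu : IsUnit (φ σ) := IsLocalization.map_units T σ
    have hmem : ∀ τ : T, τ ∈ p' ↔ τ * φ w ∈ Ideal.span {φ xB} := fun τ => by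
      rw [hw', Submodule.mem_colon_singleton, Submodule.mem_bot, Algebra.smul_def, Ideal.Quotient.algebraMap_eq,
        ← map_mul, Ideal.Quotient.eq_zero_iff_mem, ← hwσ, ← mul_assoc, Ideal.mul_unit_mem_iff_mem _ hσu]
    have hcl : ∀ β : B, φ β ∈ Ideal.span {φ xB} → ∃ c ∉ P, c * β ∈ Ideal.span {xB} := fun β hβ => by
      rw [← Set.image_singleton, ← Ideal.map_span, IsLocalization.mem_map_algebraMap_iff P.primeCompl] at hβ
      obtain ⟨⟨γ, c⟩, hc⟩ := hβ
      refine ⟨c, c.2, ?_⟩
      rw [← map_mul] at hc
      rw [mul_comm, hφ hc]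
      exact γ.2
    obtain ⟨G, hG⟩ := (IsNoetherian.noetherian pB : pB.FG)
    choose c hc hcmem using fun g : G => hcl ((g : B) * w) (by
      rw [map_mul]
      exact (hmem _).mp (hG ▸ Submodule.subset_span g.2 : (g : B) ∈ pB))
    let w₁ := (∏ g : G, c g) * w
    have hc1 : (∏ g : G, c g) ∉ P := fun h => by
      obtain ⟨g, -, hg⟩ := (Ideal.IsPrime.prod_mem_iff (p := P)).mp h
      exact hc g hg
    have hpB : ∀ β : B, β ∈ pB ↔ β * w₁ ∈ Ideal.span {xB} := fun β => by
      constructor
      · intro hβ
        rw [← hG] at hβ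
        induction hβ using Submodule.span_induction with
        | mem z hz =>
          obtain ⟨d, hd⟩ : c ⟨z, hz⟩ ∣ ∏ g : G, c g := Finset.dvd_prod_of_mem c (Finset.mem_univ _)
          have : z * w₁ = d * (c ⟨z, hz⟩ * (z * w)) := by simp only [w₁, hd]; ring
          rw [this]
          exact Ideal.mul_mem_left _ _ (hcmem ⟨z, hz⟩)
        | zero => rw [zero_mul]; exact zero_mem _
        | add a b _ _ ha hb => rw [add_mul]; exact add_mem ha hb
        | smul r a _ ha => rw [smul_eq_mul, mul_assoc]; exact Ideal.mul_mem_left _ _ ha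
      · intro hβ
        have h1 := Ideal.mem_map_of_mem φ hβ
        rw [Ideal.map_span, Set.image_singleton, map_mul, map_mul, ← mul_assoc, mul_comm (φ β), mul_assoc,
          Ideal.unit_mul_mem_iff_mem _ (IsLocalization.map_units T (⟨_, hc1⟩ : P.primeCompl))] at h1
        exact (hmem _).mpr h1
    haveI : pB.IsPrime := Ideal.IsPrime.comap φ
    let p := pB.comap (algebraMap A B)
    haveI : p.IsPrime := Ideal.IsPrime.comap _
    obtain ⟨a₀, γ₀, hw₁⟩ := hdec w₁
    have hxpB : xB ∈ pB := (hmem _).mpr (Ideal.mul_mem_right _ _ (Ideal.mem_span_singleton_self _))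
    have hJp : ∀ a : A, a ∈ p ↔ a * (a₀ * v) ∈ Ideal.span {u} := fun a => by
      show algebraMap A B a ∈ pB ↔ _
      rw [hpB, hw₁, mul_add, ← map_mul, ← mul_assoc,
        Ideal.add_mem_iff_left _ (Ideal.mul_mem_left _ _ (Ideal.mem_span_singleton_self xB)), hJ, mul_assoc]
    have hpass : p ∈ associatedPrimes A (A ⧸ Ideal.span {u}) := AssociatedPrimes.mem_iff.mpr
      (isAssociatedPrime_iff.mpr ⟨inferInstance, Ideal.Quotient.mk _ (a₀ * v), Ideal.ext fun a => by
        rw [Submodule.mem_colon_singleton, Submodule.mem_bot, Algebra.smul_def, Ideal.Quotient.algebraMap_eq,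
          ← map_mul, Ideal.Quotient.eq_zero_iff_mem, hJp]⟩)
    obtain ⟨π, hπ, s, hs, hdiv⟩ := exists_uniformizer u hu0 hpass
    have hJsub : ∀ a : A, algebraMap A B a ∈ Ideal.span {xB} → a ∈ p := fun a ha =>
      (Ideal.span_singleton_le_iff_mem pB).mpr hxpB ha
    -- some `t ∉ p` has `t x ∈ A`
    obtain ⟨t, ht, a₁, ha₁⟩ : ∃ t ∉ p, ∃ a₁ : A, algebraMap A K t * x = algebraMap A K a₁ := by
      have hπ0 : π ≠ 0 := fun h => by
        have hup : u ∈ p := CMSop.le_of_mem_associatedPrimes_quotient hpass (Ideal.mem_span_singleton_self u)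
        obtain ⟨y, hy⟩ := hdiv u hup
        rw [h, zero_mul, mul_eq_zero] at hy
        exact hy.elim (fun h0 => hs (h0 ▸ zero_mem p)) hu0
      have hstr : ∀ z : A, z ≠ 0 → ∃ n z', z' ∉ p ∧ s ^ n * z = π ^ n * z' := by
        intro z hz
        by_contra hcon
        push Not at hcon
        have hall : ∀ n, ∃ z' ∈ p, s ^ n * z = π ^ n * z' := by
          intro n
          induction n with
          | zero => exact ⟨z, by_contra fun h' => hcon 0 z h' (by ring), by ring⟩
          | succ n ih =>
            obtain ⟨z', hz', he⟩ := ih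
            obtain ⟨z'', hz''⟩ := hdiv z' hz'
            have he' : s ^ (n + 1) * z = π ^ (n + 1) * z'' := by
              rw [pow_succ', mul_assoc, he, mul_left_comm, hz'', pow_succ]
              ring
            exact ⟨z'', by_contra fun h' => hcon (n + 1) z'' h' he', he'⟩
        let Ap := Localization.AtPrime p
        have hz0 : algebraMap A Ap z = 0 := by
          have hin : algebraMap A Ap z ∈ (⨅ n : ℕ, maximalIdeal Ap ^ n) := by
            rw [Submodule.mem_iInf]
            intro n
            obtain ⟨z', -, he⟩ := hall n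
            rw [← Ideal.unit_mul_mem_iff_mem _ (IsLocalization.map_units Ap (⟨s ^ n, p.primeCompl.pow_mem hs n⟩ : p.primeCompl))]
            show algebraMap A Ap (s ^ n) * _ ∈ _
            rw [← map_mul, he, map_mul, map_pow]
            exact Ideal.mul_mem_right _ _ (Ideal.pow_mem_pow ((IsLocalization.AtPrime.to_map_mem_maximal_iff Ap p π).mpr hπ) n)
          rwa [Ideal.iInf_pow_eq_bot_of_isLocalRing _ (maximalIdeal.isMaximal Ap).ne_top, Ideal.mem_bot] at hin
        exact hz (IsLocalization.injective Ap p.primeCompl_le_nonZeroDivisors (hz0.trans (map_zero _).symm))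
      obtain ⟨n, u', hu', hun⟩ := hstr u hu0
      obtain ⟨k, v', hv', hvk⟩ := hstr v (nonZeroDivisors.ne_zero hv)
      have hs0 : algebraMap A K s ≠ 0 := fun h => hs (hAK (h.trans (map_zero _).symm) ▸ zero_mem p)
      have hπK : algebraMap A K π ≠ 0 := fun h => hπ0 (hAK (h.trans (map_zero _).symm))
      have hun' := congrArg (algebraMap A K) hun
      have hvk' := congrArg (algebraMap A K) hvk
      simp only [map_mul, map_pow] at hun' hvk'
      have hrel : algebraMap A K s ^ n * algebraMap A K π ^ k * algebraMap A K v' * x =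
          algebraMap A K s ^ k * algebraMap A K π ^ n * algebraMap A K u' := by
        linear_combination algebraMap A K s ^ k * hun' - algebraMap A K s ^ n * x * hvk' -
          algebraMap A K s ^ k * algebraMap A K s ^ n * hux
      rcases le_or_gt k n with hkn | hnk
      · refine ⟨s ^ n * v', fun h => ((inferInstance : p.IsPrime).mem_or_mem h).elim
          (fun h' => hs ((inferInstance : p.IsPrime).mem_of_pow_mem n h')) hv',
          s ^ k * π ^ (n - k) * u', mul_left_cancel₀ (pow_ne_zero k hπK) ?_⟩
        have hsplit : algebraMap A K π ^ n = algebraMap A K π ^ k * algebraMap A K π ^ (n - k) := by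
          rw [← pow_add, Nat.add_sub_cancel' hkn]
        simp only [map_mul, map_pow]
        rw [hsplit] at hrel
        linear_combination hrel
      · exfalso
        refine ((inferInstance : p.IsPrime).mem_or_mem (hJsub (s ^ k * u')
          (Ideal.mem_span_singleton'.mpr ⟨algebraMap A B (s ^ n * π ^ (k - n) * v'), Subtype.ext
            (mul_left_cancel₀ (pow_ne_zero n hπK) ?_)⟩))).elim
          (fun h' => hs ((inferInstance : p.IsPrime).mem_of_pow_mem k h')) hu'
        have hsplit : algebraMap A K π ^ k = algebraMap A K π ^ n * algebraMap A K π ^ (k - n) := by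
          rw [← pow_add, Nat.add_sub_cancel' hnk.le]
        show _ * (algebraMap A K (s ^ n * π ^ (k - n) * v') * x) = _ * algebraMap A K (s ^ k * u')
        simp only [map_mul, map_pow]
        rw [hsplit] at hrel
        linear_combination hrel
    have ha₁p : a₁ ∈ p := hJsub a₁ (Ideal.mem_span_singleton'.mpr ⟨algebraMap A B t, Subtype.ext ha₁⟩)
    have hdivB : ∀ β ∈ pB, algebraMap A B π ∣ algebraMap A B (s * t) * β := fun β hβ => by
      obtain ⟨a, γ, rfl⟩ := hdec β
      have hap : a ∈ p := (Ideal.add_mem_iff_left pB (Ideal.mul_mem_left _ γ hxpB)).mp hβ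
      obtain ⟨y, hy⟩ := hdiv a hap
      obtain ⟨y₁, hy₁⟩ := hdiv a₁ ha₁p
      refine ⟨algebraMap A B (t * y) + γ * algebraMap A B y₁, ?_⟩
      have h1 : algebraMap A B t * xB = algebraMap A B a₁ := Subtype.ext ha₁
      have h2 := congrArg (algebraMap A B) hy
      have h3 := congrArg (algebraMap A B) hy₁
      simp only [map_mul] at h2 h3 ⊢
      linear_combination algebraMap A B t * h2 + γ * h3 + algebraMap A B s * γ * h1
    refine ⟨⟨φ (algebraMap A B π), hπ, φ (algebraMap A B (s * t)), fun h => ?_, fun τ hτ => ?_⟩, ?_⟩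
    · exact ((inferInstance : p.IsPrime).mem_or_mem (h : s * t ∈ p)).elim hs ht
    · obtain ⟨⟨β, σ'⟩, hβ⟩ := IsLocalization.surj P.primeCompl τ
      have hβp : β ∈ pB := show φ β ∈ p' from hβ ▸ Ideal.mul_mem_right _ _ hτ
      rw [← (IsLocalization.map_units T σ').dvd_mul_right, mul_assoc, hβ, ← map_mul]
      exact map_dvd φ (hdivB β hβp)
    · let Q := T ⧸ p'
      haveI : Nontrivial Q := Ideal.Quotient.nontrivial_iff.mpr (Ideal.IsPrime.ne_top inferInstance)
      have hQ : CAlg.IsNagata Q := by
        refine isNagata_quotient_localization P.primeCompl p' (isNagata_of_surjective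
          ((Ideal.Quotient.mk pB).comp (algebraMap A B)) (fun z => ?_) hA)
        obtain ⟨β, rfl⟩ := Ideal.Quotient.mk_surjective z
        obtain ⟨a, γ, rfl⟩ := hdec β
        exact ⟨a, Ideal.Quotient.eq.mpr (by
          rw [sub_add_cancel_left]
          exact neg_mem (Ideal.mul_mem_left _ _ hxpB))⟩
      haveI := isReduced_completion hQ
      obtain ⟨E⟩ := Cohen.exists_quotient_equiv (Ideal.Quotient.mk p') Ideal.Quotient.mk_surjective
      have hker : (RingHom.ker (Ideal.Quotient.mk p')).map (algebraMap T (AdicCompletion (maximalIdeal T) T)) =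
          p'.map (algebraMap T (AdicCompletion (maximalIdeal T) T)) := by rw [Ideal.mk_ker]
      let e := (Ideal.quotEquivOfEq hker.symm).trans E
      exact isReduced_of_injective e.toRingHom e.injective
  letI : Algebra T K := (IsLocalization.lift (M := P.primeCompl) (g := algebraMap B K) (S := T) fun σ =>
    isUnit_iff_ne_zero.mpr fun h => σ.2 ((FaithfulSMul.algebraMap_injective B K (h.trans (map_zero _).symm)) ▸ zero_mem P)).toAlgebra
  haveI : IsScalarTower B T K := IsScalarTower.of_algebraMap_eq fun β => (IsLocalization.lift_eq _ β).symm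
  haveI : IsFractionRing T K := IsFractionRing.isFractionRing_of_isDomain_of_isLocalization P.primeCompl T K
  haveI := finite_closure_of_reduced (R := T) inferInstance (isNagata_of_complete _) K
  obtain ⟨G, hG⟩ := (Module.Finite.fg_top : (⊤ : Submodule T (integralClosure T K)).FG)
  choose mg hmg using fun g : G => IsIntegral.exists_multiple_integral_of_isLocalization P.primeCompl ((g : integralClosure T K) : K) (g : integralClosure T K).2
  refine ⟨Submodule.span B (Set.range fun g : G => mg g • ((g : integralClosure T K) : K)),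
    Submodule.fg_span (Set.finite_range _), fun z hz => ?_, fun b hb => ?_⟩
  · induction hz using Submodule.span_induction with
    | mem z hz => obtain ⟨g, rfl⟩ := hz; exact hmg g
    | zero => exact isIntegral_zero
    | add a b _ _ ha hb => exact ha.add hb
    | smul r a _ ha => exact ha.smul r
  · have hbT : (⟨b, hb.tower_top⟩ : integralClosure T K) ∈ Submodule.span T (G : Set (integralClosure T K)) := hG ▸ trivial
    obtain ⟨τ, -, hτ⟩ := Submodule.mem_span_finset.mp hbT
    obtain ⟨D, hD⟩ := IsLocalization.exist_integer_multiples P.primeCompl Finset.univ fun g : G => τ g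
    choose d hd using fun g : G => hD g (Finset.mem_univ g)
    refine ⟨(D : B) * ∏ g : G, (mg g : B), fun h => ?_, ?_⟩
    · rcases (inferInstance : P.IsPrime).mem_or_mem h with h | h
      · exact D.2 h
      · obtain ⟨g, -, hg⟩ := (Ideal.IsPrime.prod_mem_iff (p := P)).mp h
        exact (mg g).2 hg
    · have hb' : b = ∑ g : G, algebraMap T K (τ g) * ((g : integralClosure T K) : K) := by
        have := congrArg Subtype.val hτ
        rw [AddSubmonoidClass.coe_finsetSum, ← Finset.sum_coe_sort] at this
        refine this.symm.trans (Finset.sum_congr rfl fun g _ => ?_)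
        rw [SetLike.val_smul, Algebra.smul_def]
      rw [hb', Finset.smul_sum]
      refine sum_mem fun g _ => ?_
      obtain ⟨e, he⟩ : (mg g : B) ∣ ∏ g : G, (mg g : B) := Finset.dvd_prod_of_mem (fun g : G => (mg g : B)) (Finset.mem_univ g)
      have h1 : ((D : B) * ∏ g : G, (mg g : B)) • (algebraMap T K (τ g) * ((g : integralClosure T K) : K)) =
          (d g * e) • (mg g • ((g : integralClosure T K) : K)) := by
        have h2 := congrArg (algebraMap T K) (hd g)
        rw [Algebra.smul_def, map_mul, ← IsScalarTower.algebraMap_apply, ← IsScalarTower.algebraMap_apply] at h2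
        simp only [Algebra.smul_def, he, map_mul, Submonoid.smul_def]
        linear_combination -(algebraMap B K (mg g : B) * algebraMap B K e * ((g : integralClosure T K) : K)) * h2
      rw [h1]
      exact Submodule.smul_mem _ _ (Submodule.subset_span ⟨g, rfl⟩)

/-- A trimmed algebraic relation modulo a maximal ideal of a monogenic algebra. -/
theorem exists_relation {A B : Type u} [CommRing A] [CommRing B] [Algebra A B] (x : B)
    (hgen : ∀ b : B, ∃ g : Polynomial A, Polynomial.aeval x g = b) (P : Ideal B) [P.IsMaximal] :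
    ∃ g : Polynomial A, 1 ≤ g.natDegree ∧ algebraMap A B g.leadingCoeff ∉ P ∧ Polynomial.aeval x g ∈ P := by
  classical
  by_cases hx : x ∈ P
  · haveI : Nontrivial A := by
      by_contra h
      rw [not_nontrivial_iff_subsingleton] at h
      have : (1 : B) = 0 := by rw [← map_one (algebraMap A B), Subsingleton.elim (1 : A) 0, map_zero]
      exact (inferInstance : P.IsPrime).ne_top ((Ideal.eq_top_iff_one _).mpr (this ▸ zero_mem P))
    refine ⟨Polynomial.X, by rw [Polynomial.natDegree_X], ?_, by rwa [Polynomial.aeval_X]⟩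
    rw [Polynomial.leadingCoeff_X, map_one]
    exact fun h => (inferInstance : P.IsPrime).ne_top ((Ideal.eq_top_iff_one _).mpr h)
  obtain ⟨y, hy⟩ := (inferInstance : P.IsMaximal).exists_inv hx
  obtain ⟨q, rfl⟩ := hgen y
  obtain ⟨i₀, hi₀, hsum⟩ := hy
  let g₀ : Polynomial A := q * Polynomial.X - 1
  have hg₀ : Polynomial.aeval x g₀ ∈ P := by
    rw [map_sub, map_mul, Polynomial.aeval_X, map_one]
    have := neg_mem hi₀
    rw [show -i₀ = Polynomial.aeval x q * x - 1 by linear_combination -hsum] at this
    exact this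
  let S := g₀.support.filter fun i => algebraMap A B (g₀.coeff i) ∉ P
  have hone : algebraMap A B (g₀.coeff 0) ∉ P := by
    simp [g₀, (inferInstance : P.IsPrime).ne_top, Ideal.eq_top_iff_one P |>.not.mp (inferInstance : P.IsPrime).ne_top]
  have hS : S.Nonempty := ⟨0, Finset.mem_filter.mpr ⟨Polynomial.mem_support_iff.mpr fun h => hone (by rw [h, map_zero]; exact zero_mem P), hone⟩⟩
  let g : Polynomial A := ∑ i ∈ S, Polynomial.monomial i (g₀.coeff i)
  have hgc : ∀ i, g.coeff i = if i ∈ S then g₀.coeff i else 0 := fun i => by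
    rw [Polynomial.finset_sum_coeff]
    simp [Polynomial.coeff_monomial]
  let d := S.max' hS
  have hd : algebraMap A B (g.coeff d) ∉ P := by
    rw [hgc, if_pos (S.max'_mem hS)]
    exact (Finset.mem_filter.mp (S.max'_mem hS)).2
  have hdeg : g.natDegree = d := le_antisymm (Polynomial.natDegree_le_iff_coeff_eq_zero.mpr fun N hN => by
    rw [hgc, if_neg fun h => not_le.mpr hN (S.le_max' N h)]) (Polynomial.le_natDegree_of_ne_zero fun h => hd (by rw [h, map_zero]; exact zero_mem P))
  have haev : Polynomial.aeval x g ∈ P := by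
    have hdiff : Polynomial.aeval x (g₀ - g) ∈ P := by
      rw [Polynomial.aeval_eq_sum_range]
      refine sum_mem fun i _ => ?_
      rw [Algebra.smul_def, Polynomial.coeff_sub, hgc]
      refine Ideal.mul_mem_right _ _ ?_
      by_cases hi : i ∈ S
      · rw [if_pos hi, sub_self, map_zero]; exact zero_mem P
      · rw [if_neg hi, sub_zero]
        by_contra hni
        exact hi (Finset.mem_filter.mpr ⟨Polynomial.mem_support_iff.mpr fun h => hni (by rw [h, map_zero]; exact zero_mem P), hni⟩)
    rw [map_sub] at hdiff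
    have := sub_mem hg₀ hdiff
    rwa [sub_sub_cancel] at this
  refine ⟨g, Nat.one_le_iff_ne_zero.mpr fun h0 => ?_, by rwa [Polynomial.leadingCoeff, hdeg], haev⟩
  rw [Polynomial.eq_C_of_natDegree_eq_zero h0, Polynomial.aeval_C] at haev
  rw [hdeg] at h0
  exact hd (h0 ▸ haev)

/-- **The key step of Nagata's theorem.** -/
theorem finite_closure_adjoin {A K : Type u} [CommRing A] [IsDomain A] [IsIntegrallyClosed A] (hA : CAlg.IsNagata A)
    [Field K] [Algebra A K] [IsFractionRing A K] (x : K) :
    Module.Finite (Algebra.adjoin A ({x} : Set K)) (integralClosure (Algebra.adjoin A ({x} : Set K)) K) := by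
  classical
  haveI := hA.1
  let B := Algebra.adjoin A ({x} : Set K)
  haveI : Algebra.FiniteType A B := Algebra.FiniteType.adjoin_of_finite (Set.finite_singleton x)
  haveI : IsNoetherianRing B := Algebra.FiniteType.isNoetherianRing A B
  haveI : FaithfulSMul B K := (faithfulSMul_iff_algebraMap_injective _ _).mpr Subtype.val_injective
  have hAK : Function.Injective (algebraMap A K) := IsFractionRing.injective A K
  let xB : B := ⟨x, Algebra.self_mem_adjoin_singleton A x⟩
  have hgen : ∀ b : B, ∃ g : Polynomial A, Polynomial.aeval xB g = b := fun b => by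
    obtain ⟨g, hg⟩ := Algebra.adjoin_mem_exists_aeval A x b.2
    exact ⟨g, Subtype.ext (by rw [← hg, ← Subalgebra.coe_val, ← Polynomial.aeval_algHom_apply]; rfl)⟩
  obtain ⟨u, v, hv, huv⟩ := IsFractionRing.div_surjective A x
  have hv0 : algebraMap A K v ≠ 0 := fun h => nonZeroDivisors.ne_zero hv (hAK (h.trans (map_zero _).symm))
  have hclear : ∀ β : B, ∃ k : ℕ, IsIntegral A (algebraMap A K v ^ k * (β : K)) := fun β => by
    obtain ⟨g, hg⟩ := hgen β
    refine ⟨g.natDegree, ?_⟩
    rw [← hg, ← Subalgebra.coe_val, ← Polynomial.aeval_algHom_apply, Polynomial.aeval_eq_sum_range, Finset.mul_sum]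
    refine IsIntegral.sum _ fun i hi => ?_
    rw [Finset.mem_range] at hi
    have : algebraMap A K v ^ g.natDegree * (g.coeff i • B.val xB ^ i) =
        algebraMap A K (g.coeff i * u ^ i * v ^ (g.natDegree - i)) := by
      rw [Algebra.smul_def, map_mul, map_mul, map_pow, map_pow]
      show _ * (_ * x ^ i) = _
      rw [← huv, div_pow, show algebraMap A K v ^ g.natDegree = algebraMap A K v ^ i * algebraMap A K v ^ (g.natDegree - i) by
        rw [← pow_add]; congr 1; omega]
      field_simp
    rw [this]
    exact isIntegral_algebraMap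
  refine finite_of_locFG (algebraMap A B v) (fun h => hv0 (congrArg Subtype.val h)) (fun b hb => ?_) fun P _ => ?_
  · obtain ⟨Q, hQ, hQb⟩ := hb
    obtain ⟨k, hk⟩ := exists_pow_mul_isIntegral (algebraMap A K v) isIntegral_algebraMap (Q.map (algebraMap B K))
      (hQ.map _) b (by rw [Polynomial.eval_map]; exact hQb) (fun i => by
        rw [Polynomial.coeff_map]; exact hclear (Q.coeff i))
    obtain ⟨r, hr⟩ := IsIntegrallyClosed.isIntegral_iff.mp hk
    exact ⟨k, algebraMap A B r, by rw [Algebra.smul_def, map_pow]; exact hr.symm⟩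
  obtain ⟨g, hgd, hgc, hgP⟩ := exists_relation xB hgen P
  let c := g.leadingCoeff
  have hg0 : g ≠ 0 := fun h => by rw [h, Polynomial.natDegree_zero] at hgd; omega
  let h := g.integralNormalization
  have hhm : h.Monic := Polynomial.monic_integralNormalization hg0
  have hhP : Polynomial.eval₂ (algebraMap A B) (algebraMap A B c * xB) h ∈ P := by
    rw [Polynomial.integralNormalization_eval₂_leadingCoeff_mul hgd]
    exact Ideal.mul_mem_left _ _ hgP
  let L := (h.map (algebraMap A K)).SplittingField
  haveI : IsScalarTower A K L := inferInstance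
  let A2 := integralClosure A L
  haveI : Module.Finite A A2 := finite_closure_of_frac (isN2_of_isNagata hA) K L
  haveI : IsFractionRing A2 L := integralClosure.isFractionRing_of_finite_extension K L
  haveI : IsIntegrallyClosed A2 := integralClosure.isIntegrallyClosedOfFiniteExtension K
  have hA2 : CAlg.IsNagata A2 := isNagata_of_finite hA
  let xL : L := algebraMap K L x
  let B2 := Algebra.adjoin A2 ({xL} : Set L)
  have hBmem : ∀ β : B, algebraMap K L (β : K) ∈ B2 := fun β => by
    have hle : B.map (IsScalarTower.toAlgHom A K L) ≤ B2.restrictScalars A := by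
      show (Algebra.adjoin A ({x} : Set K)).map _ ≤ _
      rw [AlgHom.map_adjoin, Algebra.adjoin_le_iff]
      rintro _ ⟨_, rfl, rfl⟩
      exact Algebra.self_mem_adjoin_singleton A2 xL
    exact hle ⟨_, β.2, rfl⟩
  let j : B →+* B2 := ((algebraMap K L).comp B.val.toRingHom).codRestrict B2.toSubring hBmem
  letI : Algebra B B2 := j.toAlgebra
  haveI : IsScalarTower B B2 L := IsScalarTower.of_algebraMap_eq fun β => by
    rw [IsScalarTower.algebraMap_apply B K L]
    rfl
  haveI : IsScalarTower A B B2 := IsScalarTower.of_algebraMap_eq fun a => Subtype.ext (by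
    show algebraMap A L a = algebraMap K L (algebraMap A K a)
    rw [← IsScalarTower.algebraMap_apply])
  haveI : Algebra.FiniteType A2 B2 := Algebra.FiniteType.adjoin_of_finite (Set.finite_singleton xL)
  haveI : IsNoetherianRing A2 := hA2.1
  haveI : Module.Finite B B2 := by
    let θ : B ⊗[A] A2 →ₐ[B] B2 := Algebra.TensorProduct.lift (Algebra.ofId B B2)
      (IsScalarTower.toAlgHom A A2 B2) fun _ _ => Commute.all _ _
    refine Module.Finite.of_surjective θ.toLinearMap fun z => ?_
    suffices hz : z ∈ θ.range.toSubring from hz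
    obtain ⟨z, hz⟩ := z
    induction hz using Algebra.adjoin_induction with
    | mem w hw =>
      obtain rfl : w = xL := hw
      exact ⟨xB ⊗ₜ[A] 1, by simp [θ]; exact Subtype.ext rfl⟩
    | algebraMap a => exact ⟨1 ⊗ₜ[A] a, by simp [θ]; exact Subtype.ext rfl⟩
    | add y w hy hw ihy ihw =>
      exact (show (⟨y, hy⟩ + ⟨w, hw⟩ : B2) ∈ θ.range.toSubring from add_mem ihy ihw)
    | mul y w hy hw ihy ihw =>
      exact (show (⟨y, hy⟩ * ⟨w, hw⟩ : B2) ∈ θ.range.toSubring from mul_mem ihy ihw)
  haveI : IsNoetherianRing B2 := IsNoetherianRing.of_finite B B2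
  haveI : Algebra.IsIntegral B B2 := Algebra.IsIntegral.of_finite B B2
  -- the primes over `P`
  have hP2 : ∀ (P2 : Ideal B2), P2.IsPrime → P2.comap (algebraMap B B2) = P → LocFG B2 L P2 := by
    intro P2 hP2 hcomap
    haveI := hP2
    have hsplit : ((h.map (algebraMap A L))).Splits := by
      have := Polynomial.SplittingField.splits (h.map (algebraMap A K))
      rwa [Polynomial.map_map, ← IsScalarTower.algebraMap_eq] at this
    let cx : L := algebraMap A L c * xL
    have hroots : ∀ r ∈ (h.map (algebraMap A L)).roots, IsIntegral A r := fun r hr => by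
      refine ⟨h, hhm, ?_⟩
      rw [← Polynomial.eval_map]
      exact (Polynomial.mem_roots (hhm.map _).ne_zero).mp hr
    let ρ : {r // r ∈ (h.map (algebraMap A L)).roots} → B2 := fun r =>
      ⟨cx, B2.mul_mem (B2.algebraMap_mem (algebraMap A A2 c)) (Algebra.self_mem_adjoin_singleton A2 xL)⟩ -
        algebraMap A2 B2 ⟨r.1, hroots r.1 r.2⟩
    have hprod : ((h.map (algebraMap A L)).roots.attach.map ρ).prod ∈ P2 := by
      have h1 : algebraMap B B2 (Polynomial.eval₂ (algebraMap A B) (algebraMap A B c * xB) h) ∈ P2 := by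
        rw [← Ideal.mem_comap, hcomap]; exact hhP
      suffices he : ((h.map (algebraMap A L)).roots.attach.map ρ).prod =
          algebraMap B B2 (Polynomial.eval₂ (algebraMap A B) (algebraMap A B c * xB) h) by rwa [he]
      refine Subtype.ext ?_
      show B2.val _ = _
      rw [map_multiset_prod, Multiset.map_map]
      have h2 := hsplit.eval_eq_prod_roots_of_monic (hhm.map (algebraMap A L)) cx
      rw [show (B2.val ∘ ρ) = (fun r => cx - r) ∘ Subtype.val from rfl, ← Multiset.map_map, Multiset.attach_map_val, ← h2,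
        Polynomial.eval_map]
      show _ = algebraMap K L (B.val (Polynomial.eval₂ (algebraMap A B) (algebraMap A B c * xB) h))
      rw [show B.val (Polynomial.eval₂ (algebraMap A B) (algebraMap A B c * xB) h) =
        B.val.toRingHom (Polynomial.eval₂ (algebraMap A B) (algebraMap A B c * xB) h) from rfl,
        Polynomial.hom_eval₂, Polynomial.hom_eval₂]
      rw [show ((algebraMap K L).comp (B.val.toRingHom.comp (algebraMap A B))) = algebraMap A L from RingHom.ext fun a => by
        show algebraMap K L (algebraMap A K a) = _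
        rw [← IsScalarTower.algebraMap_apply]]
      congr 1
      show _ = algebraMap K L (algebraMap A K c * x)
      rw [map_mul, ← IsScalarTower.algebraMap_apply]
    obtain ⟨r, hr, hrP⟩ : ∃ r, r ∈ (h.map (algebraMap A L)).roots.attach ∧ ρ r ∈ P2 := by
      obtain ⟨z, hz, hzP⟩ := (hP2.multiset_prod_mem_iff_exists_mem _).mp hprod
      obtain ⟨r, hr, rfl⟩ := Multiset.mem_map.mp hz
      exact ⟨r, hr, hzP⟩
    let x' : L := (ρ r : L)
    let B' := Algebra.adjoin A2 ({x'} : Set L)
    have hB'le : B' ≤ B2 := Algebra.adjoin_le (Set.singleton_subset_iff.mpr (ρ r).2)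
    let P' : Ideal B' := P2.comap (Subalgebra.inclusion hB'le).toRingHom
    obtain ⟨N', hN', hN'int, hN'loc⟩ := locFG_of_mem hA2 x' P' (show ρ r ∈ P2 from hrP)
    letI : Algebra B' B2 := (Subalgebra.inclusion hB'le).toRingHom.toAlgebra
    haveI : IsScalarTower B' B2 L := IsScalarTower.of_algebraMap_eq fun _ => rfl
    let cB : B' := algebraMap A2 B' (algebraMap A A2 c)
    have hc2 : algebraMap B' B2 cB ∉ P2 := fun hmem => hgc (by
      rw [← hcomap, Ideal.mem_comap]
      convert hmem using 1
      exact Subtype.ext (show algebraMap K L (algebraMap A K c) = algebraMap A L c by rw [← IsScalarTower.algebraMap_apply]))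
    obtain ⟨G', hG'⟩ := hN'
    refine ⟨Submodule.span B2 (N' : Set L), ⟨G', ?_⟩, fun z hz => ?_, fun b hb => ?_⟩
    · rw [← hG', Submodule.span_span_of_tower]
    · induction hz using Submodule.span_induction with
      | mem z hz => exact (hN'int z hz).tower_top
      | zero => exact isIntegral_zero
      | add a b _ _ ha hb => exact ha.add hb
      | smul t a _ ha => exact ha.smul t
    obtain ⟨Q, hQ, hQb⟩ := hb
    have hclear' : ∀ β : B2, ∃ k : ℕ, IsIntegral B' (algebraMap B' L cB ^ k * (β : L)) := by
      rintro ⟨β, hβ⟩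
      induction hβ using Algebra.adjoin_induction with
      | mem w hw =>
        obtain rfl : w = xL := hw
        refine ⟨1, ?_⟩
        rw [pow_one]
        have h3 : algebraMap B' L cB * xL = x' + algebraMap A2 L ⟨r.1, hroots r.1 r.2⟩ := by
          show algebraMap A L c * xL = (cx - r.1) + r.1
          rw [sub_add_cancel]
        rw [h3]
        exact (isIntegral_algebraMap (x := (⟨x', Algebra.self_mem_adjoin_singleton A2 x'⟩ : B'))).add
          (isIntegral_algebraMap (x := algebraMap A2 B' ⟨r.1, hroots r.1 r.2⟩))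
      | algebraMap a =>
        exact ⟨0, by rw [pow_zero, one_mul]; exact isIntegral_algebraMap (x := algebraMap A2 B' a)⟩
      | add y w _ _ hy hw =>
        obtain ⟨k₁, h₁⟩ := hy
        obtain ⟨k₂, h₂⟩ := hw
        refine ⟨k₁ + k₂, ?_⟩
        show IsIntegral B' (_ * (y + w))
        rw [mul_add, pow_add, mul_assoc _ _ w, mul_comm (_ ^ k₁) (_ ^ k₂), mul_assoc _ _ y]
        exact ((isIntegral_algebraMap.pow k₂).mul h₁).add ((isIntegral_algebraMap.pow k₁).mul h₂)
      | mul y w _ _ hy hw =>
        obtain ⟨k₁, h₁⟩ := hy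
        obtain ⟨k₂, h₂⟩ := hw
        refine ⟨k₁ + k₂, ?_⟩
        show IsIntegral B' (_ * (y * w))
        have := h₁.mul h₂
        rwa [mul_mul_mul_comm, ← pow_add] at this
    obtain ⟨k, hk⟩ := exists_pow_mul_isIntegral (algebraMap B' L cB) isIntegral_algebraMap (Q.map (algebraMap B2 L))
      (hQ.map _) b (by rw [Polynomial.eval_map]; exact hQb) (fun i => by
        rw [Polynomial.coeff_map]; exact hclear' (Q.coeff i))
    obtain ⟨s, hs, hsb⟩ := hN'loc _ hk
    refine ⟨algebraMap B' B2 (s * cB ^ k), fun hmem => ?_, ?_⟩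
    · rw [map_mul, map_pow] at hmem
      exact (hP2.mem_or_mem hmem).elim hs fun h' => hc2 (hP2.mem_of_pow_mem k h')
    · rw [IsScalarTower.algebraMap_smul, mul_smul, Algebra.smul_def (cB ^ k) b, map_pow]
      exact Submodule.subset_span hsb
  haveI : Algebra.QuasiFinite B B2 := inferInstance
  haveI : Finite (P.primesOver B2) := (Algebra.QuasiFinite.finite_primesOver P).to_subtype
  choose N hN hNint hNloc using fun Q : P.primesOver B2 => hP2 Q.1 Q.2.1 Q.2.2.over.symm
  let N2 : Submodule B2 L := ⨆ Q, N Q
  have hN2 : N2.FG := Submodule.fg_iSup N hN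
  have hN2int : ∀ z ∈ N2, IsIntegral B2 z := fun z hz =>
    (iSup_le hNint : N2 ≤ (integralClosure B2 L).toSubmodule) hz
  haveI : Module.Finite B2 N2 := Module.Finite.iff_fg.mpr hN2
  haveI : Module.Finite B N2 := Module.Finite.trans B2 N2
  let φK : K →ₗ[B] L := (IsScalarTower.toAlgHom B K L).toLinearMap
  refine ⟨(N2.restrictScalars B).comap φK, ?_, fun z hz => ?_, fun b hb => ?_⟩
  · haveI : Module.Finite B (N2.restrictScalars B) := inferInstanceAs (Module.Finite B N2)
    haveI : IsNoetherian B (N2.restrictScalars B) := isNoetherian_of_isNoetherianRing_of_finite B _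
    refine Submodule.fg_of_fg_map_injective φK (algebraMap K L).injective ?_
    exact Submodule.FG.of_le (Module.Finite.iff_fg.mp inferInstance) (Submodule.map_comap_le _ _)
  · exact (isIntegral_algHom_iff (IsScalarTower.toAlgHom B K L) (algebraMap K L).injective).mp
      (isIntegral_trans (R := B) _ (hN2int _ hz))
  · let I : Ideal B2 := ((N2 : Submodule B2 L).colon {φK b})
    have hbL : IsIntegral B2 (φK b) := (hb.map (IsScalarTower.toAlgHom B K L)).tower_top
    have hI : ¬ I.comap (algebraMap B B2) ≤ P := fun hle => by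
      obtain ⟨Q, hIQ, hQ, hQP⟩ := Ideal.exists_ideal_over_prime_of_isIntegral P I hle
      obtain ⟨s, hs, hsb⟩ := hNloc ⟨Q, hQ, ⟨hQP.symm⟩⟩ (φK b) hbL
      exact hs (hIQ (Submodule.mem_colon_singleton.mpr (le_iSup N ⟨Q, hQ, ⟨hQP.symm⟩⟩ hsb)))
    obtain ⟨s, hsI, hsP⟩ := SetLike.not_le_iff_exists.mp hI
    refine ⟨s, hsP, ?_⟩
    show φK (s • b) ∈ N2
    rw [map_smul, ← IsScalarTower.algebraMap_smul B2 s]
    exact Submodule.mem_colon_singleton.mp hsI

end Groth.Agent.Nagata
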