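import Groth.Agent.Nagata.Basic
import Groth.Agent.S4562
import Groth.Agent.S0544
import Mathlib.FieldTheory.PurelyInseparable.Exponent
import Mathlib.LinearAlgebra.Dimension.Finite
import Mathlib.FieldTheory.IntermediateField.Adjoin.Basic
import Mathlib.FieldTheory.IsAlgClosed.AlgebraicClosure

/-!
# N-2 by completeness along a prime element
-/

set_option autoImplicit false
set_option linter.style.haveILetI false
universe u

namespace Groth.Agent.Nagata

/-- Frobenius nested domains: a bound on independent sets gives a bound on the fraction field. -/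
theorem finiteDimensional_frac {A C : Type u} [CommRing A] [IsDomain A] [CommRing C] [IsDomain C] [Algebra A C]
    [FaithfulSMul A C] {q : ℕ} (hq : 0 < q) (hpow : ∀ c : C, c ^ q ∈ (algebraMap A C).range) {n : ℕ}
    (hn : ∀ s : Finset C, (∀ g : C → A, ∑ c ∈ s, g c • c = 0 → ∀ c ∈ s, g c = 0) → s.card ≤ n)
    (k l : Type u) [Field k] [Algebra A k] [IsFractionRing A k] [Field l] [Algebra C l] [IsFractionRing C l]
    [Algebra A l] [IsScalarTower A C l] [Algebra k l] [IsScalarTower A k l] : FiniteDimensional k l := by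
  classical
  have hinjA : Function.Injective (algebraMap A l) := by
    rw [IsScalarTower.algebraMap_eq A C l]
    exact (IsFractionRing.injective C l).comp (FaithfulSMul.algebraMap_injective A C)
  -- every element becomes an element of `C` after scaling
  have hscale : ∀ z : l, ∃ a : A, a ≠ 0 ∧ ∃ c : C, algebraMap A l a * z = algebraMap C l c := fun z => by
    obtain ⟨c, d, hd, rfl⟩ := IsFractionRing.div_surjective C z
    obtain ⟨a, ha⟩ := hpow d
    have hd0 : d ≠ 0 := nonZeroDivisors.ne_zero hd
    refine ⟨a, fun h => pow_ne_zero q hd0 (by rw [← ha, h, map_zero]), c * d ^ (q - 1), ?_⟩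
    have hd' : algebraMap C l d ≠ 0 := fun h => hd0 (IsFractionRing.injective C l (h.trans (map_zero _).symm))
    rw [IsScalarTower.algebraMap_apply A C l, ha, map_mul, map_pow, map_pow, ← mul_div_assoc, div_eq_iff hd']
    have : algebraMap C l d ^ q = algebraMap C l d ^ (q - 1) * algebraMap C l d := by
      rw [← pow_succ, Nat.sub_add_cancel hq]
    rw [this]
    ring
  refine Module.rank_lt_aleph0_iff.mp ((rank_le fun s hs => ?_).trans_lt (Cardinal.natCast_lt_aleph0 (n := n)))
  choose a ha c hc using hscale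
  replace hs : ∀ g : l → k, ∑ v ∈ s, g v • v = 0 → ∀ v ∈ s, g v = 0 := fun g hg v hv =>
    Fintype.linearIndependent_iff.mp hs (fun w => g w)
      (by rw [← hg]; exact Finset.sum_coe_sort s (fun v => g v • v)) ⟨v, hv⟩
  have hinj : Set.InjOn c (s : Set l) := by
    intro z hz w hw hzw
    by_contra hne
    have h1 : algebraMap A l (a z) * z = algebraMap A l (a w) * w := by rw [hc z, hc w, hzw]
    have h2 := hs (fun v => if v = z then algebraMap A k (a z) else if v = w then -algebraMap A k (a w) else 0) (by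
      rw [Finset.sum_eq_add_of_mem z w hz hw hne fun v _ hv => by simp [hv.1, hv.2]]
      simp only [if_pos, if_neg (Ne.symm hne), Algebra.smul_def, map_neg, neg_mul, ← IsScalarTower.algebraMap_apply]
      rw [h1, add_neg_cancel]) z hz
    simp only [if_pos] at h2
    exact ha z (IsFractionRing.injective A k (h2.trans (map_zero _).symm))
  rw [← Finset.card_image_of_injOn hinj]
  refine hn _ fun g hg c' hc' => ?_
  obtain ⟨z, hz, rfl⟩ := Finset.mem_image.mp hc'
  rw [Finset.sum_image hinj] at hg
  have h2 := hs (fun v => algebraMap A k (g (c v) * a v)) (by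
    have h3 := congrArg (algebraMap C l) hg
    rw [map_sum, map_zero] at h3
    rw [← h3]
    refine Finset.sum_congr rfl fun v _ => ?_
    simp only [Algebra.smul_def, map_mul, ← IsScalarTower.algebraMap_apply]
    rw [mul_assoc, hc v]) z hz
  exact (mul_eq_zero.mp (IsFractionRing.injective A k (h2.trans (map_zero _).symm))).resolve_right (ha z)

/-- The purely inseparable case. -/
theorem finite_of_pow_mem (R : Type u) [CommRing R] [IsDomain R] [IsNoetherianRing R] [IsIntegrallyClosed R]
    (x : R) (hx : x ≠ 0) [(Ideal.span ({x} : Set R)).IsPrime] (h2 : CAlg.IsN2 (R ⧸ Ideal.span ({x} : Set R)))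
    [IsAdicComplete (Ideal.span ({x} : Set R)) R]
    (K L : Type u) [Field K] [Algebra R K] [IsFractionRing R K] [Field L] [Algebra R L] [Algebra K L]
    [IsScalarTower R K L] [FiniteDimensional K L] (q : ℕ) (hq : 0 < q)
    (hpow : ∀ z : L, z ^ q ∈ (algebraMap K L).range) (y : L) (hy : y ^ q = algebraMap R L x) :
    Module.Finite R (integralClosure R L) := by
  classical
  let B := integralClosure R L
  have hinj : Function.Injective (algebraMap R L) := by
    rw [IsScalarTower.algebraMap_eq R K L]
    exact (algebraMap K L).injective.comp (IsFractionRing.injective R K)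
  have hint : ∀ z : L, (∃ r, z ^ q = algebraMap R L r) → IsIntegral R z := fun z ⟨r, hr⟩ =>
    IsIntegral.of_pow hq (hr ▸ isIntegral_algebraMap)
  have hBq : ∀ b : B, ∃ r : R, (b : L) ^ q = algebraMap R L r := fun b => by
    obtain ⟨w, hw⟩ := hpow b
    have h1 : IsIntegral R w := (isIntegral_algebraMap_iff (algebraMap K L).injective).mp
      (hw ▸ (b.2 : IsIntegral R (b : L)).pow q)
    obtain ⟨r, hr⟩ := IsIntegrallyClosed.isIntegral_iff.mp h1
    exact ⟨r, by rw [← hw, ← hr, ← IsScalarTower.algebraMap_apply]⟩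
  choose ρ hρ using hBq
  have hρmul : ∀ b c, ρ (b * c) = ρ b * ρ c := fun b c => hinj (by
    rw [map_mul, ← hρ, ← hρ, ← hρ, Subalgebra.coe_mul, mul_pow])
  have hρalg : ∀ r : R, ρ (algebraMap R B r) = r ^ q := fun r => hinj (by
    rw [map_pow, ← hρ]
    rfl)
  let y' : B := ⟨y, hint y ⟨x, hy⟩⟩
  have hρy : ρ y' = x := hinj ((hρ y').symm.trans hy)
  have hy0 : y ≠ 0 := fun h => hx (hinj (by rw [map_zero, ← hy, h, zero_pow hq.ne']))
  let I := Ideal.span ({x} : Set R)
  let P : Ideal B := Ideal.span {y'}
  have hP : ∀ b, b ∈ P ↔ ρ b ∈ I := fun b => by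
    rw [Ideal.mem_span_singleton, Ideal.mem_span_singleton]
    constructor
    · rintro ⟨c, rfl⟩
      rw [hρmul, hρy]
      exact dvd_mul_right _ _
    · rintro ⟨r, hr⟩
      refine ⟨⟨(b : L) / y, hint _ ⟨r, ?_⟩⟩, Subtype.ext (mul_div_cancel₀ _ hy0).symm⟩
      rw [div_pow, hρ, hy, hr, map_mul]
      exact mul_div_cancel_left₀ _ fun h => hx (hinj (h.trans (map_zero _).symm))
  haveI hPp : P.IsPrime := by
    refine ⟨fun h => ?_, fun {b c} hbc => ?_⟩
    · have h1 := (hP 1).mp ((Ideal.eq_top_iff_one _).mp h)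
      have h3 : ρ 1 = 1 := hinj (by rw [map_one, ← hρ, Subalgebra.coe_one, one_pow])
      exact (inferInstance : I.IsPrime).ne_top ((Ideal.eq_top_iff_one _).mpr (h3 ▸ h1))
    · rw [hP, hP]
      exact (inferInstance : I.IsPrime).mem_or_mem (by rw [← hρmul]; exact (hP _).mp hbc)
  have hPI : ∀ r : R, algebraMap R B r ∈ P ↔ r ∈ I := fun r => by
    rw [hP, hρalg]
    exact ⟨(inferInstance : I.IsPrime).mem_of_pow_mem q, fun h => Ideal.pow_mem_of_mem _ h q hq⟩
  let Rb := R ⧸ I
  let Bb := B ⧸ P
  letI algb : Algebra Rb Bb := Ideal.Quotient.algebraQuotientOfLEComap (fun r hr => (hPI r).mpr hr)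
  haveI : IsScalarTower R Rb Bb := IsScalarTower.of_algebraMap_eq fun r => rfl
  haveI : FaithfulSMul Rb Bb := (faithfulSMul_iff_algebraMap_injective _ _).mpr <| by
    rw [injective_iff_map_eq_zero]
    intro z hz
    obtain ⟨r, rfl⟩ := Ideal.Quotient.mk_surjective z
    exact Ideal.Quotient.eq_zero_iff_mem.mpr ((hPI r).mp (Ideal.Quotient.eq_zero_iff_mem.mp hz))
  have hρ' : ∀ b : B, b ^ q = algebraMap R B (ρ b) := fun b => Subtype.ext (hρ b)
  have hpowb : ∀ z : Bb, z ^ q ∈ (algebraMap Rb Bb).range := fun z => by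
    obtain ⟨b, rfl⟩ := Ideal.Quotient.mk_surjective z
    refine ⟨Ideal.Quotient.mk I (ρ b), ?_⟩
    rw [← map_pow, hρ' b]
    rfl
  have hbound : ∀ s : Finset Bb, (∀ g : Bb → Rb, ∑ c ∈ s, g c • c = 0 → ∀ c ∈ s, g c = 0) →
      s.card ≤ Module.finrank K L := fun s hs => by
    choose b hb using fun c : Bb => Ideal.Quotient.mk_surjective c
    by_contra hlt
    have hdep : ¬ LinearIndependent K (fun c : s => ((b c : B) : L)) := fun hli => hlt (by
      have h5 := hli.fintype_card_le_finrank
      rwa [Fintype.card_coe] at h5)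
    rw [Fintype.not_linearIndependent_iff] at hdep
    obtain ⟨g, hg, c₀, hc₀⟩ := hdep
    obtain ⟨D, hD⟩ := IsLocalization.exist_integer_multiples (nonZeroDivisors R) Finset.univ g
    choose r hr using fun c : s => hD c (Finset.mem_univ c)
    have hr0 : r c₀ ≠ 0 := fun h => by
      have h1 := hr c₀
      rw [h, map_zero, Algebra.smul_def] at h1
      exact hc₀ ((mul_eq_zero.mp h1.symm).resolve_left fun h2 =>
        nonZeroDivisors.coe_ne_zero D (IsFractionRing.injective R K (h2.trans (map_zero _).symm)))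
    have hrel : ∑ c : s, algebraMap R B (r c) * b c = 0 := by
      refine Subtype.ext ?_
      have h1 : ∑ c : s, algebraMap R L (r c) * (b c : L) = 0 := by
        have h2 := congrArg (fun z => algebraMap R L (D : R) * z) hg
        simp only [mul_zero, Finset.mul_sum] at h2
        rw [← h2]
        refine Finset.sum_congr rfl fun c _ => ?_
        rw [Algebra.smul_def, ← mul_assoc]
        congr 1
        rw [IsScalarTower.algebraMap_apply R K L, hr c, Algebra.smul_def, map_mul, ← IsScalarTower.algebraMap_apply]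
      rw [AddSubmonoidClass.coe_finset_sum]
      exact h1
    -- remove the common powers of `x`
    obtain ⟨r', hrel', c₁, hc₁⟩ : ∃ r' : s → R, ∑ c : s, algebraMap R B (r' c) * b c = 0 ∧ ∃ c, r' c ∉ I := by
      by_contra hcon
      push Not at hcon
      have hall : ∀ k, ∃ r' : s → R, (∀ c, r c = x ^ k * r' c) ∧ ∑ c : s, algebraMap R B (r' c) * b c = 0 := by
        intro k
        induction k with
        | zero => exact ⟨r, fun c => by rw [pow_zero, one_mul], hrel⟩
        | succ k ih =>
          obtain ⟨r', h1, h2'⟩ := ih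
          choose w hw using fun c => Ideal.mem_span_singleton'.mp (hcon r' h2' c)
          refine ⟨w, fun c => by rw [h1 c, ← hw c]; ring, ?_⟩
          have hx0 : algebraMap R B x ≠ 0 := fun h => hx (hinj (by rw [map_zero]; exact congrArg Subtype.val h))
          refine (mul_eq_zero.mp ?_).resolve_left hx0
          rw [Finset.mul_sum, ← h2']
          refine Finset.sum_congr rfl fun c _ => ?_
          rw [← hw c, map_mul]
          ring
      refine hr0 (IsHausdorff.haus' (I := I) (r c₀) fun k => ?_)
      obtain ⟨r', h1, -⟩ := hall k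
      rw [SModEq.sub_mem, sub_zero, smul_eq_mul, Ideal.mul_top, h1 c₀]
      exact Ideal.mul_mem_right _ _ (Ideal.pow_mem_pow (Ideal.mem_span_singleton_self x) k)
    refine hc₁ (Ideal.Quotient.eq_zero_iff_mem.mp ?_)
    have h3 := hs (fun c => if h : c ∈ s then Ideal.Quotient.mk I (r' ⟨c, h⟩) else 0) (by
      rw [← Finset.sum_coe_sort]
      have h4 := congrArg (Ideal.Quotient.mk P) hrel'
      rw [map_sum, map_zero] at h4
      rw [← h4]
      refine Finset.sum_congr rfl fun c _ => ?_
      rw [dif_pos c.2, Algebra.smul_def, map_mul, hb]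
      rfl) c₁ c₁.2
    simpa only [dif_pos c₁.2] using h3
  -- the residue ring is finite
  letI := FractionRing.liftAlgebra Rb (FractionRing Bb)
  haveI : FiniteDimensional (FractionRing Rb) (FractionRing Bb) :=
    finiteDimensional_frac hq hpowb hbound (FractionRing Rb) (FractionRing Bb)
  haveI := h2 (FractionRing Bb) inferInstance
  haveI : Algebra.IsIntegral Rb Bb := ⟨fun z => by
    obtain ⟨a, ha⟩ := hpowb z
    exact IsIntegral.of_pow hq (ha ▸ isIntegral_algebraMap)⟩
  haveI : Module.Finite Rb Bb := by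
    haveI : IsNoetherian Rb (integralClosure Rb (FractionRing Bb)) :=
      isNoetherian_of_isNoetherianRing_of_finite Rb _
    let f : Bb →ₗ[Rb] integralClosure Rb (FractionRing Bb) :=
      { toFun := fun z => ⟨algebraMap Bb (FractionRing Bb) z, (Algebra.IsIntegral.isIntegral z).algebraMap⟩
        map_add' := fun z w => Subtype.ext (map_add _ z w)
        map_smul' := fun a z => Subtype.ext (by
          show algebraMap Bb (FractionRing Bb) (a • z) = a • algebraMap Bb (FractionRing Bb) z
          rw [Algebra.smul_def, Algebra.smul_def, map_mul, ← IsScalarTower.algebraMap_apply]) }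
    exact Module.Finite.of_injective f fun z w h => IsFractionRing.injective Bb (FractionRing Bb)
      (congrArg Subtype.val h)
  haveI : Module.Finite R Bb := Module.Finite.trans Rb Bb
  obtain ⟨m, g, hg⟩ := Module.Finite.exists_fin (R := R) (M := Bb)
  choose G hG using fun i => Ideal.Quotient.mk_surjective (g i)
  have hstep : ∀ b : B, ∃ v ∈ Submodule.span R (Set.range G), b - v ∈ P := fun b => by
    obtain ⟨cf, hcf⟩ := (Submodule.mem_span_range_iff_exists_fun R).mp (hg.ge (Submodule.mem_top (x := Ideal.Quotient.mk P b)))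
    refine ⟨∑ i, cf i • G i, sum_mem fun i _ => Submodule.smul_mem _ _ (Submodule.subset_span ⟨i, rfl⟩), ?_⟩
    rw [← Ideal.Quotient.eq, ← hcf, map_sum]
    refine Finset.sum_congr rfl fun i _ => ?_
    exact ((map_smul (Ideal.Quotient.mkₐ R P) (cf i) (G i)).trans (congrArg _ (hG i))).symm
  have hfilt : ∀ i, ∃ W : Submodule R B, W.FG ∧ ∀ b : B, ∃ v ∈ W, y' ^ i ∣ b - v := by
    intro i
    induction i with
    | zero => exact ⟨⊥, Submodule.fg_bot, fun b => ⟨0, zero_mem _, by rw [pow_zero]; exact one_dvd _⟩⟩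
    | succ i ih =>
      obtain ⟨W, hW, hWb⟩ := ih
      refine ⟨W ⊔ (Submodule.span R (Set.range G)).map (LinearMap.mulLeft R (y' ^ i)),
        hW.sup ((Submodule.fg_span (Set.finite_range G)).map _), fun b => ?_⟩
      obtain ⟨v, hv, c, hc⟩ := hWb b
      obtain ⟨v', hv', hc'⟩ := hstep c
      obtain ⟨d, hd⟩ := Ideal.mem_span_singleton.mp hc'
      refine ⟨v + y' ^ i * v', Submodule.add_mem_sup hv ⟨v', hv', rfl⟩, d, ?_⟩
      linear_combination hc + y' ^ i * hd
  have hyq : y' ^ q = algebraMap R B x := Subtype.ext hy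
  haveI : IsHausdorff I B := ⟨fun b hb' => Subtype.ext (by
    have hmem : ∀ k, ρ b ∈ I ^ k := fun k => by
      have h1 := hb' k
      rw [SModEq.sub_mem, sub_zero, Ideal.smul_top_eq_map, Submodule.restrictScalars_mem, Ideal.map_pow,
        Ideal.map_span, Set.image_singleton, Ideal.span_singleton_pow, Ideal.mem_span_singleton] at h1
      obtain ⟨c, rfl⟩ := h1
      rw [hρmul, ← map_pow, hρalg, ← pow_mul]
      refine Ideal.mul_mem_right _ _ (Ideal.pow_le_pow_right ?_ (Ideal.pow_mem_pow (Ideal.mem_span_singleton_self x) _))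
      exact Nat.le_mul_of_pos_right k hq
    have h2 : ρ b = 0 := IsHausdorff.haus' (I := I) _ fun k => by
      rw [SModEq.sub_mem, sub_zero, smul_eq_mul, Ideal.mul_top]
      exact hmem k
    have h3 := hρ b
    rw [h2, map_zero] at h3
    exact pow_eq_zero_iff hq.ne' |>.mp h3)⟩
  haveI : Module.Finite R (B ⧸ (I • ⊤ : Submodule R B)) := by
    obtain ⟨W, hW, hWb⟩ := hfilt q
    haveI : Module.Finite R W := Module.Finite.iff_fg.mpr hW
    refine Module.Finite.of_surjective ((I • ⊤ : Submodule R B).mkQ ∘ₗ W.subtype) fun z => ?_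
    obtain ⟨b, rfl⟩ := Submodule.mkQ_surjective _ z
    obtain ⟨v, hv, hd⟩ := hWb b
    refine ⟨⟨v, hv⟩, ?_⟩
    show Submodule.mkQ _ v = Submodule.mkQ _ b
    rw [Submodule.mkQ_apply, Submodule.mkQ_apply, eq_comm, Submodule.Quotient.eq, Ideal.smul_top_eq_map,
      Submodule.restrictScalars_mem, Ideal.map_span, Set.image_singleton, Ideal.mem_span_singleton, ← hyq]
    exact hd
  exact S0544.result R I B inferInstance

theorem isN2_of_complete_span (R : Type u) [CommRing R] [IsDomain R] [IsNoetherianRing R] [IsIntegrallyClosed R]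
    (x : R) [(Ideal.span ({x} : Set R)).IsPrime] (h2 : CAlg.IsN2 (R ⧸ Ideal.span ({x} : Set R)))
    [IsAdicComplete (Ideal.span ({x} : Set R)) R] : CAlg.IsN2 R := by
  by_cases hx : x = 0
  · subst hx
    exact isN2_of_ringEquiv ((Ideal.quotEquivOfEq (Ideal.span_singleton_eq_bot.mpr rfl)).trans
      (RingEquiv.quotientBot R)) h2
  refine S4562.result R fun K' _ _ _ _ hfd hpi => ?_
  let K := FractionRing R
  haveI : FiniteDimensional K K' := hfd
  haveI : IsPurelyInseparable K K' := hpi
  obtain ⟨p, hp⟩ := ExpChar.exists K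
  let e := IsPurelyInseparable.exponent K K'
  let Ω := AlgebraicClosure K'
  haveI : ExpChar Ω p := expChar_of_injective_algebraMap (algebraMap K Ω).injective p
  have hq : 0 < p ^ e := pow_pos (expChar_pos K p) e
  obtain ⟨y, hy⟩ := IsAlgClosed.exists_pow_nat_eq (algebraMap R Ω x) hq
  let F : IntermediateField K Ω :=
    { ((algebraMap K Ω).fieldRange.comap (iterateFrobenius Ω p e)) with
      algebraMap_mem' := fun a => by
        refine ⟨a ^ p ^ e, ?_⟩
        show algebraMap K Ω (a ^ p ^ e) = iterateFrobenius Ω p e (algebraMap K Ω a)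
        rw [iterateFrobenius_def, map_pow] }
  let ι : K' →ₐ[K] Ω := IsScalarTower.toAlgHom K K' Ω
  let L : IntermediateField K Ω := ι.fieldRange ⊔ IntermediateField.adjoin K {y}
  have hLF : L ≤ F := by
    refine sup_le ?_ (IntermediateField.adjoin_le_iff.mpr ?_)
    · rintro _ ⟨z, rfl⟩
      obtain ⟨w, hw⟩ := IsPurelyInseparable.exponent_def' K p z
      refine ⟨w, ?_⟩
      show algebraMap K Ω w = iterateFrobenius Ω p e (ι z)
      rw [iterateFrobenius_def, ← map_pow, ← hw]
      exact (ι.commutes w).symm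
    · intro z (hz : z = y)
      subst hz
      refine ⟨algebraMap R K x, ?_⟩
      show algebraMap K Ω (algebraMap R K x) = iterateFrobenius Ω p e z
      rw [iterateFrobenius_def, hy, ← IsScalarTower.algebraMap_apply]
  haveI : FiniteDimensional K (IntermediateField.adjoin K ({y} : Set Ω)) :=
    IntermediateField.adjoin.finiteDimensional (Algebra.IsIntegral.isIntegral y)
  haveI : FiniteDimensional K ι.fieldRange := Module.Finite.equiv ι.equivFieldRange.toLinearEquiv
  haveI : FiniteDimensional K L := IntermediateField.finiteDimensional_sup _ _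
  have hyL : y ∈ L := le_sup_right (a := ι.fieldRange) (IntermediateField.mem_adjoin_simple_self K y)
  haveI := finite_of_pow_mem R x hx h2 K L (p ^ e) hq (fun z => by
      obtain ⟨w, hw⟩ := hLF z.2
      exact ⟨w, Subtype.ext (hw.trans (iterateFrobenius_def p e (z : Ω)))⟩)
    ⟨y, hyL⟩ (Subtype.ext hy)
  let j : K' →ₐ[K] L := (IntermediateField.inclusion le_sup_left).comp ι.equivFieldRange.toAlgHom
  exact finite_closure_of_algHom (j.restrictScalars R) j.injective inferInstance

end Groth.Agent.Nagata
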