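import Groth.Agent.Nagata.Japanese
import Mathlib.RingTheory.PowerSeries.Basic
import Mathlib.FieldTheory.IsAlgClosed.AlgebraicClosure
import Mathlib.FieldTheory.IntermediateField.Adjoin.Algebra

/-!
# Descent of the N-2 property along finite extensions
-/

set_option autoImplicit false
set_option linter.style.haveILetI false
universe u

namespace Groth.Agent.Nagata

attribute [local instance] FractionRing.liftAlgebra

/-- If a finite extension of a Noetherian domain is N-2, so is the domain. -/
theorem isN2_of_finite_extension {A C : Type u} [CommRing A] [IsDomain A] [IsNoetherianRing A] [CommRing C] [IsDomain C]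
    [Algebra A C] [Module.Finite A C] [FaithfulSMul A C] (hC : CAlg.IsN2 C) : CAlg.IsN2 A := by
  intro L _ _ _ _ hfd
  let K := FractionRing A
  haveI : FiniteDimensional K L := hfd
  let F := FractionRing C
  let M := AlgebraicClosure F
  haveI : IsScalarTower A K M := IsScalarTower.of_algebraMap_eq fun a => by
    rw [IsScalarTower.algebraMap_apply K F M, ← IsScalarTower.algebraMap_apply A K F, ← IsScalarTower.algebraMap_apply A F M]
  let ι : L →ₐ[K] M := IsAlgClosed.lift
  let b := Module.finBasis K L
  let E : IntermediateField F M := IntermediateField.adjoin F (Set.range fun i => ι (b i))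
  haveI : FiniteDimensional F E := IntermediateField.finiteDimensional_adjoin fun z hz => by
    obtain ⟨i, rfl⟩ := hz
    exact ((Algebra.IsIntegral.isIntegral (R := K) (b i)).map ι).tower_top
  have hmem : ∀ z : L, ι z ∈ E := fun z => by
    rw [← b.sum_repr z, map_sum]
    refine sum_mem fun i _ => ?_
    rw [map_smul, ← IsScalarTower.algebraMap_smul F (b.repr z i) (ι (b i)), Algebra.smul_def]
    exact mul_mem (E.algebraMap_mem _) (IntermediateField.subset_adjoin F _ ⟨i, rfl⟩)
  haveI : IsScalarTower A C E := IsScalarTower.of_algebraMap_eq fun a => Subtype.ext (by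
    show algebraMap A M a = algebraMap C M (algebraMap A C a)
    rw [← IsScalarTower.algebraMap_apply])
  let j : L →ₐ[A] E :=
    { toFun := fun z => ⟨ι z, hmem z⟩
      map_one' := Subtype.ext (map_one ι)
      map_mul' := fun a b => Subtype.ext (map_mul ι a b)
      map_zero' := Subtype.ext (map_zero ι)
      map_add' := fun a b => Subtype.ext (map_add ι a b)
      commutes' := fun a => Subtype.ext (by
        show ι (algebraMap A L a) = algebraMap A M a
        rw [IsScalarTower.algebraMap_apply A K L, ι.commutes, ← IsScalarTower.algebraMap_apply]) }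
  haveI : IsScalarTower C F E := IsScalarTower.of_algebraMap_eq fun c => Subtype.ext (by
    show algebraMap C M c = algebraMap F M (algebraMap C F c)
    rw [← IsScalarTower.algebraMap_apply])
  exact finite_closure_of_algHom j (fun a b h => ι.injective (congrArg Subtype.val h))
    (finite_closure_of_tower (finite_closure_of_frac hC F E))

/-- Power series over a finite algebra. -/
theorem finite_powerSeries {A C : Type u} [CommRing A] [CommRing C] [Algebra A C] [Module.Finite A C]
    [Algebra (PowerSeries A) (PowerSeries C)]
    (h : algebraMap (PowerSeries A) (PowerSeries C) = PowerSeries.map (algebraMap A C)) :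
    Module.Finite (PowerSeries A) (PowerSeries C) := by
  classical
  obtain ⟨n, s, hs⟩ := Module.Finite.exists_fin (R := A) (M := C)
  refine ⟨⟨Finset.univ.image fun j => PowerSeries.C (s j), eq_top_iff.mpr fun f _ => ?_⟩⟩
  have hc : ∀ k, ∃ a : Fin n → A, ∑ j, a j • s j = PowerSeries.coeff k f := fun k =>
    (Submodule.mem_span_range_iff_exists_fun A).mp (hs ▸ Submodule.mem_top)
  choose a ha using hc
  have hf : f = ∑ j, (PowerSeries.mk fun k => a k j) • PowerSeries.C (s j) := PowerSeries.ext fun k => by
    rw [map_sum, ← ha k]
    refine Finset.sum_congr rfl fun j _ => ?_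
    rw [Algebra.smul_def (A := PowerSeries C), h, PowerSeries.coeff_mul_C, PowerSeries.coeff_map, PowerSeries.coeff_mk,
      Algebra.smul_def]
  rw [hf]
  exact sum_mem fun j _ => Submodule.smul_mem _ _ (Submodule.subset_span (by simp))

end Groth.Agent.Nagata
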