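import Groth.Agent.Nagata.Dense
import Groth.Agent.DQCoh.PCCalc
import Groth.Agent.QC.Closure
import Groth.Agent.DerPerf.Local

/-!
# Modules on a disjoint union
-/

set_option autoImplicit false
set_option linter.style.haveILetI false
set_option backward.isDefEq.respectTransparency false

universe u

open CategoryTheory CategoryTheory.Limits AlgebraicGeometry TopologicalSpace Opposite

noncomputable section

namespace Groth.Agent.Nagata

variable {Y₁ Y₂ Z : Scheme.{u}} (f₁ : Y₁ ⟶ Z) (f₂ : Y₂ ⟶ Z) [IsOpenImmersion f₁] [IsOpenImmersion f₂]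

instance additive_restrictFunctor : (Scheme.Modules.restrictFunctor f₁).Additive :=
  haveI := preservesBinaryBiproducts_of_preservesBinaryCoproducts (Scheme.Modules.restrictFunctor f₁)
  Functor.additive_of_preservesBinaryBiproducts _

theorem isZero_restrict_pushforward (hd : ∀ a b, f₁ a ≠ f₂ b) (N : Y₂.Modules) :
    IsZero ((Scheme.Modules.restrictFunctor f₁).obj ((Scheme.Modules.pushforward f₂).obj N)) := by
  rw [IsZero.iff_id_eq_zero]
  refine Scheme.Modules.hom_ext _ _ fun W => ?_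
  ext s
  refine QC.section_eq_of_locally (M := N) (U := f₂ ⁻¹ᵁ (f₁ ''ᵁ W)) fun x hx => ?_
  exfalso
  obtain ⟨a, -, ha⟩ := hx
  exact hd a x ha

/-- The decomposition map. -/
def decomp (M : Z.Modules) : M ⟶ (Scheme.Modules.pushforward f₁).obj ((Scheme.Modules.restrictFunctor f₁).obj M) ⊞
    (Scheme.Modules.pushforward f₂).obj ((Scheme.Modules.restrictFunctor f₂).obj M) :=
  biprod.lift ((Scheme.Modules.restrictAdjunction f₁).unit.app M) ((Scheme.Modules.restrictAdjunction f₂).unit.app M)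

theorem isIso_restrict_unit (M : Z.Modules) :
    IsIso ((Scheme.Modules.restrictFunctor f₁).map ((Scheme.Modules.restrictAdjunction f₁).unit.app M)) := by
  haveI : IsIso ((Scheme.Modules.restrictFunctor f₁).map ((Scheme.Modules.restrictAdjunction f₁).unit.app M) ≫
      (Scheme.Modules.restrictAdjunction f₁).counit.app ((Scheme.Modules.restrictFunctor f₁).obj M)) := by
    erw [Adjunction.left_triangle_components]; infer_instance
  exact IsIso.of_isIso_comp_right _ ((Scheme.Modules.restrictAdjunction f₁).counit.app _)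

theorem isIso_map_lift {A B C : Z.Modules} (F : Z.Modules ⥤ Y₁.Modules) [F.Additive] (a : A ⟶ B) (c : A ⟶ C)
    [IsIso (F.map a)] (hC : IsZero (F.obj C)) : IsIso (F.map (biprod.lift a c)) := by
  haveI : IsIso (F.map (biprod.fst : B ⊞ C ⟶ B)) := by
    refine ⟨F.map biprod.inl, ?_, ?_⟩
    · have h := congrArg (fun k => F.map k) (biprod.total (X := B) (Y := C))
      simp only [Functor.map_add, Functor.map_comp, CategoryTheory.Functor.map_id] at h
      rw [hC.eq_of_tgt (F.map (biprod.snd : B ⊞ C ⟶ C)) 0, zero_comp, add_zero] at h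
      exact h
    · rw [← F.map_comp, biprod.inl_fst, F.map_id]
  haveI : IsIso (F.map (biprod.lift a c) ≫ F.map biprod.fst) := by
    rw [← F.map_comp, biprod.lift_fst]; infer_instance
  exact IsIso.of_isIso_comp_right _ (F.map biprod.fst)

theorem isIso_map_lift' {A B C : Z.Modules} (F : Z.Modules ⥤ Y₁.Modules) [F.Additive] (a : A ⟶ B) (c : A ⟶ C)
    [IsIso (F.map c)] (hB : IsZero (F.obj B)) : IsIso (F.map (biprod.lift a c)) := by
  haveI : IsIso (F.map (biprod.snd : B ⊞ C ⟶ C)) := by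
    refine ⟨F.map biprod.inr, ?_, ?_⟩
    · have h := congrArg (fun k => F.map k) (biprod.total (X := B) (Y := C))
      simp only [Functor.map_add, Functor.map_comp, CategoryTheory.Functor.map_id] at h
      rw [hB.eq_of_tgt (F.map (biprod.fst : B ⊞ C ⟶ B)) 0, zero_comp, zero_add] at h
      exact h
    · rw [← F.map_comp, biprod.inr_snd, F.map_id]
  haveI : IsIso (F.map (biprod.lift a c) ≫ F.map biprod.snd) := by
    rw [← F.map_comp, biprod.lift_snd]; infer_instance
  exact IsIso.of_isIso_comp_right _ (F.map biprod.snd)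

theorem isIso_decomp (hcov : ∀ z, z ∈ Set.range f₁ ∨ z ∈ Set.range f₂) (hd : ∀ a b, f₁ a ≠ f₂ b) (M : Z.Modules) :
    IsIso (decomp f₁ f₂ M) := by
  let Y : Bool → Scheme.{u} := fun b => cond b Y₁ Y₂
  let f : ∀ b, Y b ⟶ Z := fun b => match b with | true => f₁ | false => f₂
  haveI : ∀ b, IsOpenImmersion (f b) := fun b => match b with
    | true => inferInstanceAs (IsOpenImmersion f₁)
    | false => inferInstanceAs (IsOpenImmersion f₂)
  refine QC.isIso_of_restrict_cover f (fun z => (hcov z).elim (fun h => ⟨true, h⟩) fun h => ⟨false, h⟩) _ ?_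
  rintro (_ | _)
  · show IsIso ((Scheme.Modules.restrictFunctor f₂).map (biprod.lift _ _))
    haveI := isIso_restrict_unit f₂ M
    exact isIso_map_lift' _ _ _ (isZero_restrict_pushforward f₂ f₁ (fun a b h => hd b a h.symm) _)
  · show IsIso ((Scheme.Modules.restrictFunctor f₁).map (biprod.lift _ _))
    haveI := isIso_restrict_unit f₁ M
    exact isIso_map_lift _ _ _ (isZero_restrict_pushforward f₁ f₂ hd _)

/-- Modules on the pieces glue. -/
theorem exists_glue_modules (hcov : ∀ z, z ∈ Set.range f₁ ∨ z ∈ Set.range f₂) (hd : ∀ a b, f₁ a ≠ f₂ b)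
    (M₁ : Y₁.Modules) (M₂ : Y₂.Modules) (h₁ : FlatMod.IsFinLocFree M₁) (h₂ : FlatMod.IsFinLocFree M₂) :
    ∃ M : Z.Modules, FlatMod.IsFinLocFree M ∧ Nonempty ((Scheme.Modules.pullback f₁).obj M ≅ M₁) ∧
      Nonempty ((Scheme.Modules.pullback f₂).obj M ≅ M₂) := by
  let A₁ := (Scheme.Modules.pushforward f₁).obj M₁
  let A₂ := (Scheme.Modules.pushforward f₂).obj M₂
  let R₁ := Scheme.Modules.restrictFunctor f₁
  let R₂ := Scheme.Modules.restrictFunctor f₂
  haveI := preservesBinaryBiproducts_of_preservesBinaryCoproducts R₁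
  haveI := preservesBinaryBiproducts_of_preservesBinaryCoproducts R₂
  have e₁ : R₁.obj (A₁ ⊞ A₂) ≅ M₁ := R₁.mapBiprod A₁ A₂ ≪≫
    (isoBiprodZero (X := R₁.obj A₁) (isZero_restrict_pushforward f₁ f₂ hd M₂)).symm ≪≫
      (asIso (Scheme.Modules.restrictAdjunction f₁).counit).app M₁
  have e₂ : R₂.obj (A₁ ⊞ A₂) ≅ M₂ := R₂.mapBiprod A₁ A₂ ≪≫
    biprod.braiding _ _ ≪≫ (isoBiprodZero (X := R₂.obj A₂) (isZero_restrict_pushforward f₂ f₁ (fun a b h => hd b a h.symm) M₁)).symm ≪≫
      (asIso (Scheme.Modules.restrictAdjunction f₂).counit).app M₂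
  refine ⟨A₁ ⊞ A₂, fun z => ?_, ⟨((Scheme.Modules.restrictFunctorIsoPullback f₁).app _).symm ≪≫ e₁⟩,
    ⟨((Scheme.Modules.restrictFunctorIsoPullback f₂).app _).symm ≪≫ e₂⟩⟩
  have key : ∀ {Y : Scheme.{u}} (f : Y ⟶ Z) [IsOpenImmersion f],
      FlatMod.IsFinLocFree ((Scheme.Modules.restrictFunctor f).obj (A₁ ⊞ A₂)) → z ∈ Set.range f →
      ∃ (U : Z.Opens) (n : ℕ), z ∈ U ∧ Nonempty ((A₁ ⊞ A₂).restrict U.ι ≅ FlatMod.freeMod (↑U) n) := by
    rintro Y f _ hf ⟨y, rfl⟩
    obtain ⟨V, n, hy, ⟨e⟩⟩ := hf y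
    let U : Z.Opens := f ''ᵁ V
    let c : V.toScheme ≅ U.toScheme := f.isoImage V
    have hc : c.inv ≫ V.ι ≫ f = U.ι := f.isoImage_inv_ι V
    refine ⟨U, n, ⟨y, hy, rfl⟩, ⟨(Scheme.Modules.restrictFunctorIsoPullback U.ι).app _ ≪≫
      (Scheme.Modules.pullbackCongr hc).symm.app _ ≪≫ (Scheme.Modules.pullbackComp c.inv (V.ι ≫ f)).symm.app _ ≪≫
      (Scheme.Modules.pullback c.inv).mapIso ((Scheme.Modules.pullbackComp V.ι f).symm.app _ ≪≫
        ((Scheme.Modules.restrictFunctorIsoPullback V.ι).app _).symm ≪≫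
        (Scheme.Modules.restrictFunctor V.ι).mapIso ((Scheme.Modules.restrictFunctorIsoPullback f).app _).symm ≪≫ e) ≪≫
      DerPerf.pullFreeIso c.inv n⟩⟩
  rcases hcov z with h | h
  · exact key f₁ (DQCoh.isFinLocFree_of_iso' e₁.symm h₁) h
  · exact key f₂ (DQCoh.isFinLocFree_of_iso' e₂.symm h₂) h

/-- Modules agreeing on the pieces are isomorphic. -/
theorem nonempty_iso_of_pieces (hcov : ∀ z, z ∈ Set.range f₁ ∨ z ∈ Set.range f₂) (hd : ∀ a b, f₁ a ≠ f₂ b)
    (M N : Z.Modules) (e₁ : (Scheme.Modules.pullback f₁).obj M ≅ (Scheme.Modules.pullback f₁).obj N)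
    (e₂ : (Scheme.Modules.pullback f₂).obj M ≅ (Scheme.Modules.pullback f₂).obj N) : Nonempty (M ≅ N) := by
  haveI := isIso_decomp f₁ f₂ hcov hd M
  haveI := isIso_decomp f₁ f₂ hcov hd N
  let a := (Scheme.Modules.restrictFunctorIsoPullback f₁).app M ≪≫ e₁ ≪≫ ((Scheme.Modules.restrictFunctorIsoPullback f₁).app N).symm
  let b := (Scheme.Modules.restrictFunctorIsoPullback f₂).app M ≪≫ e₂ ≪≫ ((Scheme.Modules.restrictFunctorIsoPullback f₂).app N).symm
  exact ⟨asIso (decomp f₁ f₂ M) ≪≫ biprod.mapIso ((Scheme.Modules.pushforward f₁).mapIso a)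
    ((Scheme.Modules.pushforward f₂).mapIso b) ≪≫ (asIso (decomp f₁ f₂ N)).symm⟩

end Groth.Agent.Nagata
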