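import Groth.Agent.Nagata.Dense
import Groth.Agent.QC.FTIdeal

/-!
# Compactifications with a divisor as boundary
-/

set_option autoImplicit false
set_option linter.style.haveILetI false
set_option backward.isDefEq.respectTransparency false
set_option backward.isDefEq.respectTransparency.types false

universe u

open CategoryTheory CategoryTheory.Limits AlgebraicGeometry TopologicalSpace Topology

noncomputable section

namespace Groth.Agent.Nagata

variable {X S : Scheme.{u}}

/-- The boundary made a divisor. -/
theorem exists_divisor [IsNoetherian S] {Y : Scheme.{u}} (j : X ⟶ Y) [IsOpenImmersion j] [QuasiCompact j] (p : Y ⟶ S)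
    [IsProper p] :
    ∃ (Y' : Scheme.{u}) (π : Y' ⟶ Y) (j' : X ⟶ Y') (E : Y'.IdealSheafData), IsOpenImmersion j' ∧ IsProper π ∧
      j' ≫ π = j ∧ BlowUp.IsEffCartierIdeal E ∧ (E.support : Set Y') = (Set.range j'.base)ᶜ := by
  haveI : CompactSpace Y := QuasiCompact.compactSpace_of_compactSpace p
  haveI : QuasiSeparatedSpace Y := quasiSeparatedSpace_of_quasiSeparated p
  have hr : (j.opensRange : Set Y) = Set.range j := rfl
  obtain ⟨I, -, -, -, -, -, -, -, hI⟩ := QC.exists_ftIdeal j.opensRange
    (by
      haveI := LocallyOfFiniteType.isLocallyNoetherian p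
      haveI : IsNoetherian Y := {}
      exact NoetherianSpace.isCompact _)
  have hd : Disjoint (I.support : Set Y) (Set.range j) := by
    rw [hI, hr]; exact disjoint_compl_left
  obtain ⟨Y', π, j', _, hπ, _, hj'⟩ := exists_blowUp_step j p I hd
  refine ⟨Y', π, j', I.comap π, inferInstance, inferInstance, hj', hπ.1, ?_⟩
  rw [Scheme.IdealSheafData.support_comap, Closeds.coe_preimage, hI, hr, Set.preimage_compl, compl_inj_iff]
  refine subset_antisymm (fun y hy => ?_) ?_
  · obtain ⟨a, ha⟩ := hy
    refine ⟨a, RZExt.eq_of_isBlowUp hπ (fun h => ?_) (by rw [← Scheme.Hom.comp_apply, hj', ha])⟩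
    exact Set.disjoint_left.1 hd h ⟨a, by rw [← Scheme.Hom.comp_apply, hj']⟩
  · rintro _ ⟨a, rfl⟩
    exact ⟨a, by rw [← Scheme.Hom.comp_apply, hj']⟩

end Groth.Agent.Nagata
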